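import Cfsg.Agent.H759.RIM.SuzUp_m3
import Cfsg.Agent.H643.RIM.Wrap_mg_m3
import Cfsg.Agent.H582.Sq.E78_m3
import Cfsg.Agent.H53.HC.Exc
import Cfsg.Agent.H353.IMC.E67
import Cfsg.Agent.H65.MultE
import Cfsg.Agent.H68.Bounds
import Cfsg.Agent.H665.RIM.Defs
import Mathlib
import Cfsg.Prelude.Def_Classical
import Cfsg.Agent.UGT.U2.Rec.Congr
import Cfsg.Agent.H302.RIM.Five_mg_m3
import Cfsg.Agent.H588.RIM.Val_m3
import Cfsg.Agent.H175.BdSp_m3
import Cfsg.Agent.Characters.Core
import Cfsg.Agent.Blocks.Basic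
import Cfsg.Agent.H643.QO.Cov_m3
import Cfsg.Agent.S2095
import Cfsg.Agent.Lib.Refl
import Cfsg.Agent.Lib.MatDec
import Cfsg.Agent.H535.RIM.Ov2
import Cfsg.Agent.H908.RIM.Eng_m3
import Cfsg.Agent.H849.OZ.Bad_m3
import Cfsg.Agent.S2046
import Cfsg.Agent.H417.JThreeCols
import Cfsg.Agent.H153.RM.J23
import Cfsg.Agent.S2041
import Cfsg.Agent.HN.AutHS
import Cfsg.Agent.H95.StemCover
import Cfsg.Agent.H620.RIM.Nb
import Cfsg.Agent.H187.FiOdd.Cent_m3
import Cfsg.Agent.S1698
import Cfsg.Agent.S0135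
import Cfsg.Agent.H121.K6.HS
import Cfsg.Agent.H904.HSIso
import Cfsg.Agent.H535.RIM.ON
import Cfsg.Agent.H756.RIM.Bridge_m3
import Cfsg.Agent.Lib.SieveFast
import Cfsg.Agent.H24.M12.Pow
import Cfsg.Agent.H109.QO.MTwelve
import Cfsg.Agent.MTwelveType.SylowModel
import Cfsg.Agent.S2035
import Cfsg.Agent.CharactersDeep.MackeyLinear
import Cfsg.Agent.OddOrderCharacters.PF9.Mackey
import Cfsg.Agent.H648.Loc.Value_m3
import Cfsg.Agent.H388.RI.FiW_m3
import Cfsg.Agent.Schreier.ChevIso_m3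
import Cfsg.Agent.H142.McKayCount
import Cfsg.Agent.H835.SylFive_m3
import Cfsg.Agent.KFacts.FiTT.AllPairs
import Cfsg.Agent.H968.Tor.FiFour
import Cfsg.Agent.H153.Dl.RFi24
import Cfsg.Agent.H843.One
import Cfsg.Agent.H843.N17
import Cfsg.Agent.H843.N23
import Cfsg.Agent.H843.N29
import Cfsg.Agent.S2055
import Cfsg.Agent.Lib.PermNetFast
import Cfsg.Agent.FastGrp
import Cfsg.Agent.Prune
set_option linter.all false

section
prune_inst 0x7fccacf82ba8addeffff7e3ffed8dffc11808fffe6dff943ffe0619f8b9f03000bc5fbaf8de018fe1e76e29410b87813e97ecabfe863dc7ffffd5ff41ffbee0fe5fe35045190b4241ffc4ffe93f07f8a6f3fffffffffffffffffffffffffffbefffffbfeffff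

-- part: H759/RIM/SuzTr
section
prune_inst 0x4010000
set_option linter.all false
open scoped Cfsg.Agent.FastGrp

/-!
# S4816, row `Suz`: traces in the representation of degree 12 over the field with 7 elements (helper759)
-/

set_option autoImplicit false
set_option maxRecDepth 1000000
set_option exponentiation.threshold 5000
set_option linter.unusedSectionVars false

namespace Cfsg.Agent.H759.RIM.SuzTr

open Cfsg Subgroup Cfsg.Agent.H759.RIM.SuzS Cfsg.Agent.H759.RIM.SuzY
open Cfsg.Spor (Suz)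
open Cfsg.Agent.H123.Cls.SuzDat (gn)
open Cfsg.Agent.H257.OZ Cfsg.Agent.H257.OZ.SuzF Cfsg.Agent.H123.Cls Cfsg.Agent.H123.Cls.SuzDat
open Cfsg.Agent.Lib.BitNet
open Cfsg.Agent.Lib.PackMat (okG checkEq checkScalar)
open Cfsg.Agent.H58.SuzRep (M12 C12 Y q q_surj q_ker z z_mem q_z ok_W mk prod_eq center_of_q)
open Cfsg.Agent.H622.Over (Lies Good)
open Cfsg.Agent.H714.RIM.SuzCount (SGood eq_rep dat T6)

universe u

theorem exists_scal {w : Y} (h : q w = 1) : ∃ c : ZMod 7, ((w : M12ˣ) : M12) = c • (1 : M12) := by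
  have h1 := center_of_q h
  obtain ⟨r, hr⟩ := Matrix.GeneralLinearGroup.mem_center_iff_val_mem_range_scalar.1 h1
  exact ⟨r, by rw [← hr, Matrix.scalar_apply, Matrix.smul_one_eq_diagonal]⟩

/-- the trace of an element of the cover -/
noncomputable def tr (y : Y) : ZMod 7 := Matrix.trace ((y : M12ˣ) : M12)

theorem tr_conj (y v : Y) : tr (v * y * v⁻¹) = tr y := by
  have h1 : (((v * y * v⁻¹ : Y) : M12ˣ) : M12) = ((v : M12ˣ) : M12) * ((y : M12ˣ) : M12) * (((v : M12ˣ)⁻¹ : M12ˣ) : M12) := by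
    rw [Subgroup.coe_mul, Subgroup.coe_mul, Units.val_mul, Units.val_mul]; rfl
  rw [tr, h1, Matrix.trace_mul_comm, ← mul_assoc, Units.inv_mul, one_mul]
  rfl

theorem tr_mul {w : Y} {c : ZMod 7} (h : ((w : M12ˣ) : M12) = c • (1 : M12)) (y : Y) : tr (y * w) = c * tr y := by
  rw [tr, Subgroup.coe_mul, Units.val_mul, h, mul_smul_comm, mul_one, Matrix.trace_smul, smul_eq_mul]
  rfl

variable {K : Type u} [Group K] {E : Type u} [Group E] [Finite E] {π : E →* K} {e : K ≃* Suz} {l : π.ker →* ℂˣ}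
  {θ : Y →* E}

/-- **Elements with trace different from zero are good.** -/
theorem good_of_tr (hθ : Function.Surjective θ) (hq : ∀ y, e (π (θ y)) = q y) {y : Y} (ht : tr y ≠ 0) :
    SGood π e l (q y) := by
  intro x hx u hu
  obtain ⟨y0, rfl⟩ := hθ x
  obtain ⟨v, rfl⟩ := hθ u
  rw [hq] at hx
  -- the trace of `y0`
  have h0 : tr y0 ≠ 0 := by
    intro h0
    apply ht
    obtain ⟨c, hc⟩ := exists_scal (w := y0⁻¹ * y) (by rw [map_mul, map_inv, hx, inv_mul_cancel])
    have h1 := tr_mul hc y0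
    rw [mul_inv_cancel_left, h0, mul_zero] at h1
    exact h1
  have hw : q (v⁻¹ * y0⁻¹ * v * y0) = 1 := by
    rw [← hq]
    have h1 := MonoidHom.mem_ker.1 hu
    rw [← map_inv, ← map_inv, ← map_mul, ← map_mul, ← map_mul] at h1
    rw [h1, map_one]
  obtain ⟨c, hc⟩ := exists_scal hw
  have h2 := tr_mul hc (v⁻¹ * y0 * v)
  have h4 : c = 1 := by
    have h3 : v⁻¹ * y0 * v * (v⁻¹ * y0⁻¹ * v * y0) = y0 := by group
    have h5 := tr_conj y0 v⁻¹
    rw [inv_inv] at h5
    rw [h3, h5] at h2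
    have h6 : (c - 1) * tr y0 = 0 := by rw [sub_mul, one_mul, ← h2, sub_self]
    rcases mul_eq_zero.1 h6 with h7 | h7
    · exact sub_eq_zero.1 h7
    · exact absurd h7 h0
  have h5 : v⁻¹ * y0⁻¹ * v * y0 = 1 := by
    apply Subtype.ext
    apply Units.ext
    rw [hc, h4, one_smul]
    rfl
  have h6 : (⟨(θ v)⁻¹ * (θ y0)⁻¹ * θ v * θ y0, hu⟩ : π.ker) = 1 := by
    apply Subtype.ext
    change (θ v)⁻¹ * (θ y0)⁻¹ * θ v * θ y0 = 1
    rw [← map_inv, ← map_inv, ← map_mul, ← map_mul, ← map_mul, h5, map_one]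
  rw [h6, map_one]

theorem tr_of {l : List ℕ} {M : ℕ} (ok : okG C12 M = true) (h : checkEq C12 (V l) [M] 0 12 = true)
    (ht : Matrix.trace (mk M) ≠ 0) : tr (r l) ≠ 0 := by
  have h1 := prod_eq (ok_W (l.map gn)) (w := [M]) (fun g hg => by rw [List.mem_singleton] at hg; rw [hg]; exact ok) h
  rw [tr, coe_r]
  rw [show ((V l).map mk).prod = ([M].map mk).prod from h1]
  simpa using ht


/-- the word of `rep 0` -/
def l0 : List ℕ := [5, 6, 5, 6]
/-- packed matrix -/
def M0 : ℕ := 0x80200c0100404014000100001800008020180401001014000040000c000180300003018060000200c0200002010010180200402014000100000c000100100c04008010140000800018000040400c0201002014000040001800014050000501405000020140200002000000080000000008040000500805004040180100804014000080000c0000000008000000000805000040080500c060000600c03000020180200002000000080000000008050000500804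
theorem ta0 : allN (fun p => Nat.beq (evw 11 gens l0 p) (lk 11 p0 p)) 1782 = true :=
  Cfsg.Agent.H257.OZ.SuzF.word_sb5 (Cfsg.Agent.H257.OZ.SuzF.tab_sb5 0 rfl) (by decide) (by decide +kernel)
theorem tr0 : tr (r l0) ≠ 0 := tr_of (M := M0) (by decide +kernel) (by decide +kernel) (by decide +kernel)
theorem rp0 : g l0 = Cfsg.Agent.H714.RIM.SuzCount.rep 0 := eq_rep (i := 0) (tab_of (by decide) ta0)

/-- the word of `rep 3` -/
def l3 : List ℕ := [2, 3, 2, 1, 6, 5, 1, 2, 1, 5, 6, 1, 2, 3]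
/-- packed matrix -/
def M3 : ℕ := 0x40501002000020080000c0001404000040000200c00000050080601000010050080400002008000140000c0100001010000180000005004030100000004000000140000805004050040000c0000c050040301802000010000600002000000180500005008050080000004000000180000006008030040500c01000000140000006008050100001400014050100301402000020000500c00018050100500c040000100005008030100400002004000140001402
theorem ta3 : allN (fun p => Nat.beq (evw 11 gens l3 p) (lk 11 p3 p)) 1782 = true :=
  Cfsg.Agent.H257.OZ.SuzF.word_sb5 (Cfsg.Agent.H257.OZ.SuzF.tab_sb5 3 rfl) (by decide) (by decide +kernel)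
theorem tr3 : tr (r l3) ≠ 0 := tr_of (M := M3) (by decide +kernel) (by decide +kernel) (by decide +kernel)
theorem rp3 : g l3 = Cfsg.Agent.H714.RIM.SuzCount.rep 3 := eq_rep (i := 3) (tab_of (by decide) ta3)

/-- the word of `rep 4` -/
def l4 : List ℕ := [2, 1, 6, 5, 3, 1, 2, 1, 3, 5, 6, 1]
/-- packed matrix -/
def M4 : ℕ := 0x80600c0600c0200c03014050140300c01014010000501405008060180501800004060040300c0301404014030140500805018060180000403004060180600c06004030040100005014030040501805018020180600c0300c06018060040200c0300403014050140000c010140301405010050180000805014050180501806000060040100c020180600c000040300c03014050100100c030140101405014040180200005018020000600c0300c010140501401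
theorem ta4 : allN (fun p => Nat.beq (evw 11 gens l4 p) (lk 11 p4 p)) 1782 = true :=
  Cfsg.Agent.H257.OZ.SuzF.word_sb5 (Cfsg.Agent.H257.OZ.SuzF.tab_sb5 4 rfl) (by decide) (by decide +kernel)
theorem tr4 : tr (r l4) ≠ 0 := tr_of (M := M4) (by decide +kernel) (by decide +kernel) (by decide +kernel)
theorem rp4 : g l4 = Cfsg.Agent.H714.RIM.SuzCount.rep 4 := eq_rep (i := 4) (tab_of (by decide) ta4)

/-- the word of `rep 5` -/
def l5 : List ℕ := [1, 3, 6, 5, 1, 4, 2, 1, 5, 6, 3, 1, 2, 4]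
/-- packed matrix -/
def M5 : ℕ := 0x100600c0101406008060180500c000140000401014060180601805004060180101405018030100301006014030140600c0301406018060180201002008060100301402018060180500c060100600c030140601800008050040601803010050080300c03004060140000c0501806004000100501403008050140600c0400806018020180500c060040001806004050140501401018050180301005018030040000c020140300c050180200c00014050100101805
theorem ta5 : allN (fun p => Nat.beq (evw 11 gens l5 p) (lk 11 p5 p)) 1782 = true :=
  Cfsg.Agent.H257.OZ.SuzF.word_sb5 (Cfsg.Agent.H257.OZ.SuzF.tab_sb5 5 rfl) (by decide) (by decide +kernel)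
theorem tr5 : tr (r l5) ≠ 0 := tr_of (M := M5) (by decide +kernel) (by decide +kernel) (by decide +kernel)
theorem rp5 : g l5 = Cfsg.Agent.H714.RIM.SuzCount.rep 5 := eq_rep (i := 5) (tab_of (by decide) ta5)

/-- the word of `rep 7` -/
def l7 : List ℕ := [1, 4, 3, 6, 2, 4, 1, 2, 6, 3]
/-- packed matrix -/
def M7 : ℕ := 0x5004030180300403004050180500c060140500c0401004014060000601805004000180300c0100c040180501403018000140201806008030140100c060140401005008050140600c060180500c030180300c03010020080501805004030080300c0300c05000040180000c030080300c01004050180500c020080500c02014050140600c060000500c030080100c0300c0401805010030180601406018010180301404014000180601406008060180101401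
theorem ta7 : allN (fun p => Nat.beq (evw 11 gens l7 p) (lk 11 p7 p)) 1782 = true :=
  Cfsg.Agent.H257.OZ.SuzF.word_sb5 (Cfsg.Agent.H257.OZ.SuzF.tab_sb5 7 rfl) (by decide) (by decide +kernel)
theorem tr7 : tr (r l7) ≠ 0 := tr_of (M := M7) (by decide +kernel) (by decide +kernel) (by decide +kernel)
theorem rp7 : g l7 = Cfsg.Agent.H714.RIM.SuzCount.rep 7 := eq_rep (i := 7) (tab_of (by decide) ta7)

/-- the word of `rep 8` -/
def l8 : List ℕ := [5, 4, 6, 2, 1, 2, 3, 2, 6, 4, 5, 3, 2, 1]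
/-- packed matrix -/
def M8 : ℕ := 0x1402008000000300c050000400c03014040040000005018030000401403004000000500c040040101400004040000300c0400800004000100300000008000000601801004010140001002018020040000006014030000100c030000600c02010000000001005000020000500c02008010000000406000000140600c0400400000000080600000010000000600c010100100c00008040000300c0100400000000040500c00000030180200400000050100600000
theorem ta8 : allN (fun p => Nat.beq (evw 11 gens l8 p) (lk 11 p8 p)) 1782 = true :=
  Cfsg.Agent.H257.OZ.SuzF.word_sb5 (Cfsg.Agent.H257.OZ.SuzF.tab_sb5 8 rfl) (by decide) (by decide +kernel)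
theorem tr8 : tr (r l8) ≠ 0 := tr_of (M := M8) (by decide +kernel) (by decide +kernel) (by decide +kernel)
theorem rp8 : g l8 = Cfsg.Agent.H714.RIM.SuzCount.rep 8 := eq_rep (i := 8) (tab_of (by decide) ta8)

/-- the word of `rep 11` -/
def l11 : List ℕ := [4, 6, 5, 1, 2, 3, 5, 6, 4, 3, 2, 1]
/-- packed matrix -/
def M11 : ℕ := 0x14020140101005018030140600c0000c0200c0600c010140100c050180300c040040600c030100600c050000300801018050180600c05008000140600803018040180000405018030140600c0500c0100c0301406010050080300c050040200c030140200c000180300c0500c0600c03010020040501800008060080301405018030140600c040180301805004060100501801014060040500c06004030140200c0500003014060100301000018030100600c05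
theorem ta11 : allN (fun p => Nat.beq (evw 11 gens l11 p) (lk 11 p11 p)) 1782 = true :=
  Cfsg.Agent.H257.OZ.SuzF.word_sb5 (Cfsg.Agent.H257.OZ.SuzF.tab_sb5 11 rfl) (by decide) (by decide +kernel)
theorem tr11 : tr (r l11) ≠ 0 := tr_of (M := M11) (by decide +kernel) (by decide +kernel) (by decide +kernel)
theorem rp11 : g l11 = Cfsg.Agent.H714.RIM.SuzCount.rep 11 := eq_rep (i := 11) (tab_of (by decide) ta11)

/-- the word of `rep 20` -/
def l20 : List ℕ := [6, 5, 3, 2, 1, 3, 5, 6, 1, 2]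
/-- packed matrix -/
def M20 : ℕ := 0xc02018000000001003008010100201000008030140600004004000000000400008050140500002000000000200c02014000000000805008020080400c0100c0000000008060100201002000030000401001014000180600c0300003000040080200c000180501405010050040300c0500002000000000000800004060140500004000060000000006000040040400c0000c0601403008000080600c06000020000001400004000040500c06008040000000000
theorem ta20 : allN (fun p => Nat.beq (evw 11 gens l20 p) (lk 11 p20 p)) 1782 = true :=
  Cfsg.Agent.H257.OZ.SuzF.word_sb5 (Cfsg.Agent.H257.OZ.SuzF.tab_sb5 20 rfl) (by decide) (by decide +kernel)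
theorem tr20 : tr (r l20) ≠ 0 := tr_of (M := M20) (by decide +kernel) (by decide +kernel) (by decide +kernel)
theorem rp20 : g l20 = Cfsg.Agent.H714.RIM.SuzCount.rep 20 := eq_rep (i := 20) (tab_of (by decide) ta20)

/-- the word of `rep 25` -/
def l25 : List ℕ := [3, 2, 1, 4, 0, 1, 2, 3, 0, 4]
/-- packed matrix -/
def M25 : ℕ := 0x4010180300c02008040040200c0201401010060140200804004030080200c02014010100601001008040100301004008020040600402010050140500802014010100400c0100c060100400401010060080300804014020140201004008020140501402010060040101001008020040100403010010040101006008020040100404010010040100802018050100401801008040100600c0400802014010040201801004050180400802004010140200c0101401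
theorem ta25 : allN (fun p => Nat.beq (evw 11 gens l25 p) (lk 11 p25 p)) 1782 = true :=
  Cfsg.Agent.H257.OZ.SuzF.word_sb5 (Cfsg.Agent.H257.OZ.SuzF.tab_sb5 25 rfl) (by decide) (by decide +kernel)
theorem tr25 : tr (r l25) ≠ 0 := tr_of (M := M25) (by decide +kernel) (by decide +kernel) (by decide +kernel)
theorem rp25 : g l25 = Cfsg.Agent.H714.RIM.SuzCount.rep 25 := eq_rep (i := 25) (tab_of (by decide) ta25)

/-- the word of `rep 26` -/
def l26 : List ℕ := [3, 1, 6, 5, 1, 2, 1, 3, 2, 1, 5, 6]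
/-- packed matrix -/
def M26 : ℕ := 0x40001006000000000000c0000c05014010180001002004010000100c00014040180000404008040000400c000040001806000000000000c0000805000050000400c0300c0601003000040180100c000040400801000010140000006000020180500c050100300001000050000201806018060080300002000030000200c0300c050080600002000050000200c06014030100600001018000080300000000000140000406000060000400c06014050040300002
theorem ta26 : allN (fun p => Nat.beq (evw 11 gens l26 p) (lk 11 p26 p)) 1782 = true :=
  Cfsg.Agent.H257.OZ.SuzF.word_sb5 (Cfsg.Agent.H257.OZ.SuzF.tab_sb5 26 rfl) (by decide) (by decide +kernel)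
theorem tr26 : tr (r l26) ≠ 0 := tr_of (M := M26) (by decide +kernel) (by decide +kernel) (by decide +kernel)
theorem rp26 : g l26 = Cfsg.Agent.H714.RIM.SuzCount.rep 26 := eq_rep (i := 26) (tab_of (by decide) ta26)

/-- the word of `rep 28` -/
def l28 : List ℕ := [4, 2, 3, 2, 4, 3]
/-- packed matrix -/
def M28 : ℕ := 0x1000018060180000c040080000c0501404000000000200006018010080001404000000000101805014040000000006004040080500800000050040200006010010040300800000060040401801000000100100005018010000000c0201400000020000501804000000180400000000020000500c02000050100000c06014000180100400014050000301002010030100000005004020140200004000040000500c0100000008000140501800014010080001405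
theorem ta28 : allN (fun p => Nat.beq (evw 11 gens l28 p) (lk 11 p28 p)) 1782 = true :=
  Cfsg.Agent.H257.OZ.SuzF.word_sb5 (Cfsg.Agent.H257.OZ.SuzF.tab_sb5 28 rfl) (by decide) (by decide +kernel)
theorem tr28 : tr (r l28) ≠ 0 := tr_of (M := M28) (by decide +kernel) (by decide +kernel) (by decide +kernel)
theorem rp28 : g l28 = Cfsg.Agent.H714.RIM.SuzCount.rep 28 := eq_rep (i := 28) (tab_of (by decide) ta28)

/-- the word of `rep 32` -/
def l32 : List ℕ := [5, 3, 1, 6, 1, 2, 6, 1, 3, 5, 2, 1]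
/-- packed matrix -/
def M32 : ℕ := 0xc0400c0601004010040040400c010100101002004010040100c01010040080400c01010030100600406008010100500c0300405004010080101002010010100201405004060080101802014040080501804010040040600801004050140400c0200c02010020040401403004040140200803010020040401402004040080300c02010050040400804008010100401004008040080500806008010100400c040040600c01008040080501004018060040401401
theorem ta32 : allN (fun p => Nat.beq (evw 11 gens l32 p) (lk 11 p32 p)) 1782 = true :=
  Cfsg.Agent.H257.OZ.SuzF.word_sb5 (Cfsg.Agent.H257.OZ.SuzF.tab_sb5 32 rfl) (by decide) (by decide +kernel)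
theorem tr32 : tr (r l32) ≠ 0 := tr_of (M := M32) (by decide +kernel) (by decide +kernel) (by decide +kernel)
theorem rp32 : g l32 = Cfsg.Agent.H714.RIM.SuzCount.rep 32 := eq_rep (i := 32) (tab_of (by decide) ta32)

/-- the word of `rep 35` -/
def l35 : List ℕ := [3, 2, 3, 2]
/-- packed matrix -/
def M35 : ℕ := 0x403018030140101406008030180100c0101801008030140601403018010000300003010030140601403018030040301801014030140601404008030180601406010020040500c060100600c0100803014010140601404018030140500c0501805000030180400c00018060100600c0600c0200c0601002018060100200c060040501006014060140500c0001800018010180500c0500c0001803014030140601003000030100400c0501805008040180500c05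
theorem ta35 : allN (fun p => Nat.beq (evw 11 gens l35 p) (lk 11 p35 p)) 1782 = true :=
  Cfsg.Agent.H257.OZ.SuzF.word_sb5 (Cfsg.Agent.H257.OZ.SuzF.tab_sb5 35 rfl) (by decide) (by decide +kernel)
theorem tr35 : tr (r l35) ≠ 0 := tr_of (M := M35) (by decide +kernel) (by decide +kernel) (by decide +kernel)
theorem rp35 : g l35 = Cfsg.Agent.H714.RIM.SuzCount.rep 35 := eq_rep (i := 35) (tab_of (by decide) ta35)

/-- the word of `rep 36` -/
def l36 : List ℕ := [3, 4, 3, 4]
/-- packed matrix -/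
def M36 : ℕ := 0x18020180400802004040180401801010060080200401010020080300c0600c04018010100400c010040500402008040040601804008010140500402010010080301801018020080200c04010010080200402010030080200804004020180400c0201804010040100500804004010100600802004010040200c04004050100400801018010040300806014050100400801004060040200c060040101804008010040101802004030100400802014040180401006
theorem ta36 : allN (fun p => Nat.beq (evw 11 gens l36 p) (lk 11 p36 p)) 1782 = true :=
  Cfsg.Agent.H257.OZ.SuzF.word_sb5 (Cfsg.Agent.H257.OZ.SuzF.tab_sb5 36 rfl) (by decide) (by decide +kernel)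
theorem tr36 : tr (r l36) ≠ 0 := tr_of (M := M36) (by decide +kernel) (by decide +kernel) (by decide +kernel)
theorem rp36 : g l36 = Cfsg.Agent.H714.RIM.SuzCount.rep 36 := eq_rep (i := 36) (tab_of (by decide) ta36)

theorem words : ∀ i ∈ T6, ∃ y : Y, q y = Cfsg.Agent.H714.RIM.SuzCount.rep i ∧ tr y ≠ 0 := by
  intro i hi
  simp only [T6, Finset.mem_insert, Finset.mem_singleton] at hi
  rcases hi with rfl | rfl | rfl | rfl | rfl | rfl | rfl | rfl | rfl | rfl | rfl | rfl | rfl | rfl
  · exact ⟨r l0, by rw [q_r, rp0], tr0⟩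
  · exact ⟨r l3, by rw [q_r, rp3], tr3⟩
  · exact ⟨r l4, by rw [q_r, rp4], tr4⟩
  · exact ⟨r l5, by rw [q_r, rp5], tr5⟩
  · exact ⟨r l7, by rw [q_r, rp7], tr7⟩
  · exact ⟨r l8, by rw [q_r, rp8], tr8⟩
  · exact ⟨r l11, by rw [q_r, rp11], tr11⟩
  · exact ⟨r l20, by rw [q_r, rp20], tr20⟩
  · exact ⟨r l25, by rw [q_r, rp25], tr25⟩
  · exact ⟨r l26, by rw [q_r, rp26], tr26⟩
  · exact ⟨r l28, by rw [q_r, rp28], tr28⟩
  · exact ⟨r l32, by rw [q_r, rp32], tr32⟩
  · exact ⟨r l35, by rw [q_r, rp35], tr35⟩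
  · exact ⟨r l36, by rw [q_r, rp36], tr36⟩

theorem traces (hθ : Function.Surjective θ) (hq : ∀ y, e (π (θ y)) = q y) : ∀ i ∈ T6, SGood π e l (Cfsg.Agent.H714.RIM.SuzCount.rep i) := by
  intro i hi
  obtain ⟨y, hy, ht⟩ := words i hi
  rw [← hy]
  exact good_of_tr hθ hq ht

end Cfsg.Agent.H759.RIM.SuzTr

private theorem dce_91857ab44da5 : _root_.True := by
  try have : _root_.True := by simp only [_root_.Cfsg.Agent.H759.RIM.SuzTr.tr.eq_1]
  try have : _root_.True := by simp only [_root_.Cfsg.Agent.H714.RIM.SuzCount.T6.eq_1]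
  exact _root_.True.intro
end

-- part: H759/RIM/Suz
section
set_option linter.all false
open scoped Cfsg.Agent.FastGrp

/-!
# S4816: the row `Suz` at the primes 3, 5, 7 (helper759)
-/

set_option autoImplicit false
set_option linter.unusedSectionVars false

namespace Cfsg.Agent.H759.RIM.SuzRow

open Cfsg Cfsg.Spor Subgroup
open Cfsg.Agent.H622.Over (Lies)
open Cfsg.Agent.H665.RIM Cfsg.Agent.H620.RIM Cfsg.Agent.H759.RIM.SuzUp

universe u

theorem nb_of {p m : ℕ} {K : Type u} [Group K]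
    (h : ∀ (E : Type u) [Group E] [Finite E] (π : E →* K), Function.Surjective π → π.ker ≤ center E →
      commutator E = ⊤ → Nat.card π.ker = m → ∀ l : π.ker →* ℂˣ, Function.Injective l →
      (∀ χ : IrrCharacter E, Lies π.ker l (χ : E → ℂ) → ¬ p ∣ charDegree (χ : E → ℂ)) → False) : NB p m K := by
  intro E _ _ π hπ hker hperf hcard l hl
  by_contra hno
  refine h E π hπ hker hperf hcard l hl fun χ hχ hd => hno ⟨χ, χ.2, fun z => ?_, hd⟩
  have h1 := hχ 1 z
  rwa [one_mul] at h1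

theorem m_cases {m : ℕ} (h : m ∣ 6) (h2 : 2 ≤ m) : m = 2 ∨ m = 3 ∨ m = 6 := by
  have h3 : m ≤ 6 := Nat.le_of_dvd (by norm_num) h
  interval_cases m
  · exact Or.inl rfl
  · exact Or.inr (Or.inl rfl)
  · exact absurd h (by norm_num)
  · exact absurd h (by norm_num)
  · exact Or.inr (Or.inr rfl)

/-- **(Suz, 3)** -/
theorem nball_three {K : Type u} [Group K] [Finite K] (h : Spor.IsoSuz K) : NBall.{u} 3 K := by
  refine nball_of_mdvd (dvd_suz h) fun m hm hm2 hpm => ?_
  obtain ⟨e⟩ := h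
  refine nb_of fun E _ _ π hπ hker hperf hcard l hl hS => ?_
  obtain ⟨θ, hθ, hq⟩ := exists_cov e hπ hker hperf
  obtain ⟨h2, h3, h6⟩ := Cfsg.Agent.H714.RIM.SuzCount.le_card_of (l := l) hπ hker (Cfsg.Agent.H759.RIM.SuzTr.traces hθ hq)
  have h4 := le_three hθ hq hker hl hS
  rcases m_cases hm hm2 with rfl | rfl | rfl
  · have := h2 hcard
    omega
  · exact hpm (by norm_num)
  · exact hpm (by norm_num)

/-- **(Suz, 5)** -/
theorem nball_five {K : Type u} [Group K] [Finite K] (h : Spor.IsoSuz K) : NBall.{u} 5 K := by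
  refine nball_of_mdvd (dvd_suz h) fun m hm hm2 hpm => ?_
  obtain ⟨e⟩ := h
  refine nb_of fun E _ _ π hπ hker hperf hcard l hl hS => ?_
  obtain ⟨θ, hθ, hq⟩ := exists_cov e hπ hker hperf
  obtain ⟨h2, h3, h6⟩ := Cfsg.Agent.H714.RIM.SuzCount.le_card_of (l := l) hπ hker (Cfsg.Agent.H759.RIM.SuzTr.traces hθ hq)
  rcases m_cases hm hm2 with rfl | rfl | rfl
  · have h7 := h2 hcard
    have h8 := le_five_even hθ hq hker hcard (by norm_num) (by norm_num) hl hS
    omega
  · have h7 := h3 hcard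
    have h8 := le_five_three hθ hq hker hcard hl hS
    omega
  · have h7 := h6 hcard
    have h8 := le_five_even hθ hq hker hcard (by norm_num) (by norm_num) hl hS
    omega

/-- **(Suz, 7)** -/
theorem nball_seven {K : Type u} [Group K] [Finite K] (h : Spor.IsoSuz K) : NBall.{u} 7 K := by
  refine nball_of_mdvd (dvd_suz h) fun m hm hm2 hpm => ?_
  obtain ⟨e⟩ := h
  refine nb_of fun E _ _ π hπ hker hperf hcard l hl hS => ?_
  obtain ⟨θ, hθ, hq⟩ := exists_cov e hπ hker hperf
  obtain ⟨h2, h3, h6⟩ := Cfsg.Agent.H714.RIM.SuzCount.le_card_of (l := l) hπ hker (Cfsg.Agent.H759.RIM.SuzTr.traces hθ hq)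
  rcases m_cases hm hm2 with rfl | rfl | rfl
  · have h7 := h2 hcard
    have h8 := le_seven_even hθ hq hker hcard (by norm_num) hl hS
    omega
  · have h7 := h3 hcard
    have h8 := le_seven_three hθ hq hker hcard hl hS
    omega
  · have h7 := h6 hcard
    have h8 := le_seven_even hθ hq hker hcard (by norm_num) hl hS
    omega

end Cfsg.Agent.H759.RIM.SuzRow
end

-- part: H908/RIM/ESeven_mg
section
prune_inst 0x204101440000010000000000240001ac2d3000000000b800000a6020407800c02000006200c0000080002000400300028130000204200000008000400010500800880900040810000220006000000410000000000000000000000000000000000004010000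
set_option linter.all false
open scoped Cfsg.Agent.FastGrp

-- part: H908/RIM/Over
section
/-!
# Irreducible characters over a central character: typed forms (helper908, S4816)

* `exists_irr_chain_over` : `J` = a chain of `m ≥ 3` nodes, reversed by the elements permuting its simple roots;
* `exists_of_one_over` : `J` = all nodes but `j`, one component `{k₀, k₁}` of type `A_2` (as `H53.HC.big_of_one`).
-/

set_option autoImplicit false
set_option linter.unusedSectionVars false

open scoped ComplexConjugate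
open Cfsg

namespace Cfsg.Agent.H908.RIM

open Cfsg.Agent.Characters Cfsg.Agent.H53.HC CoxeterSystem Cfsg.Agent.ChevalleyStructure.CoxeterGeom Cfsg.Agent.Tits.Roots
  Cfsg.Agent.Tits.Core Cfsg.Agent.Tits.Exchange Cfsg.Agent.Nodes.Reps Cfsg.Agent.Nodes.BNOf Cfsg.Agent.Nodes.StabComb
  Cfsg.Agent.Nodes.Bruhat Cfsg.Agent.Nodes.OppDec Cfsg.Agent.Nodes.LeviDec
open Cfsg.Agent.LieRecognition.BNCox (cA)

section chain

variable {I : Type*} {W : Type*} {Y : Type*} [Fintype I] [DecidableEq I] [Group W] [Group Y] {M : CoxeterMatrix I}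
  {cs : CoxeterSystem M W} {A : I → I → ℤ} {h : IsCartan M A} {p : ℕ} {T : Subgroup Y} {n : I → Y}
  {X : (I → ℤ) → Subgroup Y} [Finite W] [Finite Y] (R : RGD cs h p T n X)

include R

open Cfsg.Agent.H622.Levi (exists_co Co) in
open Cfsg.Agent.H582.Sq (exists_ns) in
/-- **A maximal Levi subgroup of type `A_m`.** -/
theorem exists_irr_chain_over (hG : GG cs h T X = ⊤) {m : ℕ} (hm : 3 ≤ m) (k : Fin m ↪ I)
    (hk : ∀ i j, M (k i) (k j) = cA m i j) {q : ℕ} (i₀ : Fin m) (hq : Nat.card (X (sr (k i₀))) = q)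
    (hrev : ∀ w : W, Perm cs h (Set.range k) w → w ∉ WJ cs (Set.range k) →
      ∀ i, rep cs h w (sr (k i)) = sr (k (Fin.rev i)))
    {Z : Subgroup Y} (hZ : Z ≤ Subgroup.center Y) (hZT : Z ≤ T)
    (hco : (Nat.card Z).Coprime (Nat.gcd (m + 1) (q - 1))) (l : Z →* ℂˣ) :
    ∃ χ : Y → ℂ, IsIrrCharacter Y χ ∧ (∀ z : Z, χ z = χ 1 * l z) ∧
      ∃ a e t : ℕ, 0 < a ∧ χ 1 = ((PJ cs h T X (Set.range k)).index * (a * e) : ℕ) ∧
      e * t = ∏ i ∈ Finset.range m, (q ^ (i + 1) - 1) ∧ t ∣ Nat.gcd (m + 1) (q - 1) := by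
  have : Fintype Y := Fintype.ofFinite Y
  have hcen := cenExp_chain R (by omega) k hk i₀ hq
  have hZM := eq_one_of_cenExp hcen hZ hco
  obtain ⟨F, _, _, φ, C⟩ := exists_co R (by omega) k hk
  have hcard := C.card i₀
  rw [hq] at hcard
  obtain ⟨θ, e, t, hθ, he, het, ht, hns⟩ := exists_ns (cs := cs) (h := h) hm C hk
  rw [← hcard] at het ht
  obtain ⟨χ, hχ, hχZ, a, ha, hχ1⟩ := exists_irr_over R hG (Set.range k) hθ.irr hθ.van (by
    intro w g hg hw hp
    by_contra hcon
    push Not at hcon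
    have hgn := H53.HC.rp_mem_normalizer_MJ R hg hp
    have hr := hrev w hp hw
    have hr' : ∀ i, rep cs h w⁻¹ (sr (k i)) = sr (k (Fin.rev i)) := by
      intro i
      have h1 := hr (Fin.rev i)
      rw [Fin.rev_rev] at h1
      rw [← h1, rep_inv_apply]
    refine hns g⁻¹ (inv_mem hgn) (fun i => ?_) (fun i => ?_) ?_
    · rw [R.conj_rp hg.inv (isRoot_sr cs h (k i)), hr']
    · rw [R.conj_rp hg.inv (isRoot_sr cs h (k i)).neg, map_neg, hr']
    · funext x
      rw [Function.comp_apply]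
      refine Eq.trans ?_ (hcon x x.2)
      congr 1
      apply Subtype.ext
      rw [conjME_coe, inv_inv]) hZ hZT l (by
    intro z hz hm
    obtain rfl := hZM z hz hm
    have e2 : l ⟨1, hz⟩ = 1 := map_one l
    rw [e2, Units.val_one, mul_one]
    rfl)
  refine ⟨χ, hχ, hχZ, a, e, t, ha, ?_, het, ht⟩
  rw [hχ1, he]
  push_cast
  ring

end chain

section one

open Cfsg.Agent.H35.ExcIdx

variable {r q l : ℕ} {M : CoxeterMatrix (Fin l)} {A : Fin l → Fin l → ℤ} {h : IsCartan M A}
  {S : Type*} [Group S] {T : Subgroup S} {n : Fin l → S} {X : (Fin l → ℤ) → Subgroup S}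

/-- **One component of type `A_2`** (`F₄(q)`, `²E₆(q)`, `E₇(q)`, `E₈(q)`). -/
theorem exists_of_one_over [Finite S] [Finite M.Group] (R : RGD M.toCoxeterSystem h r T n X)
    (hG : GG M.toCoxeterSystem h T X = ⊤) {j k₀ k₁ : Fin l} {K' : Set (Fin l)}
    (hJ : ({i | i ≠ j} : Set (Fin l)) = {k₀, k₁} ∪ K')
    (ho : ∀ i ∈ ({k₀, k₁} : Set (Fin l)), ∀ i' ∈ K', M i i' = 2) (hk : M k₀ k₁ = 3) (hk1 : M k₁ j = 2)
    (hk0 : M k₀ j = 3 ∨ M k₀ j = 4)
    (hun : ∀ a b, a ≠ j → b ≠ j → M a b = 3 → (∀ c, c ≠ j → c ≠ a → c ≠ b → M a c = 2 ∧ M b c = 2) →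
      (a = k₀ ∧ b = k₁) ∨ (a = k₁ ∧ b = k₀))
    (hA2 : InA2 h X q k₀ k₁) (hK' : In h X K') {Z : Subgroup S} (hZ : Z ≤ Subgroup.center S) (hZT : Z ≤ T)
    {e₁ e₂ : ℕ} (he₁ : CenExp M.toCoxeterSystem h X {k₀, k₁} e₁) (he₂ : CenExp M.toCoxeterSystem h X K' e₂)
    (hco : (Nat.card Z).Coprime (e₁ * e₂)) (lam : Z →* ℂˣ) :
    ∃ χ : S → ℂ, IsIrrCharacter S χ ∧ (∀ z : Z, χ z = χ 1 * lam z) ∧
      ∃ k d e t : ℕ, 0 < k ∧ χ 1 = ((PJ M.toCoxeterSystem h T X {i | i ≠ j}).index * (k * (d * e)) : ℕ) ∧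
        d * t = (q - 1) * (q ^ 2 - 1) ∧ t ∣ 3 := by
  classical
  have : Fintype S := Fintype.ofFinite S
  obtain ⟨θ, hθ, hns, d, t, hd, hdt, ht⟩ := hA2
  obtain ⟨θ', hθ'⟩ := hK'
  have hmem : ∀ i, i ∈ ({i | i ≠ j} : Set (Fin l)) ↔ i ≠ j := fun i => Iff.rfl
  have hk0J : k₀ ∈ ({i | i ≠ j} : Set (Fin l)) := by rw [hJ]; simp
  have hk1J : k₁ ∈ ({i | i ≠ j} : Set (Fin l)) := by rw [hJ]; simp
  have hcen := CenExp.union R (orth_of h ho) he₁ he₂
  rw [← hJ] at hcen
  have hZM := eq_one_of_cenExp hcen hZ hco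
  obtain ⟨χ, hχ, hχZ, k, hk0', hχ1⟩ := exists_irr_one_over R hG hmem hJ (orth_of h ho) rfl
    (isoPair_of h hk0J hk1J hk fun c hc hc0 hc1 => by
      rw [hJ] at hc
      rcases hc with hc | hc
      · rcases hc with rfl | rfl
        · exact absurd rfl hc0
        · exact absurd rfl hc1
      · exact ⟨ho _ (by simp) c hc, ho _ (by simp) c hc⟩)
    (cartan_two h hk1).1 (not_three_dvd h hk0)
    (fun a b hab => by
      obtain ⟨h1, h2, h3, h4⟩ := of_isoPair h hab
      exact hun a b h1 h2 h3 h4)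
    hθ hns hθ' hZ hZT hZM lam
  obtain ⟨e, -, he⟩ := Cfsg.Agent.Characters.Core.isIrr_apply_one hθ'.irr
  refine ⟨χ, hχ, hχZ, k, d, e, t, hk0', ?_, hdt, ht⟩
  rw [hχ1, hd, he]; push_cast; ring

end one

end Cfsg.Agent.H908.RIM
end

-- part: H908/RIM/ESeven
section
/-!
# RIM-L-E7 (S4816, helper908): `E₇(q)`, cross characteristic

`nb_E7` : `NBall p S` for `S` isomorphic to `E₇(q)`, `p` not the characteristic, `p ∣ |S|`; `nbAll_of` : the reduction to the
characters of the covers.

`J = A₄ + A₂` (all nodes but `4`) for the primes which are not of order `5` modulo `q`; `J = A₆` (all nodes but `1`) for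
the primes of order `5`; in both cases the centre of `M_J` has odd order, so it meets the kernel trivially.
-/

set_option autoImplicit false
set_option linter.unusedSectionVars false

open scoped ComplexConjugate
open Cfsg

namespace Cfsg.Agent.H908.RIM

open Cfsg.Agent.H53.HC Cfsg.Agent.H53.HC.ExcIM Cfsg.Agent.H53.HC.ExcRows Cfsg.Agent.H35.ExcIdx
  Cfsg.Agent.H35.PoinNum Cfsg.Agent.H35.Poin Cfsg.Lie Cfsg.Agent.Nodes Cfsg.Agent.Nodes.RGDChev Cfsg.Agent.Nodes.RGDLift
open CoxeterSystem Cfsg.Agent.ChevalleyStructure.CoxeterGeom Cfsg.Agent.Tits.Roots Cfsg.Agent.Tits.Core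
  Cfsg.Agent.Tits.Exchange Cfsg.Agent.Nodes.Reps Cfsg.Agent.Nodes.BNOf Cfsg.Agent.Nodes.StabComb
  Cfsg.Agent.Nodes.Bruhat Cfsg.Agent.Nodes.OppDec Cfsg.Agent.Nodes.LeviDec
open Cfsg.Agent.H353.IMC (k74 range_k74 hk74 compl7_4 or7_4 un7_4 dvd_idx_exc card_E7 dvd_pr_of)
open Cfsg.Agent.H582.Sq (c7 hc7 range_c7 rev7)

universe u v

/-- the chain `5, 6` of `E₇` -/
def k56 : Fin 2 ↪ Fin 7 := ⟨![5, 6], by decide⟩

theorem range_k56 : Set.range k56 = {5, 6} := by
  ext x
  simp only [Set.mem_range, Set.mem_insert_iff, Set.mem_singleton_iff]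
  revert x; decide

theorem hk56 : ∀ i j, m7 (k56 i) (k56 j) = mA 2 i j := by decide +kernel

theorem coprime_two_of {a b : ℕ} (ha : a ∣ 2) (hb : Odd b) : Nat.Coprime a b :=
  Nat.Coprime.coprime_dvd_left ha (Nat.coprime_two_left.2 hb)

section E7

variable {K : Type} [Field K] [Fintype K] {r f : ℕ} (hr : r.Prime) (hf : f ≠ 0)
  (hK : Fintype.card K = r ^ f) [CharP K r]

include hr hf hK in
/-- **The characters of the covers of `E₇(q)`.** -/
theorem char_E7 {p : ℕ} (hp : p.Prime) (hpr : p ≠ r) (hd : p ∣ Nat.card ↥(chevE7.group K))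
    {E : Type v} [Group E] [Finite E] {π : E →* ↥(chevE7.group K)} (hs : Function.Surjective π)
    (hc : π.ker ≤ Subgroup.center E) (h2 : Nat.card π.ker ∣ 2) (hr2 : r ≠ 2) (lam : π.ker →* ℂˣ) :
    ∃ χ : E → ℂ, IsIrrCharacter E χ ∧ (∀ z : π.ker, χ z = χ 1 * lam z) ∧ ∃ N : ℕ, χ 1 = N ∧ p ∣ N := by
  have := finite_group (K := K) chevE7
  have D := data_E7_3 hr hf hK
  have := D.fin
  have : Fact r.Prime := ⟨hr⟩
  have hpr' : ¬ p ∣ r := fun h4 => hpr ((Nat.prime_dvd_prime_iff_eq hp hr).1 h4)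
  have hco : (Nat.card π.ker).Coprime r :=
    Nat.Coprime.coprime_dvd_left h2 ((Nat.coprime_primes Nat.prime_two hr).2 hr2.symm)
  obtain ⟨n', R', hG', hidx, hsize⟩ := lift_all hc hco hs D.rgd D.gg
  have hsz : ∀ i, Nat.card ↥(lft r π (XX chevE7 7 K (sr i))) = r ^ f := fun i => (hsize i).trans (D.size i)
  by_cases h5 : p ∣ (r ^ f) ^ 5 - 1 ∧ ¬ p ∣ r ^ f - 1
  · obtain ⟨χ, hχ, hχZ, a, e, t, -, hχ1, het, ht⟩ := exists_irr_chain_over R' hG' (m := 6) (by norm_num) c7 hc7 0
      (hsz _) (fun w hw hwJ => rev7 hw hwJ) hc ker_le_T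
      (coprime_two_of h2 ((show Odd 7 by decide).of_dvd_nat (Nat.gcd_dvd_left _ _))) lam
    refine ⟨χ, hχ, hχZ, _, hχ1, ?_⟩
    have h6 : p ∣ e * t := by
      rw [het]
      exact h5.1.trans (Finset.dvd_prod_of_mem (fun i => (r ^ f) ^ (i + 1) - 1) (Finset.mem_range.2 (by norm_num : 4 < 6)))
    have h7 : ¬ p ∣ t := fun h8 => h5.2 (h8.trans (ht.trans (Nat.gcd_dvd_right _ _)))
    have h8 : p ∣ e := (hp.dvd_mul.1 h6).resolve_right h7
    exact Dvd.dvd.mul_left (Dvd.dvd.mul_left h8 _) _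
  · push Not at h5
    obtain ⟨θ', e₂, t₂, hθ', -, -, -⟩ := H622.Levi.cusp_chain R' (by norm_num) k74 hk74 0 (hsz _)
    have hce₁ := cenExp_chain R' (by norm_num) k56 hk56 0 (hsz _)
    have hce₂ := cenExp_chain R' (by norm_num) k74 hk74 0 (hsz _)
    rw [range_k56] at hce₁
    rw [range_k74] at hce₂ 
    have hIn : In hpE7.isCartan (fun x => lft r π (XX chevE7 7 K x)) {0, 2, 3, 1} := by
      rw [← range_k74]
      exact ⟨θ', hθ'⟩
    obtain ⟨χ, hχ, hχZ, k, d, e, t, -, hχ1, hdt, ht⟩ := exists_of_one_over R' hG' (j := 4) (k₀ := 5) (k₁ := 6)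
      (K' := {0, 2, 3, 1}) (q := r ^ f) compl7_4
      (fun i hi i' hi' => or7_4 i (by simpa using hi) i' (by simpa only [_root_.Fin.isValue, _root_.List.mem_cons, _root_.List.not_mem_nil, _root_.or_false, _root_.Set.mem_insert_iff, _root_.Set.mem_singleton_iff] using hi'))
      (by decide +kernel) (by decide +kernel) (by decide +kernel) un7_4
      (H622.Levi.inA2 R' (by decide +kernel) (hsz _)) hIn hc ker_le_T hce₁ hce₂
      (coprime_two_of h2 (((show Odd 3 by decide).of_dvd_nat (Nat.gcd_dvd_left _ _)).mul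
        ((show Odd 5 by decide).of_dvd_nat (Nat.gcd_dvd_left _ _)))) lam
    refine ⟨χ, hχ, hχZ, _, hχ1, ?_⟩
    by_cases h3 : p ∣ r ^ f - 1
    · have h4 := dvd_of_mul_eq hp (two_le hr hf) h3 ht hdt
      exact Dvd.dvd.mul_left (Dvd.dvd.mul_left (Dvd.dvd.mul_right h4 _) _) _
    · rw [hidx]
      obtain ⟨d', b, hGc⟩ := card_E7 (r := r) (f := f) hK
      exact Dvd.dvd.mul_right (dvd_idx_exc (two_le hr hf) (N := 19) (dS := [2, 6, 8, 10, 12, 14, 18])
          (dJ := [1, 2, 3, 4, 5, 2, 3]) (x := 5) (by decide) (by decide) (H505.Cop.E7Num.idx_4 hr hf hK) (by decide +kernel)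
          hp (dvd_pr_of hGc hp hd hpr') h3 fun h6 => h3 (h5 h6)) _

end E7

theorem charDegree_eq {G : Type u} [Group G] {χ : G → ℂ} {N : ℕ} (h : χ 1 = N) : charDegree χ = N := by
  unfold charDegree
  rw [h]
  simp

open Cfsg.Agent.H665.RIM in
/-- **`NBall` from the characters of the covers**: `S ≃* Y`, the kernels of the perfect central extensions of `Y` have
order dividing `n`, and all the covers of `Y` with kernel of order dividing `n`, `≠ 1`, have the characters. -/
theorem nbAll_of {S : Type u} {Y : Type v} [Group S] [Group Y] (e : S ≃* Y) {n p : ℕ}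
    (hM : Cfsg.HasCyclicSchurMultiplier Y n)
    (H : ∀ (E : Type u) [Group E] [Finite E] (π : E →* Y), Function.Surjective π → π.ker ≤ Subgroup.center E →
      Nat.card π.ker ∣ n → 2 ≤ Nat.card π.ker → ¬ p ∣ Nat.card π.ker → ∀ lam : π.ker →* ℂˣ,
      ∃ χ : E → ℂ, IsIrrCharacter E χ ∧ (∀ z : π.ker, χ z = χ 1 * lam z) ∧ ∃ N : ℕ, χ 1 = N ∧ p ∣ N) : NBall p S := by
  intro m hm hpm E _ _ π hs hc hperf hcard lam hlam
  obtain ⟨π', hπ'⟩ : ∃ π' : E →* Y, π' = e.toMonoidHom.comp π := ⟨_, rfl⟩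
  have hker : π'.ker = π.ker := by
    rw [hπ']
    ext x
    rw [MonoidHom.mem_ker, MonoidHom.mem_ker, MonoidHom.comp_apply]
    exact e.map_eq_one_iff
  have hs' : Function.Surjective π' := by
    rw [hπ']
    exact e.surjective.comp hs
  have hPCE : Cfsg.Agent.H51.Mult.PCE π' := ⟨hs', hker ▸ hc, hperf⟩
  obtain ⟨-, h1⟩ := Cfsg.Agent.H68.Bounds.ker_of_hasCyclic hM hPCE
  have hm2 : Nat.card π'.ker = m := by rw [hker, hcard]
  obtain ⟨lam', hlam'⟩ : ∃ lam' : π'.ker →* ℂˣ, ∀ z (h1 : z ∈ π'.ker) (h2 : z ∈ π.ker), lam' ⟨z, h1⟩ = lam ⟨z, h2⟩ :=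
    ⟨lam.comp (Subgroup.inclusion hker.le), fun z _ _ => rfl⟩
  obtain ⟨χ, hχ, hχZ, N, hN, hpN⟩ := H E π' hs' (hker ▸ hc) h1 (by omega) (hm2 ▸ hpm) lam'
  refine ⟨χ, hχ, fun z => ?_, ?_⟩
  · have hz' : (z : E) ∈ π'.ker := by rw [hker]; exact z.2
    rw [← hlam' z hz' z.2]
    exact hχZ ⟨z, hz'⟩
  · rw [charDegree_eq hN]
    exact hpN

open Cfsg.Agent.H665.RIM in
/-- **RIM-L-E7**: `E₇(q)`, cross characteristic. -/
theorem nb_E7 {S : Type u} [Group S] {F : Type} [Field F] [Fintype F] (e : S ≃* ↥(chevE7.group F)) {p : ℕ}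
    (hp : p.Prime) (hch : ¬ CharP F p) (hd : p ∣ Nat.card S) : NBall p S := by
  obtain ⟨r, f, hr, hf, hF, hcr⟩ := exists_prime_pow F
  have hpr : p ≠ r := by
    rintro rfl
    exact hch hcr
  have hd' : p ∣ Nat.card ↥(chevE7.group F) := by rwa [← Nat.card_congr e.toEquiv]
  refine nbAll_of e (Cfsg.Agent.H65.MultE.multE7 F hF).1 ?_
  intro E _ _ π hs hc hn h2m _ lam
  have h2 : Nat.card π.ker ∣ 2 := hn.trans (Nat.gcd_dvd_left _ _)
  have hr2 : r ≠ 2 := by
    rintro rfl
    have h3 : Nat.card π.ker ∣ 2 ^ f - 1 := hn.trans (Nat.gcd_dvd_right _ _)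
    have h4 : Nat.card π.ker = 2 := ((Nat.dvd_prime Nat.prime_two).1 h2).resolve_left (by omega)
    rw [h4] at h3
    have h5 : 2 ∣ 2 ^ f := dvd_pow_self 2 hf
    have h6 : 1 ≤ 2 ^ f := Nat.one_le_two_pow
    omega
  exact char_E7 hr hf hF hp hpr hd' hs hc h2 hr2 lam

end Cfsg.Agent.H908.RIM
end

-- part: H572/RIM/O73
section
/-!
# Elements of `Ω₇(3)` (helper572, for S4816)

* `data7` : `x` of order `7`, an involution `a` with `x³ a x⁻³ = a (x a x⁻¹)` (a Frobenius group `2³ : 7`), inverting an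
  element `y` of order `13`;
* `data13` : `x` of order `13`, `a` of order `3` with `x³ a x⁻³ = a (x a x⁻¹)` (a Frobenius group `3³ : 13`).
-/

set_option autoImplicit false
set_option linter.unusedSectionVars false

namespace Cfsg.Agent.H572.RIM.O73

open Cfsg Matrix

abbrev I7 := Unit ⊕ (Fin 3 ⊕ Fin 3)

abbrev M7 := Matrix I7 I7 (ZMod 3)

/-- the position of an index -/
def ps : I7 → Fin 7
  | .inl _ => 0
  | .inr (.inl i) => ⟨i.1 + 1, by omega⟩
  | .inr (.inr i) => ⟨i.1 + 4, by omega⟩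

/-- a matrix from its table -/
def tb (A : Matrix (Fin 7) (Fin 7) (ZMod 3)) : M7 := Matrix.of fun i j => A (ps i) (ps j)

/-- the matrix of the polar form -/
def bp : M7 := tb !![2, 0, 0, 0, 0, 0, 0; 0, 0, 0, 0, 1, 0, 0; 0, 0, 0, 0, 0, 1, 0; 0, 0, 0, 0, 0, 0, 1; 0, 1, 0, 0, 0, 0, 0; 0, 0, 1, 0, 0, 0, 0; 0, 0, 0, 1, 0, 0, 0]

def mD : M7 := tb !![1, 2, 0, 1, 0, 1, 0; 0, 2, 0, 0, 0, 0, 0; 2, 0, 1, 2, 0, 0, 1; 0, 1, 0, 2, 0, 1, 0; 1, 1, 2, 0, 2, 0, 1; 0, 2, 0, 0, 0, 1, 0; 2, 0, 0, 1, 0, 2, 2]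
def mX : M7 := tb !![1, 0, 1, 2, 1, 0, 0; 2, 2, 0, 1, 2, 1, 1; 1, 0, 2, 1, 1, 1, 0; 0, 2, 2, 2, 2, 1, 0; 1, 0, 2, 2, 1, 1, 0; 1, 2, 2, 0, 0, 1, 2; 1, 0, 2, 0, 0, 1, 0]
def mX' : M7 := tb !![1, 2, 2, 2, 1, 2, 0; 2, 1, 0, 0, 2, 1, 2; 0, 1, 1, 1, 1, 1, 1; 0, 0, 2, 0, 1, 0, 0; 0, 0, 2, 0, 2, 0, 2; 2, 2, 2, 2, 0, 2, 2; 1, 2, 0, 0, 1, 1, 2]
def mT : M7 := tb !![0, 1, 2, 2, 2, 1, 0; 1, 2, 0, 0, 1, 1, 1; 2, 1, 1, 1, 1, 2, 2; 0, 0, 2, 2, 1, 2, 1; 2, 0, 2, 0, 2, 1, 0; 1, 2, 2, 0, 0, 1, 2; 1, 0, 0, 1, 0, 1, 2]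
def mY : M7 := tb !![2, 1, 0, 1, 1, 2, 2; 0, 1, 0, 1, 2, 0, 1; 0, 1, 0, 1, 0, 0, 0; 2, 1, 2, 1, 2, 1, 1; 1, 1, 0, 2, 1, 2, 2; 1, 1, 0, 0, 2, 1, 2; 0, 0, 0, 0, 0, 2, 0]
def mY' : M7 := tb !![2, 2, 2, 0, 0, 0, 1; 2, 1, 2, 0, 2, 0, 2; 1, 2, 1, 2, 0, 0, 1; 1, 2, 2, 0, 1, 0, 1; 2, 1, 1, 0, 1, 1, 1; 0, 0, 0, 0, 0, 0, 2; 2, 2, 0, 0, 1, 1, 1]
def mZ : M7 := tb !![1, 0, 0, 0, 0, 0, 0; 0, 0, 2, 1, 0, 0, 0; 0, 1, 0, 2, 0, 0, 0; 0, 0, 2, 2, 0, 0, 0; 0, 0, 0, 0, 2, 1, 2; 0, 0, 0, 0, 1, 0, 0; 0, 0, 0, 0, 1, 1, 1]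
def mZ' : M7 := tb !![1, 0, 0, 0, 0, 0, 0; 0, 2, 1, 1, 0, 0, 0; 0, 1, 0, 1, 0, 0, 0; 0, 2, 0, 1, 0, 0, 0; 0, 0, 0, 0, 0, 1, 0; 0, 0, 0, 0, 2, 0, 2; 0, 0, 0, 0, 1, 2, 2]
def mN : M7 := tb !![1, 0, 0, 0, 0, 0, 0; 0, 1, 0, 0, 0, 1, 0; 0, 0, 1, 0, 2, 0, 0; 0, 0, 0, 1, 0, 0, 0; 0, 0, 0, 0, 1, 0, 0; 0, 0, 0, 0, 0, 1, 0; 0, 0, 0, 0, 0, 0, 1]
def mN' : M7 := tb !![1, 0, 0, 0, 0, 0, 0; 0, 1, 0, 0, 0, 2, 0; 0, 0, 1, 0, 1, 0, 0; 0, 0, 0, 1, 0, 0, 0; 0, 0, 0, 0, 1, 0, 0; 0, 0, 0, 0, 0, 1, 0; 0, 0, 0, 0, 0, 0, 1]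
def mS : M7 := tb !![1, 0, 0, 0, 0, 0, 0; 0, 0, 0, 0, 0, 0, 1; 0, 0, 0, 0, 0, 1, 0; 0, 0, 0, 0, 1, 0, 2; 0, 1, 0, 1, 0, 0, 0; 0, 0, 1, 0, 0, 0, 0; 0, 1, 0, 0, 0, 0, 0]

local instance fact_three : Fact (Nat.Prime 3) := ⟨by norm_num⟩

theorem q_eq (v : I7 → ZMod 3) : quadFormOdd 3 (ZMod 3) v = 2 * (v ⬝ᵥ (bp *ᵥ v)) := by
  have h4 : (4 : ZMod 3) = 1 := by decide
  have h5 : v ⬝ᵥ (bp *ᵥ v) = 2 * quadFormOdd 3 (ZMod 3) v := by
    simp only [quadFormOdd, dotProduct, mulVec, Fintype.sum_sum_type, Fin.sum_univ_three, Finset.univ_unique,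
      Finset.sum_singleton, bp, tb, ps, Matrix.of_apply]
    simp only [_root_.PUnit.default_eq_unit, _root_.Fin.isValue, _root_.Matrix.cons_val', _root_.Matrix.cons_val_zero, _root_.Matrix.cons_val_fin_one, _root_.Fin.coe_ofNat_eq_mod, _root_.Nat.zero_mod, _root_.zero_add, _root_.Fin.mk_one, _root_.Matrix.cons_val_one, _root_.MulZeroClass.zero_mul, _root_.Nat.one_mod, _root_.Nat.reduceAdd, _root_.Fin.reduceFinMk, _root_.Matrix.cons_val, _root_.add_zero, _root_.Nat.mod_succ, _root_.one_mul]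
    ring
  rw [h5, ← mul_assoc, show (2 : ZMod 3) * 2 = 4 by norm_num, h4, one_mul]

theorem iso_of {m : M7} (hm : mᵀ * bp * m = bp) (v : I7 → ZMod 3) :
    quadFormOdd 3 (ZMod 3) (m *ᵥ v) = quadFormOdd 3 (ZMod 3) v := by
  rw [q_eq, q_eq, Matrix.mulVec_mulVec, Matrix.dotProduct_mulVec, Matrix.vecMul_mulVec, ← Matrix.dotProduct_mulVec,
    ← mul_assoc, hm]

/-- the isometry group -/
abbrev G7 := isometryGroup (ZMod 3) (quadFormOdd 3 (ZMod 3))

/-- an isometry from its matrix -/
def el (m m' : M7) (h : m * m' = 1) (h' : m' * m = 1) (hm : mᵀ * bp * m = bp) : G7 :=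
  ⟨⟨m, m', h, h'⟩, fun u _ => iso_of hm u⟩

/-- the matrix of an isometry -/
def mt (g : G7) : M7 := ((g : Matrix.GeneralLinearGroup I7 (ZMod 3)) : M7)

theorem mt_mul (g h : G7) : mt (g * h) = mt g * mt h := rfl

theorem mt_inj {g h : G7} (e : mt g = mt h) : g = h := Subtype.ext (Units.ext e)

set_option maxRecDepth 100000

def eD : G7 := el mD mD (by decide +kernel) (by decide +kernel) (by decide +kernel)
def eX : G7 := el mX mX' (by decide +kernel) (by decide +kernel) (by decide +kernel)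
def eT : G7 := el mT mT (by decide +kernel) (by decide +kernel) (by decide +kernel)
def eY : G7 := el mY mY' (by decide +kernel) (by decide +kernel) (by decide +kernel)
def eZ : G7 := el mZ mZ' (by decide +kernel) (by decide +kernel) (by decide +kernel)
def eN : G7 := el mN mN' (by decide +kernel) (by decide +kernel) (by decide +kernel)
def eS : G7 := el mS mS (by decide +kernel) (by decide +kernel) (by decide +kernel)

theorem mt_pow (g : G7) (n : ℕ) : mt (g ^ n) = mt g ^ n := by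
  induction n with
  | zero => rfl
  | succ n ih => rw [pow_succ, pow_succ, mt_mul, ih]

theorem x7 : eX ^ 7 = 1 := mt_inj (by rw [mt_pow]; show mX ^ 7 = 1; (set_option synthInstance.maxSize 20000 in open scoped Cfsg.Agent.Lib.MatDec in decide +kernel))
theorem y13 : eY ^ 13 = 1 := mt_inj (by rw [mt_pow]; show mY ^ 13 = 1; (set_option synthInstance.maxSize 20000 in open scoped Cfsg.Agent.Lib.MatDec in decide +kernel))
theorem z13 : eZ ^ 13 = 1 := mt_inj (by rw [mt_pow]; show mZ ^ 13 = 1; decide +kernel)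

/-- an element inverted by an isometry, of odd order -/
theorem mem_of_inv {G : Type*} [Group G] {x t : G} (h : t * x = x⁻¹ * t) {k : ℕ} (hk : x ^ (2 * k + 1) = 1) :
    x ∈ commutator G := by
  have h1 : t * x * t⁻¹ = x⁻¹ := by rw [h, mul_inv_cancel_right]
  have h2 : t * x ^ k * t⁻¹ = (x ^ k)⁻¹ := by rw [← conj_pow, h1, inv_pow]
  have h3 : x = t * x ^ k * t⁻¹ * (x ^ k)⁻¹ := by
    rw [h2, ← _root_.mul_inv_rev, ← pow_add, eq_inv_iff_mul_eq_one, ← pow_succ', ← two_mul]
    exact hk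
  rw [h3]
  exact Subgroup.commutator_mem_commutator (Subgroup.mem_top t) (Subgroup.mem_top (x ^ k))

/-- `a` with `x³ a x⁻³ = a (x a x⁻¹)` -/
theorem mem_of_rel {G : Type*} [Group G] {x a : G} (h : x ^ 3 * a = a * (x * a * x⁻¹) * x ^ 3) :
    a ∈ commutator G := by
  have h1 : a = x ^ 3 * a * (x ^ 3)⁻¹ * (x * a * x⁻¹)⁻¹ := by
    rw [h, mul_inv_cancel_right, mul_inv_cancel_right]
  have h2 : a = x * (x ^ 2 * a * (x ^ 2)⁻¹ * a⁻¹) * x⁻¹ := by
    nth_rewrite 1 [h1]
    group
  have h3 : x ^ 2 * a * (x ^ 2)⁻¹ * a⁻¹ ∈ commutator G :=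
    Subgroup.commutator_mem_commutator (Subgroup.mem_top _) (Subgroup.mem_top _)
  rw [h2]
  exact (inferInstance : (commutator G).Normal).conj_mem _ h3 x

theorem rel7 : eX ^ 3 * eD = eD * (eX * eD * eX⁻¹) * eX ^ 3 := mt_inj (by
  rw [mt_mul, mt_mul, mt_mul, mt_mul, mt_mul, mt_pow]
  show mX ^ 3 * mD = mD * (mX * mD * mX') * mX ^ 3
  decide +kernel)

theorem com7 : eD * (eX * eD * eX⁻¹) = (eX * eD * eX⁻¹) * eD := mt_inj (by
  show mD * (mX * mD * mX') = (mX * mD * mX') * mD
  (set_option synthInstance.maxSize 100000 in exact Cfsg.Agent.Lib.Refl.of (by decide +kernel)))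

theorem com7' : eD * (eX ^ 2 * eD * (eX ^ 2)⁻¹) = (eX ^ 2 * eD * (eX ^ 2)⁻¹) * eD := mt_inj (by
  rw [pow_two, _root_.mul_inv_rev]
  show mD * (mX * mX * mD * (mX' * mX')) = (mX * mX * mD * (mX' * mX')) * mD
  (set_option synthInstance.maxSize 100000 in exact Cfsg.Agent.Lib.Refl.of (by decide +kernel)))

theorem tx : eT * eX = eX⁻¹ * eT := mt_inj (by
  show mT * mX = mX' * mT
  decide +kernel)

theorem dy : eD * eY = eY⁻¹ * eD := mt_inj (by
  show mD * mY = mY' * mD
  decide +kernel)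

theorem dd : eD * eD = 1 := mt_inj (by
  show mD * mD = 1
  decide +kernel)

theorem dx_ne : eD * eX ≠ eX * eD := by
  intro h
  have h1 := congrArg mt h
  revert h1
  show ¬ (mD * mX = mX * mD)
  decide +kernel

theorem y_ne : eD * eY ≠ eY * eD := by
  intro h
  have h1 := congrArg mt h
  revert h1
  show ¬ (mD * mY = mY * mD)
  decide +kernel

theorem rel13 : eZ ^ 3 * eN = eN * (eZ * eN * eZ⁻¹) * eZ ^ 3 := mt_inj (by
  rw [mt_mul, mt_mul, mt_mul, mt_mul, mt_mul, mt_pow]
  show mZ ^ 3 * mN = mN * (mZ * mN * mZ') * mZ ^ 3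
  (set_option synthInstance.maxSize 100000 in exact Cfsg.Agent.Lib.Refl.of (by decide +kernel)))

theorem com13 : eN * (eZ * eN * eZ⁻¹) = (eZ * eN * eZ⁻¹) * eN := mt_inj (by
  show mN * (mZ * mN * mZ') = (mZ * mN * mZ') * mN
  (set_option synthInstance.maxSize 100000 in exact Cfsg.Agent.Lib.Refl.of (by decide +kernel)))

theorem com13' : eN * (eZ ^ 2 * eN * (eZ ^ 2)⁻¹) = (eZ ^ 2 * eN * (eZ ^ 2)⁻¹) * eN := mt_inj (by
  rw [pow_two, _root_.mul_inv_rev]
  show mN * (mZ * mZ * mN * (mZ' * mZ')) = (mZ * mZ * mN * (mZ' * mZ')) * mN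
  (set_option synthInstance.maxSize 100000 in exact Cfsg.Agent.Lib.Refl.of (by decide +kernel)))

theorem sz : eS * eZ = eZ⁻¹ * eS := mt_inj (by
  show mS * mZ = mZ' * mS
  decide +kernel)

theorem n3 : eN ^ 3 = 1 := mt_inj (by rw [mt_pow]; show mN ^ 3 = 1; decide +kernel)

theorem nz_ne : eN * eZ ≠ eZ * eN := by
  intro h
  have h1 := congrArg mt h
  revert h1
  show ¬ (mN * mZ = mZ * mN)
  decide +kernel

/-- `Ω₇(3)` -/
abbrev PO := POmega (ZMod 3) (quadFormOdd 3 (ZMod 3))

/-- the class in `PΩ` of an element of the commutator subgroup -/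
def pr : commutator G7 →* PO := QuotientGroup.mk' _

theorem pr_ne_one {a b : commutator G7} (h : (a : G7) * b ≠ b * a) : pr a ≠ 1 := by
  intro h1
  have h2 : a ∈ Subgroup.center (commutator G7) := (QuotientGroup.eq_one_iff a).1 h1
  exact h (congrArg Subtype.val (Subgroup.mem_center_iff.1 h2 b)).symm

theorem data7 : ∃ x a y : PO, orderOf x = 7 ∧ orderOf y = 13 ∧ a * a = 1 ∧ a ≠ 1 ∧
    x ^ 3 * a = a * (x * a * x⁻¹) * x ^ 3 ∧ a * (x * a * x⁻¹) = (x * a * x⁻¹) * a ∧
    a * (x ^ 2 * a * (x ^ 2)⁻¹) = (x ^ 2 * a * (x ^ 2)⁻¹) * a ∧ a * y = y⁻¹ * a := by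
  have hX : eX ∈ commutator G7 := mem_of_inv tx (k := 3) x7
  have hD : eD ∈ commutator G7 := mem_of_rel rel7
  have hY : eY ∈ commutator G7 := mem_of_inv dy (k := 6) y13
  have hf7 : Fact (Nat.Prime 7) := ⟨by norm_num⟩
  have hf13 : Fact (Nat.Prime 13) := ⟨by norm_num⟩
  obtain ⟨x, hx⟩ : ∃ x : commutator G7, x = ⟨eX, hX⟩ := ⟨_, rfl⟩
  obtain ⟨a, ha⟩ : ∃ a : commutator G7, a = ⟨eD, hD⟩ := ⟨_, rfl⟩
  obtain ⟨y, hy⟩ : ∃ y : commutator G7, y = ⟨eY, hY⟩ := ⟨_, rfl⟩
  have c1 : (x : G7) = eX := by rw [hx]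
  have c2 : (a : G7) = eD := by rw [ha]
  have c3 : (y : G7) = eY := by rw [hy]
  refine ⟨pr x, pr a, pr y, ?_, ?_, ?_, ?_, ?_, ?_, ?_, ?_⟩
  · refine orderOf_eq_prime ?_ ?_
    · rw [← map_pow]
      have : x ^ 7 = 1 := Subtype.ext (by rw [SubgroupClass.coe_pow, c1]; exact x7)
      rw [this, map_one]
    · exact pr_ne_one (b := a) (by rw [c1, c2]; exact dx_ne.symm)
  · refine orderOf_eq_prime ?_ ?_
    · rw [← map_pow]
      have : y ^ 13 = 1 := Subtype.ext (by rw [SubgroupClass.coe_pow, c3]; exact y13)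
      rw [this, map_one]
    · exact pr_ne_one (b := a) (by rw [c3, c2]; exact y_ne.symm)
  · rw [← map_mul]
    have : a * a = 1 := Subtype.ext (by rw [Subgroup.coe_mul, c2]; exact dd)
    rw [this, map_one]
  · exact pr_ne_one (b := x) (by rw [c1, c2]; exact dx_ne)
  · have : x ^ 3 * a = a * (x * a * x⁻¹) * x ^ 3 := Subtype.ext (by
      simp only [Subgroup.coe_mul, SubgroupClass.coe_pow, InvMemClass.coe_inv, c1, c2]
      exact rel7)
    simpa only [map_mul, map_pow, map_inv] using congrArg pr this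
  · have : a * (x * a * x⁻¹) = (x * a * x⁻¹) * a := Subtype.ext (by
      simp only [Subgroup.coe_mul, SubgroupClass.coe_pow, InvMemClass.coe_inv, c1, c2]
      exact com7)
    simpa only [map_mul, map_pow, map_inv] using congrArg pr this
  · have : a * (x ^ 2 * a * (x ^ 2)⁻¹) = (x ^ 2 * a * (x ^ 2)⁻¹) * a := Subtype.ext (by
      simp only [Subgroup.coe_mul, SubgroupClass.coe_pow, InvMemClass.coe_inv, c1, c2]
      exact com7')
    simpa only [map_mul, map_pow, map_inv] using congrArg pr this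
  · have : a * y = y⁻¹ * a := Subtype.ext (by
      simp only [Subgroup.coe_mul, InvMemClass.coe_inv, c2, c3]
      exact dy)
    simpa only [map_mul, map_pow, map_inv] using congrArg pr this

theorem data13 : ∃ x a : PO, orderOf x = 13 ∧ a ^ 3 = 1 ∧ a ≠ 1 ∧
    x ^ 3 * a = a * (x * a * x⁻¹) * x ^ 3 ∧ a * (x * a * x⁻¹) = (x * a * x⁻¹) * a ∧
    a * (x ^ 2 * a * (x ^ 2)⁻¹) = (x ^ 2 * a * (x ^ 2)⁻¹) * a := by
  have hX : eZ ∈ commutator G7 := mem_of_inv sz (k := 6) z13
  have hD : eN ∈ commutator G7 := mem_of_rel rel13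
  have hf13 : Fact (Nat.Prime 13) := ⟨by norm_num⟩
  obtain ⟨x, hx⟩ : ∃ x : commutator G7, x = ⟨eZ, hX⟩ := ⟨_, rfl⟩
  obtain ⟨a, ha⟩ : ∃ a : commutator G7, a = ⟨eN, hD⟩ := ⟨_, rfl⟩
  have c1 : (x : G7) = eZ := by rw [hx]
  have c2 : (a : G7) = eN := by rw [ha]
  refine ⟨pr x, pr a, ?_, ?_, ?_, ?_, ?_, ?_⟩
  · refine orderOf_eq_prime ?_ ?_
    · rw [← map_pow]
      have : x ^ 13 = 1 := Subtype.ext (by rw [SubgroupClass.coe_pow, c1]; exact z13)
      rw [this, map_one]
    · exact pr_ne_one (b := a) (by rw [c1, c2]; exact nz_ne.symm)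
  · rw [← map_pow]
    have : a ^ 3 = 1 := Subtype.ext (by rw [SubgroupClass.coe_pow, c2]; exact n3)
    rw [this, map_one]
  · exact pr_ne_one (b := x) (by rw [c1, c2]; exact nz_ne)
  · have : x ^ 3 * a = a * (x * a * x⁻¹) * x ^ 3 := Subtype.ext (by
      simp only [Subgroup.coe_mul, SubgroupClass.coe_pow, InvMemClass.coe_inv, c1, c2]
      exact rel13)
    simpa only [map_mul, map_pow, map_inv] using congrArg pr this
  · have : a * (x * a * x⁻¹) = (x * a * x⁻¹) * a := Subtype.ext (by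
      simp only [Subgroup.coe_mul, SubgroupClass.coe_pow, InvMemClass.coe_inv, c1, c2]
      exact com13)
    simpa only [map_mul, map_pow, map_inv] using congrArg pr this
  · have : a * (x ^ 2 * a * (x ^ 2)⁻¹) = (x ^ 2 * a * (x ^ 2)⁻¹) * a := Subtype.ext (by
      simp only [Subgroup.coe_mul, SubgroupClass.coe_pow, InvMemClass.coe_inv, c1, c2]
      exact com13')
    simpa only [map_mul, map_pow, map_inv] using congrArg pr this

end Cfsg.Agent.H572.RIM.O73
end

-- part: H572/RIM/O73Row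
section
/-!
# S4816 (RIM): Ω₇(3), `p = 7` and `p = 13` (helper572)
-/

set_option autoImplicit false
set_option linter.unusedSectionVars false

namespace Cfsg.Agent.H572.RIM

open Cfsg Cfsg.Agent.OrdDiv Cfsg.Agent.H436 Cfsg.Agent.H665.RIM Cfsg.Agent.H325.RIM

universe u

theorem ordN_o73 : ordN (.oodd 3 3) = 4585351680 := by decide +kernel

/-- transport to the standard group -/
theorem exists_iso {S : Type u} [Group S] (hg : IsNamed (.oodd 3 3) S) :
    Nonempty (S ≃* O73.PO) ∧ Nat.card O73.PO = 4585351680 := by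
  obtain ⟨F, i1, i2, hF, ⟨e⟩⟩ := hg.real
  obtain ⟨e'⟩ := Cfsg.Agent.UGT.U2.Rec.Congr.nonempty_POmegaOdd (ZMod.ringEquivOfPrime F Nat.prime_three hF).symm 3
  refine ⟨⟨e.trans e'⟩, ?_⟩
  rw [← Nat.card_congr (e.trans e').toEquiv, hg.ord, ordN_o73]

theorem ek_o73_13' (hc : Nat.card O73.PO = 4585351680) : EK.{0} 13 O73.PO := by
  obtain ⟨x, a, hx, ha3, ha, h1, h2, h3⟩ := O73.data13
  refine ek_frob1 (r := 3) (by norm_num) (by norm_num) ?_ ?_ hx ⟨h1, h2, h3, ha3⟩ ha
  · rw [hc]; norm_num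
  · rw [hc]; norm_num

theorem ek_o73_7' (hc : Nat.card O73.PO = 4585351680) : EK.{0} 7 O73.PO := by
  obtain ⟨x, a, y, hx, hy, ha2, ha, h1, h2, h3, h4⟩ := O73.data7
  refine ek_frob2 (q := 13) (by norm_num) (by norm_num) ?_ ?_ hx ⟨h1, h2, h3, by rw [pow_two]; exact ha2⟩
    (by norm_num) (by norm_num) (by norm_num) hy h4 ?_
  · rw [hc]; norm_num
  · rw [hc]; norm_num
  · intro k h1 h8
    interval_cases k <;> norm_num

/-- **Ω₇(3), `p = 13`, module side.** -/
theorem ek_o73_13 {S : Type u} [Group S] (hg : IsNamed (.oodd 3 3) S) : EK.{u} 13 S := by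
  obtain ⟨⟨e⟩, hc⟩ := exists_iso hg
  exact EK.congr e (ek_o73_13' hc)

/-- **Ω₇(3), `p = 7`, module side.** -/
theorem ek_o73_7 {S : Type u} [Group S] (hg : IsNamed (.oodd 3 3) S) : EK.{u} 7 S := by
  obtain ⟨⟨e⟩, hc⟩ := exists_iso hg
  exact EK.congr e (ek_o73_7' hc)

theorem killRow_o73_13 : KillRow.{u} 13 (.oodd 3 3) := fun _ _ _ hg => Or.inr (ek_o73_13 hg)

theorem killRow_o73_7 : KillRow.{u} 7 (.oodd 3 3) := fun _ _ _ hg => Or.inr (ek_o73_7 hg)

end Cfsg.Agent.H572.RIM
end

-- part: H887/RIM/Extra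
section
/-!
# S4816 (RIM), EK tool E7: extraspecial subgroups (helper887)

`R ≤ L`, `z ∈ R` central in `R`, `z ^ r = 1` (`r` prime, `r ≠ p`), all commutators of `R` powers of `z`, `z` not trivial on
the elementary abelian `p`-group `V`:
* `extra_le` : `m ^ 2 ≤ |R : Z(R)|` gives `p ^ m ≤ |V|`;
* `extra_le_conj` : if `z` is conjugate in `L` to the powers `z ^ k`, `k ∈ T`, then even `p ^ (|T| m) |C_V(z)| ≤ |V|`.
-/

set_option autoImplicit false
set_option linter.style.haveILetI false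
set_option linter.unusedSectionVars false

namespace Cfsg.Agent.H887.RIM

open Module

theorem pow_mod_eq {K : Type*} [Field K] {ζ : K} {r : ℕ} (hr : 0 < r) (hord : orderOf ζ = r) {a b : ℕ}
    (h : ζ ^ a = ζ ^ b) : a % r = b % r := by
  have hp : IsPrimitiveRoot ζ r := by rw [← hord]; exact IsPrimitiveRoot.orderOf ζ
  refine hp.pow_inj (Nat.mod_lt _ hr) (Nat.mod_lt _ hr) ?_
  rw [← hord, pow_mod_orderOf, pow_mod_orderOf, h]

section lin

variable {K : Type*} [Field K] {W : Type*} [AddCommGroup W] [Module K W] {R : Type*} [Group R]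

theorem rho_ne_zero [Nontrivial W] (ρ : R →* Module.End K W) (r : R) : ρ r ≠ 0 := by
  intro h
  have h1 : ρ (r * r⁻¹) = 0 := by rw [map_mul, h, zero_mul]
  rw [mul_inv_cancel, map_one] at h1
  exact one_ne_zero h1

/-- group elements with different commutator characters act linearly independently -/
theorem linInd [Nontrivial W] [FiniteDimensional K W] (ρ : R →* Module.End K W) (sc : R → R → K)
    (hsc : ∀ s r, ρ (s * r * s⁻¹) = sc s r • ρ r) {I : Type*} [Finite I] (f : I → R)
    (hf : ∀ i j, (∀ s, sc s (f i) = sc s (f j)) → i = j) : LinearIndependent K (fun i => ρ (f i)) := by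
  cases nonempty_fintype I
  have hu : ∀ (a b : K) (r : R), a • ρ r = b • ρ r → a = b := by
    intro a b r h
    have h1 : (a - b) • ρ r = 0 := by rw [sub_smul, h, sub_self]
    exact sub_eq_zero.1 ((smul_eq_zero.1 h1).resolve_right (rho_ne_zero ρ r))
  let χ : I → (R →* K) := fun i =>
    { toFun := fun s => sc s (f i)
      map_one' := by
        apply hu _ _ (f i)
        rw [← hsc, one_smul]
        congr 1
        group
      map_mul' := by
        intro s t
        apply hu _ _ (f i)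
        rw [← hsc]
        have e : s * t * f i * (s * t)⁻¹ = s * (t * f i * t⁻¹) * s⁻¹ := by group
        rw [e, map_mul, map_mul, hsc t, mul_smul_comm, smul_mul_assoc, ← map_mul, ← map_mul, hsc, smul_smul]
        congr 1
        ring }
  have hχ : Function.Injective χ := by
    intro i j h
    apply hf
    intro s
    exact DFunLike.congr_fun h s
  rw [Fintype.linearIndependent_iff]
  intro c hc i
  by_contra hci
  obtain ⟨φ, hφ⟩ : ∃ φ : Module.Dual K (Module.End K W), φ (ρ (f i)) ≠ 0 := by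
    by_contra hcon
    push Not at hcon
    exact rho_ne_zero ρ (f i) ((Module.forall_dual_apply_eq_zero_iff K _).1 hcon)
  have hs : ∀ s, ∑ i, (c i * φ (ρ (f i))) * sc s (f i) = 0 := by
    intro s
    have h1 : ρ s * (∑ i, c i • ρ (f i)) * ρ s⁻¹ = 0 := by rw [hc, mul_zero, zero_mul]
    rw [Finset.mul_sum, Finset.sum_mul] at h1
    have h2 : ∑ i, c i • sc s (f i) • ρ (f i) = 0 := by
      rw [← h1]
      refine Finset.sum_congr rfl fun i _ => ?_
      rw [← hsc, map_mul, map_mul, mul_smul_comm, smul_mul_assoc]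
    have h3 := congrArg φ h2
    rw [map_sum, map_zero] at h3
    rw [← h3]
    refine Finset.sum_congr rfl fun i _ => ?_
    rw [map_smul, map_smul, smul_eq_mul, smul_eq_mul]
    ring
  have hd := (linearIndependent_monoidHom R K).comp χ hχ
  rw [Fintype.linearIndependent_iff] at hd
  have h5 := hd (fun i => c i * φ (ρ (f i))) (by
    funext s
    have h6 := hs s
    simpa only [χ, _root_.Function.comp_apply, _root_.MonoidHom.coe_mk, _root_.OneHom.coe_mk, _root_.Finset.sum_apply, _root_.Pi.smul_apply, _root_.smul_eq_mul, _root_.Pi.zero_apply] using h6) i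
  rcases mul_eq_zero.1 h5 with h6 | h6
  · exact hci h6
  · exact hφ h6

end lin

section eig

variable {K : Type*} [Field K] {W : Type*} [AddCommGroup W] [Module K W] [FiniteDimensional K W] {L : Type*} [Group L]
  [Finite L] (ρ : L →* Module.End K W) (R : Subgroup L) {z : L} (hzR : z ∈ R) {r : ℕ} (hr : r.Prime) (hzr : z ^ r = 1)
  (hzc : ∀ x ∈ R, z * x = x * z) (hcomm : ∀ x ∈ R, ∀ y ∈ R, ∃ k : ℕ, x * y * x⁻¹ * y⁻¹ = z ^ k)
include hr hzr hzc hcomm

omit [Finite L] in
theorem zeta_pow {ζ : K} (hE : (ρ z).eigenspace ζ ≠ ⊥) : ζ ^ r = 1 := by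
  obtain ⟨v, hv, hv0⟩ := Submodule.exists_mem_ne_zero_of_ne_bot hE
  rw [Module.End.mem_eigenspace_iff] at hv
  have h1 : ∀ k : ℕ, ρ (z ^ k) v = ζ ^ k • v := by
    intro k
    induction k with
    | zero => rw [pow_zero, pow_zero, map_one, one_smul]; rfl
    | succ k ih => rw [pow_succ, map_mul, Module.End.mul_apply, hv, map_smul, ih, smul_smul, pow_succ, mul_comm]
  have h2 := h1 r
  rw [hzr, map_one, Module.End.one_apply] at h2
  have h3 : (ζ ^ r - 1) • v = 0 := by rw [sub_smul, ← h2, one_smul, sub_self]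
  exact sub_eq_zero.1 ((smul_eq_zero.1 h3).resolve_right hv0)

/-- the bound in an eigenspace of `z` -/
theorem index_le {ζ : K} (hζ : ζ ≠ 1) (hE : (ρ z).eigenspace ζ ≠ ⊥) :
    (Subgroup.center R).index ≤ finrank K ((ρ z).eigenspace ζ) ^ 2 := by
  classical
  have hζr : ζ ^ r = 1 := zeta_pow ρ R hr hzr hzc hcomm hE
  have hord : orderOf ζ = r := by
    rcases (Nat.dvd_prime hr).1 (orderOf_dvd_of_pow_eq_one hζr) with h | h
    · exact absurd (orderOf_eq_one_iff.1 h) hζ
    · exact h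
  set E := (ρ z).eigenspace ζ with hEdef
  haveI : Nontrivial E := Submodule.nontrivial_iff_ne_bot.2 hE
  have hinv : ∀ x ∈ R, ∀ v ∈ E, ρ x v ∈ E := by
    intro x hx v hv
    rw [hEdef, Module.End.mem_eigenspace_iff] at hv ⊢
    rw [← Module.End.mul_apply, ← map_mul, hzc x hx, map_mul, Module.End.mul_apply, hv, map_smul]
  let ρE : R →* Module.End K E :=
    { toFun := fun x => (ρ (x : L)).restrict (hinv x x.2)
      map_one' := by
        apply LinearMap.ext
        intro v
        apply Subtype.ext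
        change ρ (1 : L) (v : W) = v
        rw [map_one]; rfl
      map_mul' := by
        intro x y
        apply LinearMap.ext
        intro v
        apply Subtype.ext
        change ρ ((x : L) * (y : L)) (v : W) = ρ (x : L) (ρ (y : L) (v : W))
        rw [map_mul]; rfl }
  have hρE : ∀ (x : R) (v : E), ((ρE x v : E) : W) = ρ (x : L) (v : W) := fun x v => rfl
  have hzk : ∀ (k : ℕ) (v : W), v ∈ E → ρ (z ^ k) v = ζ ^ k • v := by
    intro k v hv
    rw [hEdef, Module.End.mem_eigenspace_iff] at hv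
    induction k with
    | zero => rw [pow_zero, pow_zero, map_one, one_smul]; rfl
    | succ k ih => rw [pow_succ, map_mul, Module.End.mul_apply, hv, map_smul, ih, smul_smul, pow_succ, mul_comm]
  choose! k hk using hcomm
  have hsc : ∀ s x : R, ρE (s * x * s⁻¹) = (ζ ^ k (s : L) (x : L)) • ρE x := by
    intro s x
    apply LinearMap.ext
    intro v
    apply Subtype.ext
    rw [hρE]
    have h1 : ((s * x * s⁻¹ : R) : L) = z ^ k (s : L) (x : L) * (x : L) := by
      rw [← hk s s.2 x x.2]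
      push_cast
      group
    rw [h1, map_mul, Module.End.mul_apply, hzk _ _ (hinv x x.2 v v.2)]
    rfl
  have hf : ∀ i j : R ⧸ Subgroup.center R, (∀ s : R, ζ ^ k (s : L) ((Quotient.out i : R) : L) =
      ζ ^ k (s : L) ((Quotient.out j : R) : L)) → i = j := by
    intro i j h
    rw [← QuotientGroup.out_eq' i, ← QuotientGroup.out_eq' j, QuotientGroup.eq, Subgroup.mem_center_iff]
    intro s
    have h1 := h s⁻¹
    have h2 : z ^ k ((s⁻¹ : R) : L) ((Quotient.out i : R) : L) = z ^ k ((s⁻¹ : R) : L) ((Quotient.out j : R) : L) := by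
      have h1 := pow_mod_eq hr.pos hord h1
      rw [← Nat.mod_add_div (k ((s⁻¹ : R) : L) ((Quotient.out i : R) : L)) r,
        ← Nat.mod_add_div (k ((s⁻¹ : R) : L) ((Quotient.out j : R) : L)) r, pow_add, pow_add, pow_mul, pow_mul, hzr,
        one_pow, one_pow, h1]
    rw [← hk _ (s⁻¹).2 _ (Quotient.out i).2, ← hk _ (s⁻¹).2 _ (Quotient.out j).2] at h2
    apply Subtype.ext
    generalize ((Quotient.out i : R)) = a at h2 ⊢
    generalize ((Quotient.out j : R)) = b at h2 ⊢
    push_cast at h2 ⊢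
    rw [inv_inv] at h2
    -- h2 : s⁻¹ a s a⁻¹ = s⁻¹ b s b⁻¹
    have h3 : (a : L) * s * (a : L)⁻¹ = b * s * (b : L)⁻¹ := by
      have := congrArg (fun t => (s : L) * t) h2
      simpa only [mul_assoc, _root_.mul_inv_cancel_left] using this
    calc (s : L) * ((a : L)⁻¹ * b) = (a : L)⁻¹ * (a * s * (a : L)⁻¹) * b := by group
      _ = (a : L)⁻¹ * (b * s * (b : L)⁻¹) * b := by rw [h3]
      _ = (a : L)⁻¹ * b * s := by group
  have hli := linInd ρE (fun s x => ζ ^ k (s : L) (x : L)) hsc (fun i : R ⧸ Subgroup.center R => Quotient.out i) hf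
  haveI : Fintype (R ⧸ Subgroup.center R) := Fintype.ofFinite _
  have h1 := hli.fintype_card_le_finrank
  rw [Module.finrank_linearMap, ← Nat.card_eq_fintype_card] at h1
  rw [Subgroup.index, sq]
  exact h1

end eig

/-- **E7, with conjugates of `z`.** -/
theorem extra_le_conj {p : ℕ} (hp : p.Prime) {L V : Type*} [Group L] [Finite L] [AddCommGroup V] [Finite V]
    [DistribMulAction L V] (hV : ∀ v : V, p • v = 0) (R : Subgroup L) {z : L} {r : ℕ} (hr : r.Prime)
    (hrp : r ≠ p) (hzr : z ^ r = 1) (hzc : ∀ x ∈ R, z * x = x * z)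
    (hcomm : ∀ x ∈ R, ∀ y ∈ R, ∃ k : ℕ, x * y * x⁻¹ * y⁻¹ = z ^ k) {v : V} (hv : z • v ≠ v) {m : ℕ}
    (hm : m ^ 2 ≤ (Subgroup.center R).index) (T : Finset ℕ) (hT : ∀ k ∈ T, k < r ∧ ∃ g : L, g * z * g⁻¹ = z ^ k) :
    p ^ (T.card * m) * Nat.card {v : V // z • v = v} ≤ Nat.card V := by
  classical
  obtain ⟨K, _, _, _, W, _, _, _, ρ, hcard, hker, hfix⟩ := exists_lin (H := L) hp hV
  have hρz : ρ z ≠ 1 := fun h => hv ((hker z).1 h v)
  have hrK : (r : K) ≠ 0 := by
    intro h
    rw [CharP.cast_eq_zero_iff K p] at h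
    exact hrp ((Nat.prime_dvd_prime_iff_eq hp hr).1 h).symm
  have hρr : ρ z ^ r = 1 := by rw [← map_pow, hzr, map_one]
  have hρr1 : ρ z ^ r = 1 := hρr
  obtain ⟨ζ, hζ, hE⟩ : ∃ ζ : K, ζ ≠ 1 ∧ (ρ z).eigenspace ζ ≠ ⊥ := by
    by_contra hcon
    push Not at hcon
    apply hρz
    have h1 : (⊤ : Submodule K W) ≤ (ρ z).eigenspace 1 := by
      rw [← Module.End.iSup_maxGenEigenspace_eq_top (ρ z)]
      refine iSup_le fun μ => ?_
      rw [H912.Bd.maxGen_eq hrK hρr]
      by_cases hμ : μ = 1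
      · rw [hμ]
      · rw [hcon μ hμ]; exact bot_le
    apply LinearMap.ext
    intro w
    have h2 := h1 (Submodule.mem_top (x := w))
    rw [Module.End.mem_eigenspace_iff, one_smul] at h2
    rw [h2]; rfl
  have hζr : ζ ^ r = 1 := zeta_pow ρ R hr hzr hzc hcomm hE
  have hord : orderOf ζ = r := by
    rcases (Nat.dvd_prime hr).1 (orderOf_dvd_of_pow_eq_one hζr) with h | h
    · exact absurd (orderOf_eq_one_iff.1 h) hζ
    · exact h
  have hz1 : z ≠ 1 := fun h => hρz (by rw [h, map_one])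
  have hEk : ∀ k ∈ T, (ρ z).eigenspace (ζ ^ k) ≠ ⊥ := by
    intro k hk
    obtain ⟨-, g, hg⟩ := hT k hk
    obtain ⟨w, hw, hw0⟩ := Submodule.exists_mem_ne_zero_of_ne_bot hE
    rw [Module.End.mem_eigenspace_iff] at hw
    have hzk : ∀ j : ℕ, ρ (z ^ j) w = ζ ^ j • w := by
      intro j
      induction j with
      | zero => rw [pow_zero, pow_zero, map_one, one_smul]; rfl
      | succ j ih => rw [pow_succ, map_mul, Module.End.mul_apply, hw, map_smul, ih, smul_smul, pow_succ, mul_comm]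
    rw [Submodule.ne_bot_iff]
    refine ⟨ρ g⁻¹ w, ?_, ?_⟩
    · rw [Module.End.mem_eigenspace_iff, ← Module.End.mul_apply, ← map_mul]
      have e : z * g⁻¹ = g⁻¹ * z ^ k := by rw [← hg]; group
      rw [e, map_mul, Module.End.mul_apply, hzk, map_smul]
    · intro h0
      apply hw0
      have h1 : ρ g (ρ g⁻¹ w) = w := by
        rw [← Module.End.mul_apply, ← map_mul, mul_inv_cancel, map_one]; rfl
      rw [← h1, h0, map_zero]
  have hk1 : ∀ k ∈ T, ζ ^ k ≠ 1 := by
    intro k hk h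
    obtain ⟨hkr, g, hg⟩ := hT k hk
    have h1 := orderOf_dvd_of_pow_eq_one h
    rw [hord] at h1
    rcases Nat.eq_zero_or_pos k with h2 | h2
    · rw [h2, pow_zero] at hg
      apply hz1
      have : z = g⁻¹ * 1 * g := by rw [← hg]; group
      rw [this]; group
    · exact absurd (Nat.le_of_dvd h2 h1) (not_le.2 hkr)
  have hdk : ∀ k ∈ T, m ≤ finrank K ((ρ z).eigenspace (ζ ^ k)) := by
    intro k hk
    have h1 := index_le ρ R hr hzr hzc hcomm (hk1 k hk) (hEk k hk)
    exact (Nat.pow_le_pow_iff_left two_ne_zero).1 (hm.trans h1)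
  -- the sum of the eigenspaces
  let ν : Option T → K := fun o => o.elim 1 fun k => ζ ^ (k : ℕ)
  have hν : Function.Injective ν := by
    intro a b hab
    cases a with
    | none =>
      cases b with
      | none => rfl
      | some b => exact absurd hab.symm (hk1 b b.2)
    | some a =>
      cases b with
      | none => exact absurd hab (hk1 a a.2)
      | some b =>
        have h1 : ζ ^ (a : ℕ) = ζ ^ (b : ℕ) := hab
        have h2 := pow_mod_eq hr.pos hord h1
        rw [Nat.mod_eq_of_lt (hT a a.2).1, Nat.mod_eq_of_lt (hT b b.2).1] at h2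
        exact congrArg some (Subtype.ext h2)
  have hind : iSupIndep (fun o : Option T => (ρ z).eigenspace (ν o)) :=
    (Module.End.eigenspaces_iSupIndep (ρ z)).comp hν
  have hsum := H912.Bd.sum_finrank_le hind
  rw [Fintype.sum_option] at hsum
  have h1 : T.card * m ≤ ∑ k : T, finrank K ((ρ z).eigenspace (ν (some k))) := by
    calc T.card * m = ∑ _k : T, m := by rw [Finset.sum_const, Finset.card_univ, Fintype.card_coe, smul_eq_mul]
      _ ≤ _ := Finset.sum_le_sum fun k _ => hdk k k.2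
  have h2 : finrank K ((ρ z).eigenspace (ν none)) = finrank K (LinearMap.ker (ρ z - 1)) := by
    have e : (ρ z).eigenspace (ν none) = LinearMap.ker (ρ z - 1) := by
      change (ρ z).eigenspace (1 : K) = _
      ext w
      rw [Module.End.mem_eigenspace_iff, one_smul, LinearMap.mem_ker, LinearMap.sub_apply, Module.End.one_apply,
        sub_eq_zero]
    rw [e]
  rw [hcard, hfix, ← pow_add]
  refine Nat.pow_le_pow_right hp.pos ?_
  rw [h2] at hsum
  omega

end Cfsg.Agent.H887.RIM
end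

-- part: H74/RIM/XSp
section
/-!
# S4816 (RIM), module side: the extraspecial group `3 ^ (1 + 2 n)` (helper74)

`XS r s z` : `r_i, s_i, z` of order dividing 3, `[r_i, s_i] = z`, all other pairs commute.
* `XS.bound` : if `z` is not trivial on `V`: `p ^ (3 ^ n) |C_V(z)| ≤ |V|`;
* `XS.lift` : lifting through a surjective homomorphism with central kernel of exponent two.
-/

set_option autoImplicit false
set_option linter.unusedSectionVars false

namespace Cfsg.Agent.H74.RIM.XSp

open Subgroup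

/-- generators of an extraspecial group of order `3 ^ (1 + 2 n)` -/
structure XS {G : Type*} [Group G] {n : ℕ} (r s : Fin n → G) (z : G) : Prop where
  r3 : ∀ i, r i ^ 3 = 1
  s3 : ∀ i, s i ^ 3 = 1
  z3 : z ^ 3 = 1
  zr : ∀ i, z * r i = r i * z
  zs : ∀ i, z * s i = s i * z
  rr : ∀ i j, r i * r j = r j * r i
  ss : ∀ i j, s i * s j = s j * s i
  rs : ∀ i j, i ≠ j → r i * s j = s j * r i
  c : ∀ i, r i * s i = z * (s i * r i)

section comm

variable {G : Type*} [Group G]

theorem cen_closure {T : Set G} {z : G} (hz : ∀ t ∈ T, z * t = t * z) {x : G} (hx : x ∈ _root_.Subgroup.closure T) :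
    z * x = x * z := by
  have h : closure T ≤ centralizer {z} := by
    rw [closure_le]
    intro t ht
    exact mem_centralizer_singleton_iff.2 (hz t ht).symm
  exact (mem_centralizer_singleton_iff.1 (h hx)).symm

theorem zpow_comm {z x : G} (h : z * x = x * z) (k : ℤ) : z ^ k * x = x * z ^ k :=
  ((show Commute z x from h).zpow_left k).eq

theorem comm_one {T : Set G} {z b : G} (hz : ∀ t ∈ T, z * t = t * z)
    (hT : ∀ a ∈ T, ∃ k : ℤ, a * b = z ^ k * (b * a)) {x : G} (hx : x ∈ _root_.Subgroup.closure T) :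
    ∃ k : ℤ, x * b = z ^ k * (b * x) := by
  induction hx using closure_induction with
  | mem a ha => exact hT a ha
  | one => exact ⟨0, by simp⟩
  | mul x y hx hy ihx ihy =>
    obtain ⟨k, hk⟩ := ihx
    obtain ⟨l, hl⟩ := ihy
    refine ⟨k + l, ?_⟩
    have h1 := zpow_comm (cen_closure hz hx) l
    calc x * y * b = x * (y * b) := by group
      _ = x * z ^ l * (b * y) := by rw [hl]; group
      _ = z ^ l * (x * b) * y := by rw [← h1]; group
      _ = z ^ (k + l) * (b * (x * y)) := by rw [hk, add_comm, zpow_add]; group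
  | inv x hx ih =>
    obtain ⟨k, hk⟩ := ih
    refine ⟨-k, ?_⟩
    have h1 := zpow_comm (z := z) (cen_closure hz hx) k
    have h2 : b * x⁻¹ = x⁻¹ * (z ^ k * b) := by
      calc b * x⁻¹ = x⁻¹ * (x * b) * x⁻¹ := by group
        _ = x⁻¹ * (z ^ k * b) := by rw [hk]; group
    have h3 : x⁻¹ * z ^ k = z ^ k * x⁻¹ := by
      calc x⁻¹ * z ^ k = x⁻¹ * (z ^ k * x) * x⁻¹ := by group
        _ = z ^ k * x⁻¹ := by rw [h1]; group
    rw [h2, ← mul_assoc (x⁻¹), h3]
    group

theorem comm_all {T : Set G} {z : G} (hz : ∀ t ∈ T, z * t = t * z)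
    (hT : ∀ a ∈ T, ∀ b ∈ T, ∃ k : ℤ, a * b = z ^ k * (b * a)) {x y : G} (hx : x ∈ _root_.Subgroup.closure T) (hy : y ∈ closure T) :
    ∃ k : ℤ, x * y = z ^ k * (y * x) := by
  obtain ⟨k, hk⟩ := comm_one hz (b := x) (fun a ha => by
    obtain ⟨k, hk⟩ := comm_one hz (b := a) (fun c hc => hT c hc a ha) hx
    refine ⟨-k, ?_⟩
    rw [hk]; group) hy
  refine ⟨-k, ?_⟩
  rw [hk]; group

end comm

section index

variable {G : Type*} [Group G] {n : ℕ} {r s : Fin n → G} {z : G}

/-- the generators -/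
def gen (r s : Fin n → G) : Fin n ⊕ Fin n → G := Sum.elim r s

/-- the group -/
def RR (r s : Fin n → G) (z : G) : Subgroup G := _root_.Subgroup.closure (insert z (Set.range (gen r s)))

theorem gen_mem (j : Fin n ⊕ Fin n) : gen r s j ∈ RR r s z := subset_closure (Set.mem_insert_of_mem _ ⟨j, rfl⟩)

variable (X : XS r s z)
include X

theorem XS.zg (j : Fin n ⊕ Fin n) : z * gen r s j = gen r s j * z := by
  rcases j with i | i
  · exact X.zr i
  · exact X.zs i

theorem XS.cenT : ∀ t ∈ insert z (Set.range (gen r s)), z * t = t * z := by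
  rintro t (rfl | ⟨j, rfl⟩)
  · rfl
  · exact X.zg j

theorem XS.cen {x : G} (hx : x ∈ RR r s z) : z * x = x * z := cen_closure X.cenT hx

theorem XS.commT : ∀ a ∈ insert z (Set.range (gen r s)), ∀ b ∈ insert z (Set.range (gen r s)),
    ∃ k : ℤ, a * b = z ^ k * (b * a) := by
  rintro a (rfl | ⟨i, rfl⟩) b (rfl | ⟨j, rfl⟩)
  · exact ⟨0, by simp⟩
  · exact ⟨0, by rw [X.zg j]; simp⟩
  · exact ⟨0, by rw [X.zg i]; simp⟩
  · rcases i with i | i <;> rcases j with j | j
    · exact ⟨0, by rw [zpow_zero, one_mul]; exact X.rr i j⟩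
    · by_cases h : i = j
      · subst h
        exact ⟨1, by rw [zpow_one]; exact X.c i⟩
      · exact ⟨0, by rw [zpow_zero, one_mul]; exact X.rs i j h⟩
    · by_cases h : i = j
      · subst h
        refine ⟨-1, ?_⟩
        show s i * r i = z ^ (-1 : ℤ) * (r i * s i)
        rw [X.c i]; group
      · exact ⟨0, by rw [zpow_zero, one_mul]; exact (X.rs j i (Ne.symm h)).symm⟩
    · exact ⟨0, by rw [zpow_zero, one_mul]; exact X.ss i j⟩

theorem XS.comm {x y : G} (hx : x ∈ RR r s z) (hy : y ∈ RR r s z) : ∃ k : ℤ, x * y = z ^ k * (y * x) :=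
  comm_all X.cenT X.commT hx hy

/-- the commutator with an element -/
def XS.cm (t : G) (ht : t ∈ RR r s z) : ↥(RR r s z) →* ↥(zpowers z) where
  toFun x := ⟨(x : G) * t * (x : G)⁻¹ * t⁻¹, by
    obtain ⟨k, hk⟩ := X.comm x.2 ht
    rw [hk]
    exact ⟨k, by group⟩⟩
  map_one' := Subtype.ext (by simp only [_root_.OneMemClass.coe_one, _root_.one_mul, _root_.inv_one, _root_.mul_one, _root_.mul_inv_cancel])
  map_mul' x y := by
    apply Subtype.ext
    obtain ⟨k, hk⟩ := X.comm y.2 ht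
    have h1 : (y : G) * t * (y : G)⁻¹ * t⁻¹ = z ^ k := by rw [hk]; group
    have h2 := zpow_comm (X.cen x.2) k
    show (x : G) * y * t * ((x : G) * y)⁻¹ * t⁻¹ = (x : G) * t * (x : G)⁻¹ * t⁻¹ * ((y : G) * t * (y : G)⁻¹ * t⁻¹)
    rw [h1]
    have h3 := X.cen ht
    have h4 : (x : G) * t * (x : G)⁻¹ * t⁻¹ * z ^ k = z ^ k * ((x : G) * t * (x : G)⁻¹ * t⁻¹) := by
      have h5 : (x : G) * t * (x : G)⁻¹ * t⁻¹ ∈ RR r s z :=
        mul_mem (mul_mem (mul_mem x.2 ht) (inv_mem x.2)) (inv_mem ht)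
      exact (zpow_comm (X.cen h5) k).symm
    rw [h4]
    calc (x : G) * y * t * ((x : G) * y)⁻¹ * t⁻¹ = x * (y * t * (y : G)⁻¹ * t⁻¹) * t * (x : G)⁻¹ * t⁻¹ := by group
      _ = z ^ k * ((x : G) * t * (x : G)⁻¹ * t⁻¹) := by rw [h1, ← h2]; group

/-- all the commutators with the generators -/
def XS.F : ↥(RR r s z) →* (Fin n ⊕ Fin n → ↥(zpowers z)) := MonoidHom.pi fun j => X.cm (gen r s j) (gen_mem j)

theorem XS.F_apply (x : ↥(RR r s z)) (j : Fin n ⊕ Fin n) :
    ((X.F x j : ↥(zpowers z)) : G) = (x : G) * gen r s j * (x : G)⁻¹ * (gen r s j)⁻¹ := rfl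

open scoped IsMulCommutative in
theorem XS.F_surj : Function.Surjective X.F := by
  classical
  rw [← MonoidHom.range_eq_top, eq_top_iff]
  rintro g -
  -- the unit vectors
  have key : ∀ j, (Pi.mulSingle j (⟨z, mem_zpowers z⟩ : ↥(zpowers z)) : Fin n ⊕ Fin n → ↥(zpowers z)) ∈ X.F.range := by
    have hrr : ∀ i j, r i * r j * (r i)⁻¹ * (r j)⁻¹ = 1 := fun i j => by rw [X.rr]; group
    have hss : ∀ i j, s i * s j * (s i)⁻¹ * (s j)⁻¹ = 1 := fun i j => by rw [X.ss]; group
    intro j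
    rcases j with i | i
    · -- `s i ⁻¹`
      refine ⟨(⟨s i, gen_mem (Sum.inr i)⟩ : ↥(RR r s z))⁻¹, ?_⟩
      rw [map_inv, inv_eq_iff_eq_inv, ← Pi.mulSingle_inv]
      funext j
      apply Subtype.ext
      rw [X.F_apply]
      rcases j with j | j
      · by_cases h : i = j
        · subst h
          rw [Pi.mulSingle_eq_same]
          show s i * r i * (s i)⁻¹ * (r i)⁻¹ = z⁻¹
          have h1 : s i * r i = z⁻¹ * (r i * s i) := by rw [X.c i]; group
          rw [h1]; group
        · rw [Pi.mulSingle_eq_of_ne (fun h' => h (Sum.inl.inj h').symm)]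
          show s i * r j * (s i)⁻¹ * (r j)⁻¹ = 1
          rw [← X.rs j i (Ne.symm h)]; group
      · rw [Pi.mulSingle_eq_of_ne (fun h => by cases h)]
        exact hss i j
    · refine ⟨(⟨r i, gen_mem (Sum.inl i)⟩ : ↥(RR r s z)), ?_⟩
      funext j
      apply Subtype.ext
      rw [X.F_apply]
      rcases j with j | j
      · rw [Pi.mulSingle_eq_of_ne (fun h => by cases h)]
        exact hrr i j
      · by_cases h : i = j
        · subst h
          rw [Pi.mulSingle_eq_same]
          show r i * s i * (r i)⁻¹ * (s i)⁻¹ = z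
          rw [X.c i]; group
        · rw [Pi.mulSingle_eq_of_ne (fun h' => h (Sum.inr.inj h').symm)]
          show r i * s j * (r i)⁻¹ * (s j)⁻¹ = 1
          rw [X.rs i j h]; group
  rw [← Finset.univ_prod_mulSingle g]
  refine Subgroup.prod_mem _ fun j _ => ?_
  obtain ⟨k, hk⟩ := mem_zpowers_iff.1 (g j).2
  have h1 : g j = (⟨z, mem_zpowers z⟩ : ↥(zpowers z)) ^ k := Subtype.ext hk.symm
  rw [h1, Pi.mulSingle_zpow]
  exact zpow_mem (key j) k

theorem XS.index_le [Finite G] (hz : z ≠ 1) : (3 ^ n) ^ 2 ≤ (center ↥(RR r s z)).index := by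
  have h1 : center ↥(RR r s z) ≤ X.F.ker := by
    intro x hx
    rw [MonoidHom.mem_ker]
    funext j
    apply Subtype.ext
    rw [X.F_apply]
    have h2 := congrArg Subtype.val (mem_center_iff.1 hx ⟨gen r s j, gen_mem j⟩)
    have h3 : gen r s j * (x : G) = (x : G) * gen r s j := h2
    rw [← h3]
    show gen r s j * (x : G) * (x : G)⁻¹ * (gen r s j)⁻¹ = 1
    group
  have h2 : X.F.ker.index = (3 ^ n) ^ 2 := by
    rw [index_ker, MonoidHom.range_eq_top.2 X.F_surj, card_top, Nat.card_fun, Nat.card_sum, Nat.card_fin,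
      Nat.card_zpowers, orderOf_eq_prime X.z3 hz, ← pow_mul, mul_comm n 2, two_mul]
  rw [← h2]
  exact index_antitone h1

/-- **The bound.** -/
theorem XS.bound [Finite G] {p : ℕ} (hp : p.Prime) (hp3 : p ≠ 3) {V : Type*} [AddCommGroup V] [Finite V]
    [DistribMulAction G V] (hV : ∀ v : V, p • v = 0) {v : V} (hv : z • v ≠ v) :
    p ^ 3 ^ n * Nat.card {v : V // z • v = v} ≤ Nat.card V := by
  have hz : z ≠ 1 := by
    rintro rfl
    exact hv (one_smul _ _)
  have h1 := Cfsg.Agent.H887.RIM.extra_le_conj hp hV (RR r s z) Nat.prime_three (Ne.symm hp3) X.z3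
    (fun x hx => X.cen hx) (fun x hx y hy => by
      obtain ⟨k, hk⟩ := X.comm hx hy
      have h1 : z ^ k ∈ zpowers z := ⟨k, rfl⟩
      obtain ⟨l, hl⟩ := mem_powers_iff_mem_zpowers.2 h1
      have hl' : z ^ l = z ^ k := hl
      refine ⟨l, ?_⟩
      rw [hl', hk]; group) hv (X.index_le hz) {1} (by
      intro k hk
      rw [Finset.mem_singleton.1 hk]
      exact ⟨by norm_num, 1, by group⟩)
  rw [Finset.card_singleton, one_mul] at h1
  exact h1

end index

section lift

variable {L S : Type*} [Group L] [Group S] {π : L →* S} (hs : Function.Surjective π)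
  (hk : ∀ k, π k = 1 → (∀ g, k * g = g * k) ∧ k ^ 2 = 1)
include hk

theorem uniq {y y' : L} (h : π y = π y') (h1 : y ^ 3 = 1) (h2 : y' ^ 3 = 1) : y = y' := by
  have h3 : π (y⁻¹ * y') = 1 := by rw [map_mul, map_inv, h, inv_mul_cancel]
  obtain ⟨h4, h5⟩ := hk _ h3
  set k := y⁻¹ * y' with hkd
  have h6 : y' = y * k := by rw [hkd]; group
  have h7 : Commute y k := (h4 y).symm
  have h8 : k ^ 3 = 1 := by rw [h6, h7.mul_pow, h1, one_mul] at h2; exact h2
  have h9 : k = 1 := by rw [pow_succ, h5, one_mul] at h8; exact h8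
  rw [h6, h9, mul_one]

theorem commute_lift {a b : L} (ha : a ^ 3 = 1) (h : π a * π b = π b * π a) : a * b = b * a := by
  have h1 : b * a * b⁻¹ = a := by
    refine uniq hk ?_ ?_ ha
    · rw [map_mul, map_mul, map_inv, ← h]; group
    · have h2 : (b * a * b⁻¹) ^ 3 = b * a ^ 3 * b⁻¹ := conj_pow
      rw [h2, ha]; group
  calc a * b = (b * a * b⁻¹) * b := by rw [h1]
    _ = b * a := by group

include hs in
theorem exists_lift {x : S} (hx : x ^ 3 = 1) : ∃ y : L, π y = x ∧ y ^ 3 = 1 := by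
  obtain ⟨y, rfl⟩ := hs x
  refine ⟨y ^ 4, ?_, ?_⟩
  · rw [map_pow, pow_succ, hx, one_mul]
  · have h1 : π (y ^ 3) = 1 := by rw [map_pow, hx]
    have h2 := (hk _ h1).2
    calc (y ^ 4) ^ 3 = ((y ^ 3) ^ 2) ^ 2 := by rw [← pow_mul, ← pow_mul, ← pow_mul]
      _ = 1 := by rw [h2, one_pow]

include hs in
theorem XS.lift {n : ℕ} {r s : Fin n → S} {z : S} (X : XS r s z) :
    ∃ (r' s' : Fin n → L) (z' : L), XS r' s' z' ∧ π z' = z := by
  choose r' hr hr3 using fun i => exists_lift hs hk (X.r3 i)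
  choose s' hs1 hs3 using fun i => exists_lift hs hk (X.s3 i)
  obtain ⟨z', hz, hz3⟩ := exists_lift hs hk X.z3
  have hzr : ∀ i, z' * r' i = r' i * z' := fun i => commute_lift hk hz3 (by rw [hz, hr]; exact X.zr i)
  have hzs : ∀ i, z' * s' i = s' i * z' := fun i => commute_lift hk hz3 (by rw [hz, hs1]; exact X.zs i)
  refine ⟨r', s', z', ⟨hr3, hs3, hz3, hzr, hzs, fun i j => commute_lift hk (hr3 i) (by rw [hr, hr]; exact X.rr i j),
    fun i j => commute_lift hk (hs3 i) (by rw [hs1, hs1]; exact X.ss i j),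
    fun i j h => commute_lift hk (hr3 i) (by rw [hr, hs1]; exact X.rs i j h), fun i => ?_⟩, hz⟩
  have h1 : r' i * s' i * (r' i)⁻¹ = z' * s' i := by
    refine uniq hk ?_ ?_ ?_
    · rw [map_mul, map_mul, map_inv, map_mul, hr, hs1, hz, X.c i]; group
    · rw [conj_pow, hs3]; group
    · rw [(show Commute z' (s' i) from hzs i).mul_pow, hz3, hs3, one_mul]
  calc r' i * s' i = (r' i * s' i * (r' i)⁻¹) * r' i := by group
    _ = z' * (s' i * r' i) := by rw [h1]; group

end lift

/-- transport by a homomorphism -/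
theorem XS.map {G H : Type*} [Group G] [Group H] (f : G →* H) {n : ℕ} {r s : Fin n → G} {z : G} (X : XS r s z) :
    XS (fun i => f (r i)) (fun i => f (s i)) (f z) := by
  refine ⟨fun i => ?_, fun i => ?_, ?_, fun i => ?_, fun i => ?_, fun i j => ?_, fun i j => ?_, fun i j h => ?_,
    fun i => ?_⟩
  · rw [← map_pow, X.r3, map_one]
  · rw [← map_pow, X.s3, map_one]
  · rw [← map_pow, X.z3, map_one]
  · rw [← map_mul, X.zr, map_mul]
  · rw [← map_mul, X.zs, map_mul]
  · rw [← map_mul, X.rr, map_mul]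
  · rw [← map_mul, X.ss, map_mul]
  · rw [← map_mul, X.rs i j h, map_mul]
  · rw [← map_mul, X.c, map_mul, map_mul]

end Cfsg.Agent.H74.RIM.XSp
end

-- part: H74/RIM/XRow
section
/-!
# S4816 (RIM), module side: rows from an extraspecial subgroup `3 ^ (1 + 2 n)` of `S` (helper74)

* `fx_bound` : `K / N` of exponent two, `z ∈ ⟨x, x ^ g⟩`: `p ^ (3 ^ n) |C_V(x)|² ≤ |V|²`;
* `false_of_XS` : with the union bound: `p ^ (3 ^ n) ≤ |S : N_S(⟨x⟩)|²`.
-/

set_option autoImplicit false
set_option linter.unusedSectionVars false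

namespace Cfsg.Agent.H74.RIM.XRow

open Subgroup Cfsg.Agent.H229.RIM Cfsg.Agent.H425.RIM.Tool Cfsg.Agent.H74.RIM.XSp

variable {p : ℕ} {H V S : Type*} [Group H] [Finite H] [AddCommGroup V] [Finite V] [DistribMulAction H V]
  [Group S] {K N : Subgroup H} {φ : N →* ℂˣ} {π : H →* S}

/-- `|C_V(x)|² ≤ |V| |C_V(x) ∩ C_V(x ^ g)|` -/
theorem pair_le {x g : H} {W : Type*} [Finite W] (f : V → W)
    (hf : ∀ a b, x • a = a → (g * x * g⁻¹) • a = a → x • b = b → (g * x * g⁻¹) • b = b → f a = f b → a = b) :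
    Nat.card ↥(fx V x) * Nat.card ↥(fx V x) ≤ Nat.card V * Nat.card W := by
  classical
  have h1 : ∀ v ∈ fx V x, (g * x * g⁻¹) • (g • v) = g • v := by
    intro v hv
    rw [mul_smul, mul_smul, inv_smul_smul]
    have : x • v = v := hv
    rw [this]
  let F : ↥(fx V x) × ↥(fx V x) →+ V :=
    { toFun := fun a => (a.1 : V) - g • (a.2 : V)
      map_zero' := by simp only [_root_.Prod.fst_zero, _root_.ZeroMemClass.coe_zero, _root_.Prod.snd_zero, _root_.smul_zero, _root_.sub_self]
      map_add' := by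
        intro a b
        simp only [Prod.fst_add, Prod.snd_add, AddSubgroup.coe_add, smul_add]
        abel }
  have h2 : Nat.card F.ker ≤ Nat.card W := by
    refine Nat.card_le_card_of_injective (fun a : ↥F.ker => f ((a : ↥(fx V x) × ↥(fx V x)).1 : V)) ?_
    rintro ⟨⟨a, b⟩, ha⟩ ⟨⟨a', b'⟩, ha'⟩ h
    have e1 : (a : V) = g • (b : V) := sub_eq_zero.1 ha
    have e2 : (a' : V) = g • (b' : V) := sub_eq_zero.1 ha'
    have e3 : (a : V) = a' := by
      refine hf _ _ a.2 ?_ a'.2 ?_ h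
      · rw [e1]; exact h1 _ b.2
      · rw [e2]; exact h1 _ b'.2
    have e4 : (b : V) = b' := by
      have := e1.symm.trans (e3.trans e2)
      exact smul_left_cancel g this
    exact Subtype.ext (Prod.ext (Subtype.ext e3) (Subtype.ext e4))
  have h3 : Nat.card F.range ≤ Nat.card V := Nat.card_le_card_of_injective _ Subtype.val_injective
  have h4 : Nat.card F.ker * F.ker.index = Nat.card (↥(fx V x) × ↥(fx V x)) := F.ker.card_mul_index
  rw [Nat.card_prod, AddSubgroup.index_ker] at h4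
  rw [← h4, mul_comm (Nat.card V)]
  exact Nat.mul_le_mul h2 h3

variable (A : Sit (V := V) p K N φ π)
include A

theorem fx_bound (hp : p.Prime) (hp3 : p ≠ 3) (hN : ∀ k ∈ K, k ^ 2 ∈ N) {n : ℕ} {r s : Fin n → S} {z : S}
    (X : XS r s z) (hz : z ≠ 1) {x g : H} (hx : z ∈ _root_.Subgroup.closure {π x, π (g * x * g⁻¹)}) :
    p ^ 3 ^ n * (Nat.card ↥(fx V x) * Nat.card ↥(fx V x)) ≤ Nat.card V * Nat.card V := by
  classical
  have hNn : N.Normal := ⟨fun a ha b => by
    have h1 : b * a = a * b := (mem_center_iff.1 (A.core.cen ha) b)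
    rw [h1, mul_inv_cancel_right]; exact ha⟩
  -- the action of `H / N`
  let ρ : H →* (AddMonoid.End V)ˣ := (DistribMulAction.toAddMonoidEnd H V).toHomUnits
  have hρ : ∀ (h : H) (v : V), ((ρ h : (AddMonoid.End V)ˣ) : AddMonoid.End V) v = h • v := fun _ _ => rfl
  have hρN : ∀ k ∈ N, ρ k = 1 := by
    intro k hk
    refine Units.ext (AddMonoidHom.ext fun v => ?_)
    exact (A.core.ker k).2 hk v
  let ρ' : H ⧸ N →* (AddMonoid.End V)ˣ := QuotientGroup.lift N ρ hρN
  letI : DistribMulAction (H ⧸ N) V := DistribMulAction.compHom V ((Units.coeHom (AddMonoid.End V)).comp ρ')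
  have hact : ∀ (h : H) (v : V), (QuotientGroup.mk h : H ⧸ N) • v = h • v := fun _ _ => rfl
  -- the projection
  have hNK : ∀ k ∈ N, π k = 1 := by
    intro k hk
    have : k ∈ π.ker := by rw [A.ker]; exact A.core.NK hk
    exact this
  let π' : H ⧸ N →* S := QuotientGroup.lift N π hNK
  have hπ' : ∀ h : H, π' (QuotientGroup.mk h) = π h := fun _ => rfl
  have hs : Function.Surjective π' := fun s => by
    obtain ⟨h, rfl⟩ := A.surj s
    exact ⟨QuotientGroup.mk h, rfl⟩
  have hk : ∀ k, π' k = 1 → (∀ g, k * g = g * k) ∧ k ^ 2 = 1 := by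
    intro k h
    obtain ⟨k, rfl⟩ := QuotientGroup.mk_surjective k
    have h1 : π k = 1 := h
    refine ⟨fun g => ?_, ?_⟩
    · obtain ⟨g, rfl⟩ := QuotientGroup.mk_surjective g
      rw [← QuotientGroup.mk_mul, ← QuotientGroup.mk_mul, A.K_cen h1]
    · rw [← QuotientGroup.mk_pow, QuotientGroup.eq_one_iff]
      apply hN
      rw [← A.ker]; exact h1
  obtain ⟨r', s', z', X', hz'⟩ := X.lift hs hk
  -- `z'` acts non-trivially
  obtain ⟨v, hv⟩ : ∃ v : V, z' • v ≠ v := by
    by_contra hcon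
    push Not at hcon
    obtain ⟨y, rfl⟩ := QuotientGroup.mk_surjective z'
    have h1 : y ∈ N := (A.core.ker y).1 fun v => by rw [← hact]; exact hcon v
    apply hz
    rw [← hz']
    exact hNK y h1
  have hb := X'.bound hp hp3 A.core.exp hv
  -- fixed vectors of `x` and `x ^ g`
  have hfix : ∀ a : V, x • a = a → (g * x * g⁻¹) • a = a → z' • a = a := by
    intro a h1 h2
    have h3 : _root_.Subgroup.closure {π x, π (g * x * g⁻¹)} ≤ (MulAction.stabilizer H a).map π := by
      rw [closure_le]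
      rintro _ (rfl | h)
      · exact mem_map_of_mem _ h1
      · rw [Set.mem_singleton_iff.1 h]; exact mem_map_of_mem _ h2
    obtain ⟨u, hu, hu'⟩ := h3 hx
    have h4 : (QuotientGroup.mk u : H ⧸ N) ^ 4 = z' := by
      refine uniq hk ?_ ?_ X'.z3
      · rw [map_pow, hπ', hu', hz', pow_succ, X.z3, one_mul]
      · have h5 : π' ((QuotientGroup.mk u : H ⧸ N) ^ 3) = 1 := by rw [map_pow, hπ', hu', X.z3]
        have h6 := (hk _ h5).2
        calc ((QuotientGroup.mk u : H ⧸ N) ^ 4) ^ 3 = (((QuotientGroup.mk u : H ⧸ N) ^ 3) ^ 2) ^ 2 := by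
              rw [← pow_mul, ← pow_mul, ← pow_mul]
          _ = 1 := by rw [h6, one_pow]
    rw [← h4, ← QuotientGroup.mk_pow, hact]
    exact (MulAction.stabilizer H a).pow_mem hu 4
  have hne : Nonempty {v : V // z' • v = v} := ⟨⟨0, smul_zero z'⟩⟩
  have hp2 := pair_le (V := V) (x := x) (g := g)
    (fun a : V => if h : z' • a = a then (⟨a, h⟩ : {v : V // z' • v = v}) else ⟨0, smul_zero z'⟩) (by
      intro a b h1 h2 h3 h4 h
      have ha := hfix a h1 h2
      have hb := hfix b h3 h4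
      simp only [dif_pos ha, dif_pos hb] at h
      exact congrArg Subtype.val h)
  calc p ^ 3 ^ n * (Nat.card ↥(fx V x) * Nat.card ↥(fx V x))
      ≤ p ^ 3 ^ n * (Nat.card V * Nat.card {v : V // z' • v = v}) := Nat.mul_le_mul_left _ hp2
    _ = Nat.card V * (p ^ 3 ^ n * Nat.card {v : V // z' • v = v}) := by ring
    _ ≤ Nat.card V * Nat.card V := Nat.mul_le_mul_left _ hb

/-- **The row.** -/
theorem false_of_XS (hp : p.Prime) (hp3 : p ≠ 3) (hsq : ¬ p ^ 2 ∣ Nat.card S) (hN : ∀ k ∈ K, k ^ 2 ∈ N) {n : ℕ}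
    {r s : Fin n → S} {z : S} (X : XS r s z) (hz : z ≠ 1) {x g : S} (hx : orderOf x = p)
    (hxz : z ∈ _root_.Subgroup.closure {x, g * x * g⁻¹}) (hnum : ∀ i : ℕ, i * p ≤ Nat.card S → i * i < p ^ 3 ^ n) : False := by
  classical
  have hfS : Finite S := Finite.of_surjective _ A.surj
  obtain ⟨x', hx', hox'⟩ := A.exists_lift_p hp hx
  obtain ⟨g', hg'⟩ := A.surj g
  have h1 := fx_bound A hp hp3 hN X hz (x := x') (g := g') (by
    rw [map_mul, map_mul, map_inv, hx', hg']; exact hxz)
  have h2 := A.union hp hsq hox'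
  rw [hx'] at h2
  set i := (normalizer ((zpowers x : Subgroup S) : Set S)).index with hi
  set c := Nat.card ↥(fx V x') with hc
  have h3 : i * p ≤ Nat.card S := by
    have h4 : zpowers x ≤ normalizer ((zpowers x : Subgroup S) : Set S) := le_normalizer
    have h5 : p ≤ Nat.card ↥(normalizer ((zpowers x : Subgroup S) : Set S)) := by
      rw [← hx, ← Nat.card_zpowers]
      exact Nat.card_le_card_of_injective _ (inclusion_injective h4)
    rw [← (normalizer ((zpowers x : Subgroup S) : Set S)).card_mul_index, mul_comm]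
    exact Nat.mul_le_mul_right _ h5
  have h4 := hnum i h3
  have h5 : 0 < Nat.card V := Nat.card_pos
  have h6 : Nat.card V * Nat.card V ≤ (i * c) * (i * c) := Nat.mul_le_mul h2 h2
  have h7 : p ^ 3 ^ n * (c * c) ≤ (i * i) * (c * c) := by
    calc p ^ 3 ^ n * (c * c) ≤ Nat.card V * Nat.card V := h1
      _ ≤ (i * c) * (i * c) := h6
      _ = (i * i) * (c * c) := by ring
  have h8 : 0 < c := by
    rcases Nat.eq_zero_or_pos c with h | h
    · rw [h, mul_zero] at h2; omega
    · exact h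
  have h9 : p ^ 3 ^ n ≤ i * i := Nat.le_of_mul_le_mul_right h7 (Nat.mul_pos h8 h8)
  omega

end Cfsg.Agent.H74.RIM.XRow
end

-- part: H74/RIM/XEK
section
/-!
# S4816 (RIM), module side: multiplier dividing 6 (helper74)

* `ek_six` : multiplier of order dividing 6, `NB p 2 S`; then `EK p S` follows from the case `K / N` of exponent two;
* `ek_of_XS` : `EK p S` from an extraspecial subgroup `3 ^ (1 + 2 n)`.
-/

set_option autoImplicit false
set_option linter.unusedSectionVars false

namespace Cfsg.Agent.H74.RIM.XEK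

open Cfsg Subgroup Cfsg.Agent.H229.RIM Cfsg.Agent.H425.RIM.Tool Cfsg.Agent.H74.RIM.XSp Cfsg.Agent.H74.RIM.XRow
open Cfsg.Agent.H665.RIM
open scoped commutatorElement

universe u

theorem bad {p : ℕ} {H V : Type u} [Group H] [Finite H] [AddCommGroup V] [Finite V] [DistribMulAction H V]
    {K N : Subgroup H} {φ : N →* ℂˣ} (C : CoreP (V := V) p K N φ) : Bad p N φ := by
  have htop : MulAction.stabilizer H (0 : V) = ⊤ := by
    rw [eq_top_iff]
    intro h _
    exact smul_zero h
  let e : ↥(MulAction.stabilizer H (0 : V)) ≃* H := (MulEquiv.subgroupCongr htop).trans Subgroup.topEquiv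
  have he : ∀ x, e x = (x : H) := fun _ => rfl
  intro χ hχ hov hd
  have h1 : IsIrrCharacter _ (χ ∘ e) := Cfsg.Agent.Characters.Core.isIrr_comp e.toMonoidHom e.surjective hχ
  refine C.P2 0 (χ ∘ e) h1 ?_ ?_
  · intro n hn hn'
    simp only [Function.comp, map_one]
    exact hov ⟨n, hn⟩
  · have h2 : charDegree (χ ∘ e) = charDegree χ := by
      rw [Cfsg.Agent.Blocks.Basic.charDegree_def, Cfsg.Agent.Blocks.Basic.charDegree_def, Function.comp, map_one]
    rw [h2]
    exact hd

theorem nb_use {p m : ℕ} {S : Type u} [Group S] (h : NB p m S) {E : Type u} [Group E] [Finite E] (π : E →* S)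
    (hs : Function.Surjective π) (Z : Subgroup E) (hZ : π.ker = Z) (hc : Z ≤ Subgroup.center E)
    (hp : commutator E = ⊤) (hm : Nat.card Z = m) (l : Z →* ℂˣ) (hl : Function.Injective l) :
    ∃ χ : E → ℂ, IsIrrCharacter E χ ∧ (∀ z : Z, χ z = χ 1 * l z) ∧ p ∣ charDegree χ := by
  subst hZ
  exact h E π hs hc hp hm l hl

/-- a subgroup of order three of a commutative group of order dividing 6 contains all the elements of order three -/
theorem mem_of_three {G : Type*} [Group G] [Finite G] (K N : Subgroup G) (hKc : K ≤ center G) (hK : Nat.card K ∣ 6)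
    (hNK : N ≤ K) (h3 : 3 ∣ Nat.card N) {u : G} (hu : u ∈ K) (hu3 : u ^ 3 = 1) : u ∈ N := by
  by_contra hun
  have : Fact (Nat.Prime 3) := ⟨Nat.prime_three⟩
  obtain ⟨w, hw⟩ := exists_prime_orderOf_dvd_card' 3 h3
  have hw' : orderOf (w : G) = 3 := by rw [Subgroup.orderOf_coe, hw]
  have hu1 : u ≠ 1 := by rintro rfl; exact hun (one_mem _)
  have huo : orderOf u = 3 := orderOf_eq_prime hu3 hu1
  have hc : Commute u (w : G) := ((mem_center_iff.1 (hKc hu)) w).symm
  -- nine elements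
  let f : Fin 3 × Fin 3 → K := fun a => ⟨u ^ (a.1 : ℕ) * (w : G) ^ (a.2 : ℕ),
    mul_mem (pow_mem hu _) (pow_mem (hNK w.2) _)⟩
  have hf : Function.Injective f := by
    rintro ⟨a, b⟩ ⟨a', b'⟩ h
    have h1 : u ^ (a : ℕ) * (w : G) ^ (b : ℕ) = u ^ (a' : ℕ) * (w : G) ^ (b' : ℕ) := congrArg Subtype.val h
    have h2 : ∀ k : ℤ, u ^ k ∈ N → (3 : ℤ) ∣ k := by
      intro k hk
      by_contra hnk
      apply hun
      have h4 : IsCoprime k 3 := by
        rw [Int.isCoprime_iff_gcd_eq_one, Int.gcd_comm]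
        have h5 : Int.gcd 3 k ∣ 3 := by
          have := Int.gcd_dvd_left (a := 3) (b := k)
          exact_mod_cast this
        rcases (Nat.dvd_prime Nat.prime_three).1 h5 with h6 | h6
        · exact h6
        · exfalso
          apply hnk
          have := Int.gcd_dvd_right (a := 3) (b := k)
          rw [h6] at this
          exact_mod_cast this
      obtain ⟨x, y, hxy⟩ := h4
      have h6 : (u ^ k) ^ x * (u ^ (3 : ℤ)) ^ y = u := by
        rw [← zpow_mul, ← zpow_mul, ← zpow_add, mul_comm k x, mul_comm 3 y, hxy, zpow_one]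
      have h7 : u ^ (3 : ℤ) = 1 := by exact_mod_cast hu3
      rw [h7, one_zpow, mul_one] at h6
      rw [← h6]
      exact zpow_mem hk x
    have h3 : u ^ ((a : ℤ) - a') ∈ N := by
      have h4 : u ^ ((a : ℤ) - a') = (w : G) ^ (b' : ℕ) * ((w : G) ^ (b : ℕ))⁻¹ := by
        rw [zpow_sub, zpow_natCast, zpow_natCast]
        have h5 : u ^ (a : ℕ) = u ^ (a' : ℕ) * (w : G) ^ (b' : ℕ) * ((w : G) ^ (b : ℕ))⁻¹ := by
          rw [← h1, mul_inv_cancel_right]
        rw [h5]
        have h6 : Commute (u ^ (a' : ℕ))⁻¹ ((w : G) ^ (b' : ℕ) * ((w : G) ^ (b : ℕ))⁻¹) := by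
          have h7 := hc.pow_pow (a' : ℕ) (b' : ℕ)
          have h8 := hc.pow_pow (a' : ℕ) (b : ℕ)
          exact (h7.inv_left).mul_right (h8.inv_left.inv_right)
        rw [mul_assoc (u ^ (a' : ℕ)), mul_assoc (u ^ (a' : ℕ)), ← h6.eq, mul_inv_cancel_left]
      rw [h4]
      exact mul_mem (pow_mem w.2 _) (inv_mem (pow_mem w.2 _))
    have h4 := h2 _ h3
    have h5 : (a : ℕ) = a' := by have := a.2; have := a'.2; omega
    rw [h5] at h1
    have h6 := mul_left_cancel h1
    have h7 : (b : ℕ) = b' := pow_injOn_Iio_orderOf (by rw [Set.mem_Iio, hw']; exact b.2)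
      (by rw [Set.mem_Iio, hw']; exact b'.2) h6
    exact Prod.ext (Fin.ext h5) (Fin.ext h7)
  have h1 := Nat.card_le_card_of_injective f hf
  rw [Nat.card_prod, Nat.card_fin] at h1
  have h2 := Nat.le_of_dvd (by norm_num) hK
  omega

theorem ek_six {p : ℕ} {S : Type u} [Group S] [Finite S] (h2 : NB p 2 S)
    (hM : ∀ (E : Type u) [Group E] [Finite E] (π : E →* S), Function.Surjective π → π.ker ≤ Subgroup.center E →
      commutator E = ⊤ → Nat.card π.ker ∣ 6)
    (hk : ∀ (H V : Type u) [Group H] [Finite H] [AddCommGroup V] [Finite V] [DistribMulAction H V]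
      (K N : Subgroup H) (φ : N →* ℂˣ) (π : H →* S), Sit (V := V) p K N φ π → (∀ k ∈ K, k ^ 2 ∈ N) → False) :
    EK p S := by
  intro H V _ _ _ _ _ K N φ π h hπ hker hKN
  have A : Sit (V := V) p K N φ π := ⟨h, hπ, hker, hKN⟩
  have hKc : K ≤ center H := A.K_le
  have h6 : Nat.card K ∣ 6 := by
    rw [← hker]
    exact hM H π hπ (by rw [hker]; exact hKc) h.perf
  by_contra _
  refine hk H V K N φ π A fun k hkK => ?_
  by_contra hkN
  -- `u = k ^ 2` has order three and is not in `N`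
  have hk6 : k ^ 6 = 1 := by
    obtain ⟨c, hc⟩ := h6
    rw [hc, pow_mul]
    have h1 : (⟨k, hkK⟩ : K) ^ Nat.card K = 1 := pow_card_eq_one'
    have h2 : k ^ Nat.card K = 1 := congrArg Subtype.val h1
    rw [h2, one_pow]
  set u := k ^ 2 with hu
  have huK : u ∈ K := pow_mem hkK 2
  have hu3 : u ^ 3 = 1 := by rw [hu, ← pow_mul]; exact hk6
  have hu1 : u ≠ 1 := by intro h0; rw [h0] at hkN; exact hkN (one_mem _)
  have huo : orderOf u = 3 := orderOf_eq_prime hu3 hu1
  have hN3 : ¬ 3 ∣ Nat.card N := fun h0 => hkN (mem_of_three K N hKc h6 h.NK h0 huK hu3)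
  have hNd : Nat.card N ∣ 6 := (card_dvd_of_le h.NK).trans h6
  have hN2 : Nat.card N = 2 := by
    have h1 : Nat.card N ≠ 1 := fun h0 => h.Nne (Subgroup.card_eq_one.1 h0)
    have h2 : Nat.card N ∣ 2 := by
      have h3 : (Nat.card N).Coprime 3 := ((Nat.prime_three.coprime_iff_not_dvd).2 hN3).symm
      exact h3.dvd_of_dvd_mul_right (by simpa only [_root_.Nat.reduceMul] using hNd)
    rcases (Nat.dvd_prime Nat.prime_two).1 h2 with h3 | h3
    · exact absurd h3 h1
    · exact h3
  set M := zpowers u with hM'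
  have hMK : M ≤ K := by rw [hM', zpowers_le]; exact huK
  have hMc : M ≤ center H := hMK.trans hKc
  have hMn : M.Normal := ⟨fun a ha b => by
    have h1 : b * a = a * b := (mem_center_iff.1 (hMc ha) b)
    rw [h1, mul_inv_cancel_right]; exact ha⟩
  have hM3 : Nat.card M = 3 := by rw [hM', Nat.card_zpowers, huo]
  -- `N ∩ M = 1`
  have hNM : ∀ a ∈ N, a ∈ M → a = 1 := by
    intro a ha hb
    have h1 : orderOf a ∣ 2 := by
      rw [← hN2, ← Subgroup.orderOf_mk a ha]; exact _root_.orderOf_dvd_natCard _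
    have h2 : orderOf a ∣ 3 := by
      rw [← hM3, ← Subgroup.orderOf_mk a hb]; exact _root_.orderOf_dvd_natCard _
    exact orderOf_eq_one_iff.1 (Nat.eq_one_of_dvd_coprimes (by norm_num) h1 h2)
  let f : N →* H ⧸ M := (QuotientGroup.mk' M).comp N.subtype
  have hf : Function.Injective f := by
    rw [injective_iff_map_eq_one]
    intro a ha
    have h1 : (a : H) ∈ M := (QuotientGroup.eq_one_iff (a : H)).1 ha
    exact Subtype.ext (hNM _ a.2 h1)
  have hMπ : ∀ k ∈ M, π k = 1 := by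
    intro k hk
    have : k ∈ π.ker := by rw [hker]; exact hMK hk
    exact this
  let πE : H ⧸ M →* S := QuotientGroup.lift M π hMπ
  have hπE : Function.Surjective πE := fun s => by
    obtain ⟨h, rfl⟩ := hπ s
    exact ⟨QuotientGroup.mk h, rfl⟩
  -- `K = N M`
  have hcard : Nat.card K ≤ Nat.card N * Nat.card M := by
    rw [hN2, hM3]; exact Nat.le_of_dvd (by norm_num) h6
  have hKNM : ∀ a ∈ K, ∃ b ∈ N, ∃ c ∈ M, a = b * c := by
    let F : N × M → K := fun x => ⟨(x.1 : H) * x.2, mul_mem (h.NK x.1.2) (hMK x.2.2)⟩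
    have hF : Function.Injective F := by
      rintro ⟨a, b⟩ ⟨a', b'⟩ h0
      have h1 : (a : H) * b = a' * b' := congrArg Subtype.val h0
      have h2 : (a' : H)⁻¹ * a = b' * (b : H)⁻¹ := by
        rw [inv_mul_eq_iff_eq_mul, ← mul_assoc, ← h1, mul_inv_cancel_right]
      have h3 : (a' : H)⁻¹ * a = 1 := hNM _ (mul_mem (inv_mem a'.2) a.2) (by
        rw [h2]; exact mul_mem b'.2 (inv_mem b.2))
      have h4 : (a : H) = a' := (inv_mul_eq_one.1 h3).symm
      rw [h4] at h1
      exact Prod.ext (Subtype.ext h4) (Subtype.ext (mul_left_cancel h1))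
    have hF' : Function.Surjective F := by
      have := Fintype.ofFinite (N × M)
      have := Fintype.ofFinite K
      apply ((Fintype.bijective_iff_injective_and_card F).2 ⟨hF, ?_⟩).2
      apply le_antisymm (Fintype.card_le_of_injective F hF)
      rw [← Nat.card_eq_fintype_card, ← Nat.card_eq_fintype_card, Nat.card_prod]
      exact hcard
    intro a ha
    obtain ⟨⟨b, c⟩, hbc⟩ := hF' ⟨a, ha⟩
    exact ⟨b, b.2, c, c.2, (congrArg Subtype.val hbc).symm⟩
  have hkerE : πE.ker = f.range := by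
    ext x
    obtain ⟨x, rfl⟩ := QuotientGroup.mk_surjective x
    constructor
    · intro hx
      have hx' : x ∈ K := by rw [← hker]; exact hx
      obtain ⟨b, hb, c, hc, rfl⟩ := hKNM x hx'
      refine ⟨⟨b, hb⟩, ?_⟩
      show (QuotientGroup.mk b : H ⧸ M) = QuotientGroup.mk (b * c)
      rw [QuotientGroup.eq, inv_mul_cancel_left]
      exact hc
    · rintro ⟨b, hb⟩
      rw [← hb]
      show π b = 1
      have : (b : H) ∈ π.ker := by rw [hker]; exact h.NK b.2
      exact this
  have hperf : commutator (H ⧸ M) = ⊤ := by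
    rw [commutator_def, ← Subgroup.map_top_of_surjective _ (QuotientGroup.mk'_surjective M), ← map_commutator,
      ← commutator_def, h.perf]
  have hcen : f.range ≤ center (H ⧸ M) := by
    rintro _ ⟨b, rfl⟩
    rw [mem_center_iff]
    intro g
    obtain ⟨g, rfl⟩ := QuotientGroup.mk_surjective g
    show (QuotientGroup.mk (g * b) : H ⧸ M) = QuotientGroup.mk (b * g)
    rw [mem_center_iff.1 (h.cen b.2) g]
  let ε : N ≃* f.range := MonoidHom.ofInjective hf
  have hε : ∀ b : N, ((ε b : f.range) : H ⧸ M) = f b := fun _ => rfl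
  obtain ⟨χ, hχ, hov, hd⟩ := nb_use h2 πE hπE f.range hkerE hcen hperf
    (by rw [← Nat.card_congr ε.toEquiv]; exact hN2) (φ.comp ε.symm.toMonoidHom)
    (h.inj.comp ε.symm.injective)
  refine bad h (χ ∘ QuotientGroup.mk' M)
    (Cfsg.Agent.Characters.Core.isIrr_comp (QuotientGroup.mk' M) (QuotientGroup.mk'_surjective M) hχ) ?_ ?_
  · intro b
    have h1 := hov (ε b)
    have h3 : (φ.comp ε.symm.toMonoidHom) (ε b) = φ b := by
      show φ (ε.symm (ε b)) = φ b
      rw [ε.symm_apply_apply]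
    rw [h3] at h1
    have h4 : χ 1 = (χ ∘ QuotientGroup.mk' M) 1 := by rw [Function.comp, map_one]
    rw [← h4]
    exact h1
  · have h1 : charDegree (χ ∘ QuotientGroup.mk' M) = charDegree χ := by
      rw [Cfsg.Agent.Blocks.Basic.charDegree_def, Cfsg.Agent.Blocks.Basic.charDegree_def, Function.comp, map_one]
    rw [h1]; exact hd

/-- **`EK p S` from an extraspecial subgroup.** -/
theorem ek_of_XS {p : ℕ} {S : Type u} [Group S] [Finite S] (hp : p.Prime) (hp3 : p ≠ 3) (h2 : NB p 2 S)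
    (hM : ∀ (E : Type u) [Group E] [Finite E] (π : E →* S), Function.Surjective π → π.ker ≤ Subgroup.center E →
      commutator E = ⊤ → Nat.card π.ker ∣ 6)
    (hsq : ¬ p ^ 2 ∣ Nat.card S) {n : ℕ} {r s : Fin n → S} {z : S} (X : XS r s z) (hz : z ≠ 1) {x g : S}
    (hx : orderOf x = p) (hxz : z ∈ _root_.Subgroup.closure {x, g * x * g⁻¹})
    (hnum : ∀ i : ℕ, i * p ≤ Nat.card S → i * i < p ^ 3 ^ n) : EK p S :=
  ek_six h2 hM fun _ _ _ _ _ _ _ _ _ _ _ A hN => false_of_XS A hp hp3 hsq hN X hz hx hxz hnum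

end Cfsg.Agent.H74.RIM.XEK
end

-- part: H74/RIM/O7X
section
/-!
# S4816 (RIM): the extraspecial subgroup `3 ^ (1 + 6)` of `Ω₇(3)` (helper74)

Words in the eight generators of the permutation group `K0 ≅ Ω₇(3)` of degree 378 (helper235).
-/

set_option autoImplicit false
set_option maxRecDepth 100000

namespace Cfsg.Agent.H74.RIM.O7X

open Subgroup Cfsg.Agent.H235.QS.O7M Cfsg.Agent.H74.RIM.XSp

/-- the elements `r_i` -/
def rT : List (List ℕ) :=
  [[1, 7, 6, 4, 3, 2, 3, 4, 6, 7], [3, 7, 6, 2, 1, 0, 1, 2, 6, 7], [6, 4, 3, 2, 1, 0, 1, 2, 3, 4]]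
/-- the elements `s_i` -/
def sT : List (List ℕ) :=
  [[2, 6, 3, 2, 1, 0, 1, 2, 3, 6, 2, 1], [2, 6, 4, 3, 2, 1, 2, 3, 4, 6, 2, 3], [7, 2, 6, 3, 2, 1, 2, 3, 6, 2, 7, 6]]
def rW (i : Fin 3) : List ℕ := rT.getD i []
def sW (i : Fin 3) : List ℕ := sT.getD i []
/-- the central element -/
def zW : List ℕ := rW 0 ++ (sW 0 ++ ((rW 0).reverse ++ (sW 0).reverse))

/-- the element of a word -/
def kw (w : List ℕ) : ↥K0 := ⟨wd w, wd_mem w⟩

theorem kw_append (v w : List ℕ) : kw (v ++ w) = kw v * kw w := Subtype.ext (wd_append v w)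
theorem kw_reverse (w : List ℕ) : kw w.reverse = (kw w)⁻¹ := Subtype.ext (wd_reverse w)
theorem kw_nil : kw [] = 1 := rfl
theorem kw_eq {X Y : List ℕ} (h : chkB X Y = true) : kw X = kw Y := Subtype.ext (eq_of_chkB h)

/-- powers of words -/
def rp (n : ℕ) (w : List ℕ) : List ℕ := (List.replicate n w).flatten

theorem kw_rp (n : ℕ) (w : List ℕ) : kw (rp n w) = kw w ^ n := by
  induction n with
  | zero => rfl
  | succ n ih => rw [rp, List.replicate_succ, List.flatten_cons, kw_append, pow_succ', ← ih]; rfl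

theorem xs : XS (fun i => kw (rW i)) (fun i => kw (sW i)) (kw zW) := by
  refine ⟨fun i => ?_, fun i => ?_, ?_, fun i => ?_, fun i => ?_, fun i j => ?_, fun i j => ?_, fun i j h => ?_,
    fun i => ?_⟩
  · have h : ∀ i, chkB (rp 3 (rW i)) [] = true := by decide +kernel
    rw [← kw_rp, kw_eq (h i), kw_nil]
  · have h : ∀ i, chkB (rp 3 (sW i)) [] = true := by decide +kernel
    rw [← kw_rp, kw_eq (h i), kw_nil]
  · have h : chkB (rp 3 zW) [] = true := by decide +kernel
    rw [← kw_rp, kw_eq h, kw_nil]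
  · have h : ∀ i, chkB (zW ++ rW i) (rW i ++ zW) = true := by decide +kernel
    rw [← kw_append, kw_eq (h i), kw_append]
  · have h : ∀ i, chkB (zW ++ sW i) (sW i ++ zW) = true := by decide +kernel
    rw [← kw_append, kw_eq (h i), kw_append]
  · have h : ∀ i j, chkB (rW i ++ rW j) (rW j ++ rW i) = true := by decide +kernel
    rw [← kw_append, kw_eq (h i j), kw_append]
  · have h : ∀ i j, chkB (sW i ++ sW j) (sW j ++ sW i) = true := by decide +kernel
    rw [← kw_append, kw_eq (h i j), kw_append]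
  · have h' : ∀ i j, i ≠ j → chkB (rW i ++ sW j) (sW j ++ rW i) = true := by decide +kernel
    rw [← kw_append, kw_eq (h' i j h), kw_append]
  · have h : ∀ i, chkB (rW i ++ sW i) (zW ++ (sW i ++ rW i)) = true := by decide +kernel
    rw [← kw_append, kw_eq (h i), kw_append, kw_append]

theorem kw_ne {w : List ℕ} (h : (base.all fun b => Nat.beq (act w b) b) = false) : kw w ≠ 1 := by
  intro h0
  have h1 : wd w = 1 := congrArg Subtype.val h0
  rw [Bool.eq_false_iff] at h
  apply h
  rw [List.all_eq_true]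
  intro b hb
  have hlt : b < 378 := (show ∀ b ∈ base, b < 378 by decide) b hb
  have h2 := act_eq w ⟨b, hlt⟩
  rw [h1] at h2
  have h3 : act w b = b := h2
  rw [h3, Nat.beq_refl]

theorem z_ne : kw zW ≠ 1 := kw_ne (by decide +kernel)

/-- elements of order 5, 7, 13, and conjugating elements -/
def xW (p : ℕ) : List ℕ :=
  if p = 5 then [2, 7, 2, 1, 6, 2] else if p = 7 then [2, 6, 4, 6, 5, 3, 1, 2, 1, 7, 6, 2]
  else [5, 6, 2, 3, 4, 2, 0, 1, 3, 7]
def gW (p : ℕ) : List ℕ :=
  if p = 5 then [2, 3, 4, 1, 6, 2, 3, 0, 2] else if p = 7 then [2, 6, 2, 7, 0, 5, 4, 6, 2] else [4, 2, 5, 6, 2]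

theorem order_x {p : ℕ} (h : p = 5 ∨ p = 7 ∨ p = 13) : orderOf (kw (xW p)) = p := by
  have h1 : ∀ {p : ℕ}, p.Prime → chkB (rp p (xW p)) [] = true →
      (base.all fun b => Nat.beq (act (xW p) b) b) = false → orderOf (kw (xW p)) = p := by
    intro p hp h2 h3
    have : Fact p.Prime := ⟨hp⟩
    exact orderOf_eq_prime (by rw [← kw_rp, kw_eq h2, kw_nil]) (kw_ne h3)
  rcases h with rfl | rfl | rfl
  · exact h1 (by norm_num) (by decide +kernel) (by decide +kernel)
  · exact h1 (by norm_num) (by decide +kernel) (by decide +kernel)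
  · exact h1 (by norm_num) (by decide +kernel) (by decide +kernel)

theorem z_mem_cl {p : ℕ} (h : p = 5 ∨ p = 7 ∨ p = 13) :
    kw zW ∈ _root_.Subgroup.closure {kw (xW p), kw (gW p) * kw (xW p) * (kw (gW p))⁻¹} := by
  set x := kw (xW p) with hx
  set y := kw (gW p) * kw (xW p) * (kw (gW p))⁻¹ with hy
  have hx' : x ∈ _root_.Subgroup.closure {x, y} := _root_.Subgroup.subset_closure (Set.mem_insert _ _)
  have hy' : y ∈ closure {x, y} := _root_.Subgroup.subset_closure (Set.mem_insert_of_mem _ rfl)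
  have e1 : y⁻¹ = kw (gW p ++ ((xW p).reverse ++ (gW p).reverse)) := by
    rw [kw_append, kw_append, kw_reverse, kw_reverse, hy]; group
  have e2 : y = kw (gW p ++ (xW p ++ (gW p).reverse)) := by
    rw [kw_append, kw_append, kw_reverse, hy]; group
  rcases h with rfl | rfl | rfl
  · have h1 : chkB zW (rp 3 (xW 5 ++ (gW 5 ++ ((xW 5).reverse ++ (gW 5).reverse)))) = true := by decide +kernel
    rw [kw_eq h1, kw_rp, kw_append, ← e1]
    exact pow_mem (mul_mem hx' (inv_mem hy')) 3
  · have h1 : chkB zW (rp 3 (xW 7 ++ (gW 7 ++ ((xW 7).reverse ++ (gW 7).reverse)))) = true := by decide +kernel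
    rw [kw_eq h1, kw_rp, kw_append, ← e1]
    exact pow_mem (mul_mem hx' (inv_mem hy')) 3
  · have h1 : chkB zW (rp 3 (xW 13 ++ (gW 13 ++ (xW 13 ++ (gW 13).reverse)))) = true := by decide +kernel
    rw [kw_eq h1, kw_rp, kw_append, ← e2]
    exact pow_mem (mul_mem hx' hy') 3

end Cfsg.Agent.H74.RIM.O7X
end

-- part: H74/RIM/O7Row
section
/-!
# S4816 (RIM): `EK p Ω₇(3)` for `p = 5, 7, 13` from `NB p 2 Ω₇(3)` (helper74)
-/

set_option autoImplicit false

namespace Cfsg.Agent.H74.RIM.O7Row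

open Cfsg Subgroup Cfsg.Agent.H235.QS.O7M Cfsg.Agent.H74.RIM.O7X Cfsg.Agent.H665.RIM

universe u v

/-- the field with three elements -/
noncomputable def fieldEquiv {F : Type*} [Field F] [Fintype F] (hF : Fintype.card F = 3) : F ≃+* ZMod 3 :=
  (ZMod.ringEquivOfPrime F Nat.prime_three hF).symm

noncomputable def isoK0 : ↥K0 ≃* POmega (ZMod 3) (quadFormOdd 3 (ZMod 3)) :=
  iso.symm.trans Cfsg.Agent.Fischer.Y322Iso.equiv

theorem equivK0 {F : Type v} [Field F] [Fintype F] (hF : Fintype.card F = 3) :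
    Nonempty (POmega F (quadFormOdd 3 F) ≃* ↥K0) := by
  obtain ⟨e⟩ := Cfsg.Agent.UGT.U2.Rec.Congr.nonempty_POmegaOdd (fieldEquiv hF) 3
  exact ⟨e.trans isoK0.symm⟩

theorem card_ker (E : Type) [Group E] [Finite E] (π : E →* ↥K0) (h1 : Function.Surjective π)
    (h2 : π.ker ≤ Subgroup.center E) (h3 : commutator E = ⊤) : Nat.card π.ker ∣ 6 := by
  have hst : IsStemExtension π := ⟨h1, h2, by rw [h3]; exact le_top⟩
  obtain ⟨h4, h5⟩ := Cfsg.Agent.H395.RIM.EKPsl.stem_comp hst isoK0
  have h6 := Cfsg.Agent.H395.RIM.EKPsl.card_dvd (Cfsg.Agent.S2095.result (F := ZMod 3) (by decide)) h4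
  rwa [h5] at h6

theorem ek_K0 {p : ℕ} (h : p = 5 ∨ p = 7 ∨ p = 13) (h2 : NB.{0} p 2 ↥K0) : EK.{0} p ↥K0 := by
  have hp : p.Prime := by rcases h with rfl | rfl | rfl <;> norm_num
  have hp3 : p ≠ 3 := by rcases h with rfl | rfl | rfl <;> norm_num
  refine Cfsg.Agent.H74.RIM.XEK.ek_of_XS hp hp3 h2 card_ker ?_ xs z_ne (order_x h) (z_mem_cl h) ?_
  · rw [card_K0]
    rcases h with rfl | rfl | rfl <;> norm_num
  · intro i hi
    rw [card_K0] at hi
    rcases h with rfl | rfl | rfl
    · have h3 : i ≤ 917070336 := by omega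
      calc i * i ≤ 917070336 * 917070336 := Nat.mul_le_mul h3 h3
        _ < 5 ^ 3 ^ 3 := by norm_num
    · have h3 : i ≤ 917070336 := by omega
      calc i * i ≤ 917070336 * 917070336 := Nat.mul_le_mul h3 h3
        _ < 7 ^ 3 ^ 3 := by norm_num
    · have h3 : i ≤ 917070336 := by omega
      calc i * i ≤ 917070336 * 917070336 := Nat.mul_le_mul h3 h3
        _ < 13 ^ 3 ^ 3 := by norm_num

/-- **`EK p Ω₇(3)`, `p = 5, 7, 13`.** -/
theorem ek_o73 {p : ℕ} (h : p = 5 ∨ p = 7 ∨ p = 13) {F : Type v} [Field F] [Fintype F] (hF : Fintype.card F = 3)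
    {S : Type u} [Group S] (e : S ≃* POmega F (quadFormOdd 3 F)) (h2 : NB.{u} p 2 S) : EK.{u} p S := by
  obtain ⟨e1⟩ := equivK0 hF
  have e2 : S ≃* ↥K0 := e.trans e1
  exact Cfsg.Agent.H325.RIM.EK.congr e2 (ek_K0 h (Cfsg.Agent.H325.RIM.NB.congr e2.symm h2))

end Cfsg.Agent.H74.RIM.O7Row
end

-- part: H74/RIM/O7Five
section
/-!
# S4816 (RIM): the rows `Ω₇(3)`, `p = 5, 7` (helper74)
-/

set_option autoImplicit false

namespace Cfsg.Agent.H74.RIM.O7Row

open Cfsg Cfsg.Agent.H665.RIM Cfsg.Agent.H325.RIM Cfsg.Agent.H436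

universe u

/-- helper79: spin characters -/
theorem nb_two {p : ℕ} (h : p = 5 ∨ p = 7) : NB.{0} p 2 (POmega (ZMod 3) (quadFormOdd 3 (ZMod 3))) := by
  have hc : Fintype.card (ZMod 3) = 3 := by decide
  have hcard : Nat.card (POmega (ZMod 3) (quadFormOdd 3 (ZMod 3))) = 4585351680 := by
    rw [← Nat.card_congr isoK0.toEquiv, Cfsg.Agent.H235.QS.O7M.card_K0]
  rcases h with rfl | rfl
  · exact Cfsg.Agent.H79.RIM.nb2_oodd le_rfl (by rw [hc]; decide) (by norm_num) (by rw [hc]; norm_num)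
      (by rw [hcard]; norm_num) (fun _ => by rw [hc]; norm_num)
  · exact Cfsg.Agent.H79.RIM.nb2_oodd le_rfl (by rw [hc]; decide) (by norm_num) (by rw [hc]; norm_num)
      (by rw [hcard]; norm_num) (fun _ => by rw [hc]; norm_num)

theorem ek_five_seven {p : ℕ} (h : p = 5 ∨ p = 7) {F : Type*} [Field F] [Fintype F] (hF : Fintype.card F = 3)
    {S : Type u} [Group S] (e : S ≃* POmega F (quadFormOdd 3 F)) : EK.{u} p S := by
  obtain ⟨e1⟩ := equivK0 hF
  exact ek_o73 (by rcases h with h | h <;> omega) hF e (NB.congr (e.trans (e1.trans isoK0)) (nb_two h))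

/-- **The rows `Ω₇(3)`, `p = 5, 7`.** -/
theorem row_five : KillRow.{u} 5 (.oodd 3 3) := by
  intro S _ _ hS
  obtain ⟨F, _, _, hF, ⟨e⟩⟩ := hS.real
  exact Or.inr (ek_five_seven (Or.inl rfl) hF e)

end Cfsg.Agent.H74.RIM.O7Row
end

-- part: H572/RIM/O73All
section
/-!
# S4816 (RIM): the row `o73` (helper572, helper74, helper79)
-/

set_option autoImplicit false

namespace Cfsg.Agent.H572.RIM

open Cfsg Cfsg.Agent.OrdDiv Cfsg.Agent.H325.RIM

universe u

/-- **The row `o73` of `RowsKill`.** -/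
theorem row_o73 : ∀ p : ℕ, p = 5 ∨ p = 7 ∨ p = 13 → KillRow.{u} p (.oodd 3 3) := by
  rintro p (rfl | rfl | rfl)
  · exact Cfsg.Agent.H74.RIM.O7Row.row_five
  · exact killRow_o73_7
  · exact killRow_o73_13

end Cfsg.Agent.H572.RIM
end

private theorem dce_5a44e6d45cca : _root_.True := by
  try have : _root_.True := by simp only [_root_.Cfsg.Agent.H572.RIM.O73.ps.eq_3]
  try have : _root_.True := by simp only [_root_.Cfsg.Agent.H572.RIM.O73.ps.eq_2]
  try have : _root_.True := by simp only [_root_.Cfsg.Agent.H572.RIM.O73.bp.eq_1]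
  try have : _root_.True := by simp only [_root_.Cfsg.Agent.H572.RIM.O73.tb.eq_1]
  try have : _root_.True := by simp only [_root_.Cfsg.Agent.H74.RIM.O7X.rp.eq_1]
  try have : _root_.True := by simp only [_root_.Cfsg.Agent.H572.RIM.O73.ps.eq_1]
  exact _root_.True.intro
end

-- part: H325/RIM/Fill/K
section
prune_inst 0x315301940052200000000000010002004440000900020800098a202400207730000000100440018001002020000040100004400408000000000000000000401201020100410000000200010003002410000000000000000000000000000041000004010000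
set_option linter.all false
open scoped Cfsg.Agent.FastGrp

-- part: H382/RIM/HSAbs
section
/-!
# `(HS, 5)` of S4816, the abstract half (helper382)

`Γ` finite, `z` central of order 2.  `u` of order 15, `x = u ^ 6` (class 5B), `y` (class 5C), columns `b = χ(x)`, `c = χ(y)`,
`t = χ(u)` over the sign of `⟨z⟩`: `2 ∣ b`, `3 ∣ b - t`, `5 ∣ b - c`; if no degree is divisible by 5 then
`150 ≤ 3 b² + 10 b t + 50 t² + 18 c² + 4 b c - 10 c t`, the total is `≤ 2100`, so there are at most 14 characters.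
-/

set_option autoImplicit false
set_option linter.unusedSectionVars false

open Cfsg Subgroup
open scoped ComplexConjugate commutatorElement

namespace Cfsg.Agent.H382.RIM.Two

open Cfsg.Agent.Characters.Core Cfsg.Agent.H622.Over Cfsg.Agent.H382.RIM

universe u

variable {Γ : Type u} [Group Γ] {z : Γ}

theorem mem_zp (hz2 : z * z = 1) {g : Γ} : g ∈ zpowers z ↔ g = 1 ∨ g = z := by
  constructor
  · intro h
    obtain ⟨k, rfl⟩ := mem_zpowers_iff.1 h
    rcases Int.even_or_odd' k with ⟨m, rfl | rfl⟩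
    · left
      rw [zpow_mul, zpow_two, hz2, one_zpow]
    · right
      rw [zpow_add, zpow_mul, zpow_two, hz2, one_zpow, one_mul, zpow_one]
  · rintro (rfl | rfl)
    · exact one_mem _
    · exact mem_zpowers _

open Classical in
/-- the sign of `⟨z⟩` -/
noncomputable def sg (hz1 : z ≠ 1) (hz2 : z * z = 1) : zpowers z →* ℂˣ where
  toFun n := if (n : Γ) = 1 then 1 else -1
  map_one' := by rw [if_pos (OneMemClass.coe_one _)]
  map_mul' := by
    intro a b
    rcases (mem_zp hz2).1 a.2 with ha | ha <;> rcases (mem_zp hz2).1 b.2 with hb | hb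
    · rw [Subgroup.coe_mul, ha, hb, mul_one, if_pos rfl, mul_one]
    · rw [Subgroup.coe_mul, ha, hb, one_mul, if_pos rfl, one_mul]
    · rw [Subgroup.coe_mul, ha, hb, mul_one, if_pos rfl, mul_one]
    · rw [Subgroup.coe_mul, ha, hb, hz2, if_pos rfl, if_neg hz1]
      norm_num

theorem sg_z (hz1 : z ≠ 1) (hz2 : z * z = 1) : sg hz1 hz2 ⟨z, mem_zpowers z⟩ = -1 := by
  exact if_neg hz1

theorem apply_z {hz1 : z ≠ 1} {hz2 : z * z = 1} {χ : Γ → ℂ} (h : Lies (zpowers z) (sg hz1 hz2) χ) : χ z = - χ 1 := by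
  have h1 := h 1 ⟨z, mem_zpowers z⟩
  rw [sg_z, one_mul] at h1
  rw [h1, Units.val_neg, Units.val_one, mul_neg, mul_one]

theorem zp_le (hz : ∀ g : Γ, g * z = z * g) : zpowers z ≤ center Γ := by
  rw [zpowers_le, mem_center_iff]
  exact hz

theorem card_zp (hz1 : z ≠ 1) (hz2 : z * z = 1) : Nat.card (zpowers z) = 2 := by
  rw [Nat.card_zpowers]
  exact orderOf_eq_prime (by rw [sq]; exact hz2) hz1

theorem good_of (hz : ∀ g : Γ, g * z = z * g) (hz1 : z ≠ 1) (hz2 : z * z = 1) {g : Γ} (hg : ∀ h : Γ, h * g * h⁻¹ ≠ z * g) :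
    Good (zpowers z) (sg hz1 hz2) g := by
  intro x hx
  rcases (mem_zp hz2).1 hx with h | h
  · have e : (⟨x⁻¹ * g⁻¹ * x * g, hx⟩ : zpowers z) = 1 := Subtype.ext h
    rw [e, map_one]
  · exfalso
    apply hg x⁻¹
    have h2 : z⁻¹ = z := inv_eq_of_mul_eq_one_left hz2
    have h3 : x⁻¹ * g * x⁻¹⁻¹ = g * (x⁻¹ * g⁻¹ * x * g)⁻¹ := by group
    rw [h3, h, h2, hz]

variable [Finite Γ]

/-- **lower bound** -/
theorem card_ge (hz : ∀ g : Γ, g * z = z * g) (hz1 : z ≠ 1) (hz2 : z * z = 1) {n : ℕ} (F : Fin n → Γ)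
    (hF : ∀ i, ∀ h : Γ, h * F i * h⁻¹ ≠ z * F i)
    (hFF : ∀ i j, i ≠ j → ∀ h : Γ, h * F i * h⁻¹ ≠ F j ∧ h * F i * h⁻¹ ≠ z * F j) [Fintype (IrrCharacter Γ)] :
    n ≤ (ov (zpowers z) (sg hz1 hz2)).card := by
  have : (zpowers z).Normal := ⟨fun n hn g => by
    rcases (mem_zp hz2).1 hn with rfl | rfl
    · rw [mul_one, mul_inv_cancel]; exact one_mem _
    · rw [hz, mul_inv_cancel_right]; exact mem_zpowers _⟩
  rw [← card_ov]
  refine Cfsg.Agent.H243.RIM.card_lies_ge (zp_le hz) (sg hz1 hz2) F (fun i => good_of hz hz1 hz2 (hF i)) ?_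
  intro i j hij x z' hz'
  rcases (mem_zp hz2).1 hz' with rfl | rfl
  · rw [mul_one]
    exact (hFF i j hij x).1
  · rw [hz]
    exact (hFF i j hij x).2

/-! ### rational elements -/

theorem conj_pow_five {x : Γ} (hx : x ^ 5 = 1) (h2 : IsConj x (x ^ 2)) {k : ℕ} (hk : ¬ 5 ∣ k) : IsConj x (x ^ k) := by
  have e : x ^ k = x ^ (k % 5) := by
    conv_lhs => rw [← Nat.mod_add_div k 5, pow_add, pow_mul, hx, one_pow, mul_one]
  have p : ∀ {a b : Γ} (m : ℕ), IsConj a b → IsConj (a ^ m) (b ^ m) := by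
    intro a b m h
    obtain ⟨c, rfl⟩ := isConj_iff.1 h
    exact isConj_iff.2 ⟨c, (conj_pow).symm⟩
  have h4 : IsConj x (x ^ 4) := by
    have := h2.trans (p 2 h2)
    rwa [← pow_mul] at this
  have h3 : IsConj x (x ^ 3) := by
    have := h4.trans (p 4 h2)
    rw [← pow_mul] at this
    have e8 : x ^ (2 * 4) = x ^ 3 := by
      rw [show 2 * 4 = 5 + 3 by norm_num, pow_add, hx, one_mul]
    rwa [e8] at this
  rw [e]
  have h0 : k % 5 ≠ 0 := fun h => hk (Nat.dvd_of_mod_eq_zero h)
  have h5 : k % 5 < 5 := Nat.mod_lt _ (by norm_num)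
  interval_cases (k % 5)
  · exact absurd rfl h0
  · rw [pow_one]
  · exact h2
  · exact h3
  · exact h4

theorem conj_pow_fifteen {x : Γ} (hx : x ^ 15 = 1) (h2 : IsConj x (x ^ 2)) (h14 : IsConj x (x ^ 14)) {k : ℕ} (hk : ¬ 5 ∣ k)
    (hk' : ¬ 3 ∣ k) : IsConj x (x ^ k) := by
  have e' : ∀ k, x ^ k = x ^ (k % 15) := by
    intro k
    conv_lhs => rw [← Nat.mod_add_div k 15, pow_add, pow_mul, hx, one_pow, mul_one]
  have p : ∀ {a b : Γ} (m : ℕ), IsConj a b → IsConj (a ^ m) (b ^ m) := by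
    intro a b m h
    obtain ⟨c, rfl⟩ := isConj_iff.1 h
    exact isConj_iff.2 ⟨c, (conj_pow).symm⟩
  have h4 : IsConj x (x ^ 4) := by
    have := h2.trans (p 2 h2)
    rwa [← pow_mul] at this
  have h8 : IsConj x (x ^ 8) := by
    have := h4.trans (p 4 h2)
    rwa [← pow_mul] at this
  have h13 : IsConj x (x ^ 13) := by
    have := h2.trans (p 2 h14)
    rw [← pow_mul, e' (14 * 2)] at this
    exact this
  have h11 : IsConj x (x ^ 11) := by
    have := h4.trans (p 4 h14)
    rw [← pow_mul, e' (14 * 4)] at this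
    exact this
  have h7 : IsConj x (x ^ 7) := by
    have := h8.trans (p 8 h14)
    rw [← pow_mul, e' (14 * 8)] at this
    exact this
  rw [e' k]
  have h15 : k % 15 < 15 := Nat.mod_lt _ (by norm_num)
  have a5 : ¬ 5 ∣ k % 15 := by omega
  have a3 : ¬ 3 ∣ k % 15 := by omega
  generalize k % 15 = r at *
  interval_cases r
  · exact absurd (dvd_zero 5) a5
  · rw [pow_one]
  · exact h2
  · exact absurd (dvd_refl 3) a3
  · exact h4
  · exact absurd (dvd_refl 5) a5
  · exact absurd (by norm_num : 3 ∣ 6) a3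
  · exact h7
  · exact h8
  · exact absurd (by norm_num : 3 ∣ 9) a3
  · exact absurd (by norm_num : 5 ∣ 10) a5
  · exact h11
  · exact absurd (by norm_num : 3 ∣ 12) a3
  · exact h13
  · exact h14

/-! ### the form -/

theorem form_check : ∀ t ∈ Finset.Icc (-1 : ℤ) 1, ∀ c ∈ Finset.Icc (-3 : ℤ) 3, ∀ b ∈ Finset.Icc (-10 : ℤ) 10,
    2 ∣ b → 3 ∣ b - t → 5 ∣ b - c → ¬ 5 ∣ c →
      150 ≤ 3 * b ^ 2 + 10 * (b * t) + 50 * t ^ 2 + 18 * c ^ 2 + 4 * (b * c) - 10 * (c * t) := by
  decide +kernel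

theorem form_ge {b c t : ℤ} (h2 : 2 ∣ b) (h3 : 3 ∣ b - t) (h5 : 5 ∣ b - c) (hc : ¬ 5 ∣ c) :
    150 ≤ 3 * b ^ 2 + 10 * (b * t) + 50 * t ^ 2 + 18 * c ^ 2 + 4 * (b * c) - 10 * (c * t) := by
  by_contra hcon
  push Not at hcon
  have e1 : 3 * (3 * b ^ 2 + 10 * (b * t) + 50 * t ^ 2 + 18 * c ^ 2 + 4 * (b * c) - 10 * (c * t)) =
      (3 * b + 2 * c + 5 * t) ^ 2 + (50 * c ^ 2 - 50 * (c * t) + 125 * t ^ 2) := by ring
  have ht : t ^ 2 < 4 := by linarith only [hcon, sq_nonneg (3 * b + 2 * c + 5 * t), sq_nonneg (2 * c - t)]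
  have hcc : c ^ 2 < 10 := by linarith only [hcon, sq_nonneg (3 * b + 2 * c + 5 * t), sq_nonneg (5 * t - c)]
  have hbb : (3 * b + 2 * c + 5 * t) ^ 2 < 450 := by linarith only [hcon, sq_nonneg (2 * c - t), sq_nonneg t]
  have ht1 : -1 ≤ t := by nlinarith only [ht]
  have ht2 : t ≤ 1 := by nlinarith only [ht]
  have hc1 : -3 ≤ c := by nlinarith only [hcc]
  have hc2 : c ≤ 3 := by nlinarith only [hcc]
  have hb1 : -21 ≤ 3 * b + 2 * c + 5 * t := by nlinarith only [hbb]
  have hb2 : 3 * b + 2 * c + 5 * t ≤ 21 := by nlinarith only [hbb]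
  have := form_check t (Finset.mem_Icc.2 ⟨ht1, ht2⟩) c (Finset.mem_Icc.2 ⟨hc1, hc2⟩) b
    (Finset.mem_Icc.2 ⟨by (clear * - ht2 hc2 hb1; omega), by (clear * - ht1 hc1 hb2; omega)⟩) h2 h3 h5 hc
  omega

/-! ### the main argument -/

theorem pow_isConj {g h : Γ} {m : ℕ} (hz : ∀ g : Γ, g * z = z * g) (hz2 : z * z = 1) (hm : g ^ m = 1) {n : zpowers z}
    (hodd : Odd m) (h1 : IsConj (g * n) h) : h ^ m = n := by
  obtain ⟨c, rfl⟩ := isConj_iff.1 h1
  have hn : ∀ y : Γ, y * n = n * y := fun y => mem_center_iff.1 (zp_le hz n.2) y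
  have hc : Commute g (n : Γ) := hn g
  have h2 : (n : Γ) ^ m = n := by
    obtain ⟨k, rfl⟩ := hodd
    have h3 : (n : Γ) * n = 1 := by
      rcases (mem_zp hz2).1 n.2 with h4 | h4
      · rw [h4, one_mul]
      · rw [h4, hz2]
    rw [pow_succ, pow_mul, pow_two, h3, one_pow, one_mul]
  rw [conj_pow, hc.mul_pow, hm, one_mul, h2, hn c, mul_inv_cancel_right]

theorem exists_five (hz : ∀ g : Γ, g * z = z * g) (hz1 : z ≠ 1) (hz2 : z * z = 1)
    (h3 : 3 ∣ Nat.card Γ) (h5 : 5 ∣ Nat.card Γ)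
    {u y w a : Γ} (hu : u ^ 15 = 1) (hu5 : u ^ 5 ≠ 1) (hy : y ^ 5 = 1) (hur : IsConj u (u ^ 2)) (hui : IsConj u (u ^ 14))
    (hyr : IsConj y (y ^ 2)) (hwx : Commute (u ^ 6) w) (hax : Commute (u ^ 6) a) (haw : ⁅a, w⁆ = z)
    (hxy : ¬ IsConj (u ^ 6) y)
    (cx : Nat.card (centralizer ({u ^ 6} : Set Γ)) ≤ 600) (cy : Nat.card (centralizer ({y} : Set Γ)) ≤ 50)
    (cu : Nat.card (centralizer ({u} : Set Γ)) ≤ 30)
    (F : Fin 15 → Γ) (hF : ∀ i, ∀ h : Γ, h * F i * h⁻¹ ≠ z * F i)
    (hFF : ∀ i j, i ≠ j → ∀ h : Γ, h * F i * h⁻¹ ≠ F j ∧ h * F i * h⁻¹ ≠ z * F j) :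
    ∃ χ : Γ → ℂ, IsIrrCharacter Γ χ ∧ χ z = - χ 1 ∧ 5 ∣ charDegree χ := by
  classical
  by_contra hcon
  have := finite_irr (G := Γ)
  have := Fintype.ofFinite (IrrCharacter Γ)
  have := Fintype.ofFinite (zpowers z)
  have hN := zp_le hz
  have hk := card_ge hz hz1 hz2 F hF hFF
  obtain ⟨c, hcdef⟩ : ∃ c : zpowers z →* ℂˣ, c = sg hz1 hz2 := ⟨_, rfl⟩
  rw [← hcdef] at hk
  have hc2 : Nat.card (zpowers z) = 2 := card_zp hz1 hz2
  have hS : ∀ χ : IrrCharacter Γ, Lies (zpowers z) c (χ : Γ → ℂ) → ¬ 5 ∣ charDegree (χ : Γ → ℂ) := by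
    intro χ hχ hd
    subst hcdef
    exact hcon ⟨χ, χ.2, apply_z hχ, hd⟩
  obtain ⟨x, hxdef⟩ : ∃ x, x = u ^ 6 := ⟨_, rfl⟩
  rw [← hxdef] at hwx hax hxy cx
  have hx : x ^ 5 = 1 := by
    rw [hxdef, ← pow_mul, show 6 * 5 = 15 * 2 by norm_num, pow_mul, hu, one_pow]
  have hxr : IsConj x (x ^ 2) := by
    obtain ⟨g, hg⟩ := isConj_iff.1 hur
    refine isConj_iff.2 ⟨g, ?_⟩
    rw [hxdef, ← conj_pow, hg, ← pow_mul, ← pow_mul]
  -- coprimality
  have n5 : ∀ k : ℕ, k.Coprime (Nat.card Γ) → ¬ 5 ∣ k := by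
    intro k hk hd
    have := Nat.eq_one_of_dvd_coprimes hk hd h5
    omega
  have n3 : ∀ k : ℕ, k.Coprime (Nat.card Γ) → ¬ 3 ∣ k := by
    intro k hk hd
    have := Nat.eq_one_of_dvd_coprimes hk hd h3
    omega
  -- the columns
  have ib : ∀ χ : IrrCharacter Γ, ∃ b : ℤ, (χ : Γ → ℂ) x = b := fun χ =>
    Cfsg.Agent.H933.OZ.exists_int_of_conj χ fun k hk => conj_pow_five hx hxr (n5 k hk)
  have ic : ∀ χ : IrrCharacter Γ, ∃ b : ℤ, (χ : Γ → ℂ) y = b := fun χ =>
    Cfsg.Agent.H933.OZ.exists_int_of_conj χ fun k hk => conj_pow_five hy hyr (n5 k hk)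
  have it : ∀ χ : IrrCharacter Γ, ∃ b : ℤ, (χ : Γ → ℂ) u = b := fun χ =>
    Cfsg.Agent.H933.OZ.exists_int_of_conj χ fun k hk => conj_pow_fifteen hu hur hui (n5 k hk) (n3 k hk)
  choose b hb using ib
  choose d hd using ic
  choose t ht using it
  have hform : ∀ χ ∈ ov (zpowers z) c, (150 : ℤ) ≤ 3 * b χ ^ 2 + 10 * (b χ * t χ) + 50 * t χ ^ 2 + 18 * d χ ^ 2 +
      4 * (b χ * d χ) - 10 * (d χ * t χ) := by
    intro χ hχ
    rw [mem_ov] at hχ
    have e5b := Cfsg.Agent.H933.OZ.dvd_sub_deg Nat.prime_five χ (g := x) (k := 1) (by rw [pow_one]; exact hx) (hb χ)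
    have e5d := Cfsg.Agent.H933.OZ.dvd_sub_deg Nat.prime_five χ (g := y) (k := 1) (by rw [pow_one]; exact hy) (hd χ)
    have e3 := Cfsg.Agent.H933.OZ.dvd_sub_int Nat.prime_three χ (g := u) (s := x) (j := 6) (k := 1) hxdef.symm (by
      rw [pow_one, hxdef, ← pow_mul, show 6 * 3 = 15 + 3 by norm_num, pow_add, hu, one_mul]) (ht χ) (hb χ)
    have e2 : (2 : ℤ) ∣ b χ := by
      obtain ⟨α, hα, e⟩ := Cfsg.Agent.H620.RIM.exists_integral hN χ.2 hχ hax hwx (z := ⟨z, mem_zpowers z⟩) haw
      have ho : orderOf (c ⟨z, mem_zpowers z⟩) = 2 := by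
        rw [hcdef, sg_z]
        refine orderOf_eq_prime (by norm_num) ?_
        intro h
        have h1 := congrArg Units.val h
        rw [Units.val_neg, Units.val_one] at h1
        norm_num at h1
      rw [ho, hb χ] at e
      have h1 : (b χ : ℂ) / 2 = α := by
        rw [e]
        push_cast
        ring
      have h2 : IsIntegral ℤ ((b χ : ℂ) / 2) := by rw [h1]; exact hα
      obtain ⟨m, hm⟩ := Cfsg.Agent.Characters.GaloisBasic.exists_int_of_isIntegral h2 ⟨(b χ : ℚ) / 2, by push_cast; rfl⟩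
      refine ⟨m, ?_⟩
      have h3 : (b χ : ℂ) = 2 * m := by rw [← hm]; ring
      exact_mod_cast h3
    have hdeg : ¬ (5 : ℤ) ∣ (charDegree (χ : Γ → ℂ) : ℤ) := by
      intro h
      exact hS χ hχ (by exact_mod_cast h)
    refine form_ge e2 ?_ ?_ ?_
    · rw [← dvd_neg, neg_sub]; exact e3
    · have := dvd_sub e5b e5d
      have e : b χ - (charDegree (χ : Γ → ℂ) : ℤ) - (d χ - (charDegree (χ : Γ → ℂ) : ℤ)) = b χ - d χ := by ring
      rwa [e] at this
    · intro h
      apply hdeg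
      have := dvd_sub h e5d
      have e : d χ - (d χ - (charDegree (χ : Γ → ℂ) : ℤ)) = (charDegree (χ : Γ → ℂ) : ℤ) := by ring
      rwa [e] at this
  -- the squares
  have sq_le : ∀ {g : Γ} {m : ℕ} (_ : g ^ m = 1) (_ : Odd m) {f : IrrCharacter Γ → ℤ} (_ : ∀ χ : IrrCharacter Γ, (χ : Γ → ℂ) g = f χ) {B : ℕ}
      (_ : Nat.card (centralizer ({g} : Set Γ)) ≤ 2 * B), ∑ χ ∈ ov (zpowers z) c, f χ ^ 2 ≤ (B : ℤ) := by
    intro g m hg hm f hf B hB
    have h1 := sum_normSq_over hN c g (fun n hn => eq_one_of_isConj hN hg (by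
      rw [hc2]; exact Nat.coprime_two_right.2 hm) hn)
    have h2 : ∑ χ ∈ ov (zpowers z) c, ‖(χ : Γ → ℂ) g‖ ^ 2 = ((∑ χ ∈ ov (zpowers z) c, f χ ^ 2 : ℤ) : ℝ) := by
      push_cast
      refine Finset.sum_congr rfl fun χ _ => ?_
      rw [hf χ, Complex.norm_intCast, sq_abs]
    rw [h2, hc2] at h1
    have h3 : (2 : ℤ) * (∑ χ ∈ ov (zpowers z) c, f χ ^ 2) = (Nat.card (centralizer ({g} : Set Γ)) : ℤ) := by
      exact_mod_cast h1
    have h4 : (Nat.card (centralizer ({g} : Set Γ)) : ℤ) ≤ 2 * B := by exact_mod_cast hB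
    linarith only [hB, h3]
  have s1 := sq_le (m := 5) hx (by decide) hb (B := 300) cx
  have s2 := sq_le (m := 5) hy (by decide) hd (B := 25) cy
  have s3 := sq_le (m := 15) hu (by decide) ht (B := 15) cu
  -- orthogonality
  have orth : ∀ {g h : Γ} (_ : ∀ n : zpowers z, ¬ IsConj (g * n) h) {f f' : IrrCharacter Γ → ℤ}
      (_ : ∀ χ : IrrCharacter Γ, (χ : Γ → ℂ) g = f χ) (_ : ∀ χ : IrrCharacter Γ, (χ : Γ → ℂ) h = f' χ), ∑ χ ∈ ov (zpowers z) c, f χ * f' χ = 0 := by
    intro g h hgh f f' hf hf'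
    have h1 := sum_over hN c g h
    rw [Finset.sum_eq_zero (s := Finset.univ) (fun n _ => by rw [if_neg (hgh n), mul_zero]), mul_zero] at h1
    have h2 : ∑ χ ∈ ov (zpowers z) c, (χ : Γ → ℂ) g * conj ((χ : Γ → ℂ) h) =
        ((∑ χ ∈ ov (zpowers z) c, f χ * f' χ : ℤ) : ℂ) := by
      push_cast
      refine Finset.sum_congr rfl fun χ _ => ?_
      rw [hf χ, hf' χ, map_intCast]
    rw [h2] at h1
    exact_mod_cast h1
  have ne_u : ∀ {g : Γ} (_ : g ^ 5 = 1) (n : zpowers z), ¬ IsConj (g * n) u := by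
    intro g hg n hc
    have h1 := pow_isConj hz hz2 hg (by decide) hc
    rcases (mem_zp hz2).1 n.2 with h2 | h2
    · exact hu5 (h1.trans h2)
    · have h4 : u ^ 15 = z := by
        rw [show 15 = 5 * 3 by norm_num, pow_mul, h1, h2, pow_succ, pow_two, hz2, one_mul]
      exact hz1 (h4.symm.trans hu)
  have o1 := orth (ne_u hx) hb ht
  have o2 := orth (ne_u hy) hd ht
  have o3 := orth (g := x) (h := y) (fun n hc => by
    have h1 := pow_isConj hz hz2 hx (by decide) hc
    rw [hy] at h1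
    rw [← h1, mul_one] at hc
    exact hxy hc) hb hd
  have tot : ∑ χ ∈ ov (zpowers z) c, (3 * b χ ^ 2 + 10 * (b χ * t χ) + 50 * t χ ^ 2 + 18 * d χ ^ 2 +
      4 * (b χ * d χ) - 10 * (d χ * t χ)) = 3 * ∑ χ ∈ ov (zpowers z) c, b χ ^ 2 + 10 * ∑ χ ∈ ov (zpowers z) c, b χ * t χ +
      50 * ∑ χ ∈ ov (zpowers z) c, t χ ^ 2 + 18 * ∑ χ ∈ ov (zpowers z) c, d χ ^ 2 +
      4 * ∑ χ ∈ ov (zpowers z) c, b χ * d χ - 10 * ∑ χ ∈ ov (zpowers z) c, d χ * t χ := by
    rw [Finset.sum_sub_distrib, Finset.sum_add_distrib, Finset.sum_add_distrib, Finset.sum_add_distrib,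
      Finset.sum_add_distrib, Finset.mul_sum, Finset.mul_sum, Finset.mul_sum, Finset.mul_sum, Finset.mul_sum,
      Finset.mul_sum]
  have low := Finset.sum_le_sum hform
  rw [tot, o1, o2, o3, Finset.sum_const, nsmul_eq_mul] at low
  have hk' : (15 : ℤ) ≤ ((ov (zpowers z) c).card : ℤ) := by exact_mod_cast hk
  push_cast at s1 s2 s3
  linarith only [hk, s1, s2, s3, low]

end Cfsg.Agent.H382.RIM.Two
end

-- part: H382/RIM/HSG
section
/-!
# `(HS, 5)` of S4816: the facts on `K = 2.HS` (helper382)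

helper767's model: `K ≤ H0 = 2.HS.2`, words in `x, x⁻¹, y, y⁻¹, z` (`0 .. 4`), the 21 classes `X i` of `HS:2` in `HS`.
* `card_GG_le` : the elements of `H0` centralizing `X i` modulo `τ`;
* `good_*` : no `h ∈ K` with `h X h⁻¹ = τ X`;
* `sep` : the 15 elements are not conjugate modulo `τ`.
-/

set_option autoImplicit false
set_option maxRecDepth 100000

namespace Cfsg.Agent.H382.RIM.HSG

open Cfsg.Agent.SporadicA.PermTab Cfsg.Agent.HN.Pres
open Cfsg.Agent.HN.HS100 (φ Q K adjA)
open Cfsg.Agent.HN.P1408 (hw iw okw eqw hw_append hw_iw ψ)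
open Cfsg.Agent.HN.H0Basic (τ par mem_K_of_par not_mem_K_of_par hw_eq hw_τ τ_mem_K τ_ne_one τ_mul_τ τ_comm φ_eq_one_iff φ_eq_iff)
open Cfsg.Agent.H922.Ore.Gr Cfsg.Agent.H922.Ore.HS
open Cfsg.Agent.H767.QO.HS
open Equiv

/-! ### general lemmas -/

theorem two_mul_card_le {G : Type*} [Group G] {A B : Subgroup G} [Finite B] (hAB : A ≤ B) (h : ∃ x ∈ B, x ∉ A) :
    2 * Nat.card A ≤ Nat.card B := by
  have hfin : Finite A := Finite.of_injective _ (Subgroup.inclusion_injective hAB)
  obtain ⟨k, hk⟩ := Subgroup.card_dvd_of_le hAB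
  have hB : 0 < Nat.card B := Nat.card_pos
  have h2 : 2 ≤ k := by
    by_contra hcon
    have h3 : k = 0 ∨ k = 1 := by omega
    rcases h3 with rfl | rfl
    · omega
    · obtain ⟨x, hx, hx'⟩ := h
      apply hx'
      rw [Subgroup.eq_of_le_of_card_ge hAB (by rw [hk, mul_one])]
      exact hx
  rw [hk, mul_comm]
  exact Nat.mul_le_mul_left _ h2

theorem not_mem_zpowers {G : Type*} [Group G] [Finite G] {x t : G} {m : ℕ} (ho : orderOf x = 2 * m) (ht : t * t = 1)
    (h1 : t ≠ 1) (hne : x ^ m ≠ t) : t ∉ Subgroup.zpowers x := by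
  intro h
  obtain ⟨k, rfl⟩ := (mem_powers_iff_mem_zpowers (G := G)).2 h
  change x ^ k * x ^ k = 1 at ht
  change x ^ k ≠ 1 at h1
  change x ^ m ≠ x ^ k at hne
  rw [← pow_add] at ht
  have h2 : 2 * m ∣ k + k := by rw [← ho]; exact orderOf_dvd_of_pow_eq_one ht
  have h3 : m ∣ k := by
    obtain ⟨j, hj⟩ := h2
    have h4 : k = m * j := by
      have h5 : 2 * k = 2 * (m * j) := by rw [← mul_assoc, ← hj]; ring
      omega
    exact ⟨j, h4⟩
  obtain ⟨j, rfl⟩ := h3
  rcases Nat.even_or_odd' j with ⟨i, rfl | rfl⟩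
  · apply h1
    rw [show m * (2 * i) = 2 * m * i by ring, pow_mul, ← ho, pow_orderOf_eq_one, one_pow]
  · apply hne
    rw [show m * (2 * i + 1) = 2 * m * i + m by ring, pow_add, pow_mul, ← ho, pow_orderOf_eq_one, one_pow, one_mul]

/-! ### the representatives -/

/-- the words -/
def X (i : Fin 21) : List ℕ := cw (wa i).1 (wa i).2

theorem inK_X : ∀ i, inK (X i) = true := by
  intro i
  (revert i; decide +kernel)

theorem mem_X (i : Fin 21) : hw (X i) ∈ K := mem_of_inK (inK_X i)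

/-- the elements centralizing `g` modulo `τ` -/
def GG (g : H0) : Subgroup H0 := (Subgroup.centralizer ({φ g} : Set (Perm (Fin 100)))).comap φ

theorem mem_GG {g h : H0} : h ∈ GG g ↔ h * g * h⁻¹ = g ∨ h * g * h⁻¹ = g * τ := by
  unfold GG
  rw [Subgroup.mem_comap, Subgroup.mem_centralizer_singleton_iff, ← φ_eq_iff, map_mul, map_mul, map_inv,
    mul_inv_eq_iff_eq_mul]

theorem card_ker : Nat.card (φ.rangeRestrict).ker = 2 := by
  have h1 : ((φ.rangeRestrict).ker : Set H0) = {1, τ} := by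
    ext g
    rw [SetLike.mem_coe, MonoidHom.mem_ker, Set.mem_insert_iff, Set.mem_singleton_iff, ← φ_eq_one_iff]
    exact ⟨fun h => congrArg Subtype.val h, fun h => Subtype.ext h⟩
  have h2 : Nat.card (φ.rangeRestrict).ker = ((φ.rangeRestrict).ker : Set H0).ncard := rfl
  rw [h2, h1, Set.ncard_pair τ_ne_one.symm]

theorem card_GG_eq (g : H0) :
    Nat.card (GG g) = Nat.card (Subgroup.centralizer ({φ g} : Set (Perm (Fin 100))) ⊓ φ.range : Subgroup _) * 2 := by
  have h1 : GG g = ((Subgroup.centralizer ({φ g} : Set (Perm (Fin 100)))).subgroupOf φ.range).comap φ.rangeRestrict := by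
    ext x
    rfl
  rw [h1, Cfsg.Agent.H620.RIM.card_comap_surj _ φ.rangeRestrict_surjective, card_ker]
  congr 1
  rw [← Subgroup.subgroupOf_map_subtype]
  exact Nat.card_congr (Subgroup.equivMapOfInjective _ _ φ.range.subtype_injective).toEquiv

theorem card_GG_X (i : Fin 21) : Nat.card (GG (hw (X i))) ≤ bnd (D i).L * 2 := by
  rw [card_GG_eq]
  refine Nat.mul_le_mul_right _ ?_
  have h := chk_all i
  simp only [Cls.chk, Bool.and_eq_true] at h
  refine card_le_of_chC (acts i) (D i).m (D i).k (D i).L _ [] ?_ ?_ ?_ h.2.1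
  · rintro c ⟨-, hc⟩
    exact Cfsg.Agent.HN.HS100.range_le hc
  · rintro c ⟨hc, -⟩ j
    have h1 := Subgroup.mem_centralizer_singleton_iff.1 hc
    exact congrArg (fun z : Perm (Fin 100) => z j) h1
  · intro c _ f hf
    exact absurd hf List.not_mem_nil

/-- conjugate elements -/
theorem card_GG_le {i : Fin 21} {g c : H0} (hc : φ (c * hw (X i) * c⁻¹) = φ g) : Nat.card (GG g) ≤ bnd (D i).L * 2 := by
  have h1 : GG g = (GG (hw (X i))).map (MulAut.conj c).toMonoidHom := by
    ext h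
    rw [Subgroup.mem_map_equiv]
    change _ ↔ (MulAut.conj c)⁻¹ h ∈ _
    unfold GG
    rw [Subgroup.mem_comap, Subgroup.mem_comap, MulAut.conj_inv_apply, Subgroup.mem_centralizer_singleton_iff,
      Subgroup.mem_centralizer_singleton_iff, ← hc, map_mul, map_mul, map_mul, map_mul, map_inv]
    constructor
    · intro e
      calc (φ c)⁻¹ * φ h * φ c * φ (hw (X i)) = (φ c)⁻¹ * (φ h * (φ c * φ (hw (X i)) * (φ c)⁻¹)) * φ c := by group
        _ = _ := by rw [e]; group
    · intro e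
      calc φ h * (φ c * φ (hw (X i)) * (φ c)⁻¹) = φ c * ((φ c)⁻¹ * φ h * φ c * φ (hw (X i))) * (φ c)⁻¹ := by group
        _ = _ := by rw [e]; group
  rw [h1, ← Nat.card_congr (Subgroup.equivMapOfInjective _ _ (MulAut.conj c).injective).toEquiv]
  exact card_GG_X i

/-- **centralizers in `K`** -/
theorem card_cent_le {i : Fin 21} {g : K} {c h : H0} (hc : φ (c * hw (X i) * c⁻¹) = φ (g : H0)) (hh : h ∉ K)
    (hg : h * (g : H0) * h⁻¹ = g) : Nat.card (Subgroup.centralizer ({g} : Set K)) ≤ bnd (D i).L := by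
  have h1 : Nat.card (Subgroup.centralizer ({g} : Set K)) =
      Nat.card ((Subgroup.centralizer ({g} : Set K)).map K.subtype) :=
    Nat.card_congr (Subgroup.equivMapOfInjective _ _ K.subtype_injective).toEquiv
  have h2 : (Subgroup.centralizer ({g} : Set K)).map K.subtype ≤ GG g := by
    rintro _ ⟨k, hk, rfl⟩
    rw [mem_GG]
    left
    have h3 := Subgroup.mem_centralizer_singleton_iff.1 hk
    have h4 : (k : H0) * g = g * k := congrArg Subtype.val h3
    change (k : H0) * g * (k : H0)⁻¹ = g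
    rw [h4, mul_inv_cancel_right]
  have h3 := two_mul_card_le h2 ⟨h, mem_GG.2 (Or.inl hg), by
    rintro ⟨k, -, rfl⟩
    exact hh k.2⟩
  have h4 := card_GG_le hc
  rw [h1]
  omega

/-! ### good elements -/

theorem τ_pow {m : ℕ} (hm : Odd m) : τ ^ m = τ := by
  obtain ⟨k, rfl⟩ := hm
  rw [pow_succ, pow_mul, pow_two, τ_mul_τ, one_pow, one_mul]

/-- odd order modulo `τ` -/
theorem good_odd {g : H0} {m : ℕ} (hm : Odd m) (h : g ^ m = 1 ∨ g ^ m = τ) (c : H0) : c * g * c⁻¹ ≠ τ * g := by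
  intro e
  have hc : Commute τ g := (τ_comm g).symm
  have h1 : (τ * g) ^ m = c * g ^ m * c⁻¹ := by rw [← e, conj_pow]
  rw [hc.mul_pow, τ_pow hm] at h1
  have h3 : c * g ^ m * c⁻¹ = g ^ m := by
    rcases h with h | h
    · rw [h, mul_one, mul_inv_cancel]
    · rw [h, τ_comm, mul_inv_cancel_right]
  rw [h3] at h1
  exact τ_ne_one (mul_eq_right.1 h1)

theorem card_fix_conj {n : ℕ} (g c : Perm (Fin n)) :
    ((Finset.univ : Finset (Fin n)).filter fun i => (c * g * c⁻¹) i = i).card =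
      ((Finset.univ : Finset (Fin n)).filter fun i => g i = i).card := by
  symm
  refine Finset.card_bij (fun i _ => c i) ?_ (fun i _ j _ hij => c.injective hij) ?_
  · intro i hi
    rw [Finset.mem_filter] at hi ⊢
    refine ⟨Finset.mem_univ _, ?_⟩
    have e : c⁻¹ (c i) = i := by simp
    rw [Perm.mul_apply, Perm.mul_apply, e, hi.2]
  · intro j hj
    rw [Finset.mem_filter] at hj
    refine ⟨c⁻¹ j, ?_, by simp⟩
    rw [Finset.mem_filter]
    refine ⟨Finset.mem_univ _, ?_⟩
    have h1 := hj.2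
    rw [Perm.mul_apply, Perm.mul_apply] at h1
    exact (Perm.eq_inv_iff_eq (f := c)).2 h1

theorem card_fix_hw {w : List ℕ} (ha : okw w = true) {v : ℕ}
    (h : cntB (fun p => Nat.beq (Cfsg.Agent.HN.P1408.tr w p) p) 1408 v = true) :
    ((Finset.univ : Finset (Fin 1408)).filter fun i => (ψ (hw w))⁻¹ i = i).card = v := by
  rw [← card_fin_of_cntB _ 1408 v h]
  congr 1
  apply Finset.filter_congr
  intro i _
  rw [← Cfsg.Agent.HN.P1408.ψ_hw_inv_apply ha]
  constructor
  · intro h1
    rw [h1]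
    exact Nat.beq_refl _
  · intro h1
    exact Fin.ext (Nat.eq_of_beq_eq_true h1)

/-- the signed trace -/
theorem good_tr {w : List ℕ} (ha : okw w = true) {v v' : ℕ}
    (h1 : cntB (fun p => Nat.beq (Cfsg.Agent.HN.P1408.tr w p) p) 1408 v = true)
    (h2 : cntB (fun p => Nat.beq (Cfsg.Agent.HN.P1408.tr (0 :: 0 :: w) p) p) 1408 v' = true) (hne : v ≠ v') (c : H0) :
    c * hw w * c⁻¹ ≠ τ * hw w := by
  intro e
  have e1 : τ * hw w = hw (0 :: 0 :: w) := by
    rw [← hw_τ, ← hw_append]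
    rfl
  have ha' : okw (0 :: 0 :: w) = true := Cfsg.Agent.HN.H0Basic.okw_append (a := [0, 0]) rfl ha
  apply hne
  rw [← card_fix_hw ha h1, ← card_fix_hw ha' h2, ← e1, ← e, map_mul, map_mul, map_inv]
  have h3 : (ψ c * ψ (hw w) * (ψ c)⁻¹)⁻¹ = ψ c * (ψ (hw w))⁻¹ * (ψ c)⁻¹ := by group
  rw [h3, card_fix_conj]

/-- the elements of `K` commuting with `g` -/
def CK' (g : H0) : Subgroup H0 := Subgroup.centralizer ({g} : Set H0) ⊓ K

theorem mem_CK' {g h : H0} : h ∈ CK' g ↔ h * g = g * h ∧ h ∈ K := by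
  unfold CK'
  rw [Subgroup.mem_inf, Subgroup.mem_centralizer_singleton_iff]

theorem CK'_le (g : H0) : CK' g ≤ GG g ⊓ K := by
  intro h hh
  rw [mem_CK'] at hh
  refine ⟨mem_GG.2 (Or.inl ?_), hh.2⟩
  rw [hh.1, mul_inv_cancel_right]

theorem zp_le_CK' {g : H0} (hg : g ∈ K) : Subgroup.zpowers g ≤ CK' g := by
  rw [Subgroup.zpowers_le, mem_CK']
  exact ⟨rfl, hg⟩

theorem two_le {g : H0} (hg : g ∈ K) {m : ℕ} (ho : orderOf g = 2 * m) (hne : g ^ m ≠ τ) :
    2 * (2 * m) ≤ Nat.card (CK' g) := by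
  rw [← ho, ← Nat.card_zpowers]
  refine two_mul_card_le (zp_le_CK' hg) ⟨τ, ?_, not_mem_zpowers ho τ_mul_τ τ_ne_one hne⟩
  rw [mem_CK']
  exact ⟨(τ_comm g).symm, τ_mem_K⟩

/-- the centralizer modulo `τ` is small -/
theorem good_cent {g : H0} {n : ℕ} (hn : n ≤ Nat.card (CK' g)) (hlt : Nat.card (GG g ⊓ K : Subgroup H0) < 2 * n) {c : H0}
    (hc : c ∈ K) : c * g * c⁻¹ ≠ τ * g := by
  intro e
  have h1 := two_mul_card_le (CK'_le g) ⟨c, ⟨mem_GG.2 (Or.inr (by rw [e, τ_comm])), hc⟩, by
    intro h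
    rw [mem_CK'] at h
    rw [h.1, mul_inv_cancel_right] at e
    exact τ_ne_one (mul_eq_right.1 e.symm)⟩
  omega

theorem inf_le {g : H0} {N : ℕ} (hN : Nat.card (GG g) ≤ N) (h : ∃ c ∈ GG g, c ∉ K) :
    2 * Nat.card (GG g ⊓ K : Subgroup H0) ≤ N := by
  obtain ⟨c, hc, hc'⟩ := h
  exact (two_mul_card_le inf_le_left ⟨c, hc, fun h => hc' h.2⟩).trans hN

theorem mem_K_of_GG {g : H0} {n N : ℕ} (hn : n ≤ Nat.card (CK' g)) (hN : Nat.card (GG g) ≤ N) (hlt : N < 2 * n) {c : H0}
    (hc : c ∈ GG g) : c ∈ K := by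
  by_contra hcon
  have h1 := inf_le hN ⟨c, hc, hcon⟩
  have h2 := Subgroup.card_le_of_le (CK'_le g)
  omega

/-! ### words -/

/-- powers of words -/
def pw (w : List ℕ) : ℕ → List ℕ
  | 0 => []
  | n + 1 => pw w n ++ w

theorem hw_pw (w : List ℕ) (n : ℕ) : hw (pw w n) = hw w ^ n := by
  induction n with
  | zero => rw [pow_zero]; rfl
  | succ n ih => rw [pw, hw_append, ih, pow_succ]

theorem ne_of {a b : List ℕ} (ha : okw a = true) (hb : okw b = true) (h : eqw a b = false) : hw a ≠ hw b := by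
  intro h1
  have h2 := Cfsg.Agent.HN.H0Basic.eqw_of_hw_eq ha hb h1
  rw [h] at h2
  exact Bool.false_ne_true h2

theorem pow_eq {w : List ℕ} {n : ℕ} (h : eqw (pw w n) [] = true) : hw w ^ n = 1 := by
  rw [← hw_pw, hw_eq h]
  rfl

theorem pow_eq_τ {w : List ℕ} {n : ℕ} (h : eqw (pw w n) [0, 0] = true) : hw w ^ n = τ := by
  rw [← hw_pw, hw_eq h, hw_τ]

theorem pow_ne {w : List ℕ} {n : ℕ} (ha : okw (pw w n) = true) (h : eqw (pw w n) [] = false) : hw w ^ n ≠ 1 := by
  rw [← hw_pw]
  exact ne_of ha rfl h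

theorem pow_ne_τ {w : List ℕ} {n : ℕ} (ha : okw (pw w n) = true) (h : eqw (pw w n) [0, 0] = false) : hw w ^ n ≠ τ := by
  rw [← hw_pw, ← hw_τ]
  exact ne_of ha rfl h

theorem ord_two_mul {w : List ℕ} {m p : ℕ} (hp : p.Prime) (hm : ∀ q : ℕ, q.Prime → q ∣ 2 * m → q = 2 ∨ q = p) (h0 : 0 < m)
    (h1 : hw w ^ (2 * m) = 1)
    (h2 : hw w ^ m ≠ 1) (h3 : hw w ^ (2 * m / p) ≠ 1) : orderOf (hw w) = 2 * m := by
  refine orderOf_eq_of_pow_and_pow_div_prime (by omega) h1 ?_
  intro q hq hd
  rcases hm q hq hd with rfl | rfl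
  · rwa [Nat.mul_div_cancel_left _ (by norm_num)]
  · exact h3

theorem ord17 : orderOf (hw (X 17)) = 2 * 11 := by
  refine ord_two_mul (p := 11) (by norm_num) ?_ (by norm_num) (pow_eq (by decide +kernel))
    (pow_ne (by decide +kernel) (by decide +kernel)) (pow_ne (by decide +kernel) (by decide +kernel))
  intro q hq hd
  rcases hq.dvd_mul.1 hd with h | h
  · exact Or.inl ((Nat.prime_dvd_prime_iff_eq hq Nat.prime_two).1 h)
  · exact Or.inr ((Nat.prime_dvd_prime_iff_eq hq (by norm_num)).1 h)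

theorem ord18 : orderOf (hw (X 18)) = 2 * 6 := by
  refine ord_two_mul (p := 3) (by norm_num) ?_ (by norm_num) (pow_eq (by decide +kernel))
    (pow_ne (by decide +kernel) (by decide +kernel)) (pow_ne (by decide +kernel) (by decide +kernel))
  intro q hq hd
  rcases hq.dvd_mul.1 (show q ∣ 2 ^ 2 * 3 by exact hd) with h | h
  · exact Or.inl ((Nat.prime_dvd_prime_iff_eq hq Nat.prime_two).1 (hq.dvd_of_dvd_pow h))
  · exact Or.inr ((Nat.prime_dvd_prime_iff_eq hq (by norm_num)).1 h)

theorem ord20 : orderOf (hw (X 20)) = 2 * 10 := by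
  refine ord_two_mul (p := 5) (by norm_num) ?_ (by norm_num) (pow_eq (by decide +kernel))
    (pow_ne (by decide +kernel) (by decide +kernel)) (pow_ne (by decide +kernel) (by decide +kernel))
  intro q hq hd
  rcases hq.dvd_mul.1 (show q ∣ 2 ^ 2 * 5 by exact hd) with h | h
  · exact Or.inl ((Nat.prime_dvd_prime_iff_eq hq Nat.prime_two).1 (hq.dvd_of_dvd_pow h))
  · exact Or.inr ((Nat.prime_dvd_prime_iff_eq hq (by norm_num)).1 h)

theorem bnd17 : bnd (D 17).L = 11 := by decide +kernel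
theorem bnd18 : bnd (D 18).L = 24 := by decide +kernel
theorem bnd20 : bnd (D 20).L = 20 := by decide +kernel

theorem card17 : Nat.card (GG (hw (X 17))) ≤ 22 := by
  have := card_GG_X 17
  rwa [bnd17] at this

theorem card20 : Nat.card (GG (hw (X 20))) ≤ 40 := by
  have := card_GG_X 20
  rwa [bnd20] at this

theorem ck17 : 22 ≤ Nat.card (CK' (hw (X 17))) := by
  have h1 := Subgroup.card_le_of_le (zp_le_CK' (mem_X 17))
  rwa [Nat.card_zpowers, ord17] at h1

theorem ck18 : 24 ≤ Nat.card (CK' (hw (X 18))) :=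
  two_le (mem_X 18) ord18 (pow_ne_τ (by decide +kernel) (by decide +kernel))

theorem ck20 : 40 ≤ Nat.card (CK' (hw (X 20))) :=
  two_le (mem_X 20) ord20 (pow_ne_τ (by decide +kernel) (by decide +kernel))

/-- an odd element centralizing `X 18` modulo `τ` -/
def h18 : List ℕ := [0, 3, 0, 2, 1, 2, 4, 1, 3, 1, 3, 1, 2, 1]

theorem card18 : Nat.card (GG (hw (X 18)) ⊓ K : Subgroup H0) ≤ 24 := by
  have h1 := card_GG_X 18
  rw [bnd18] at h1
  have h2 := inf_le h1 ⟨hw h18, mem_GG.2 (Or.inr ?_), not_mem_K_of_par (by decide) (by decide)⟩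
  · omega
  · rw [← hw_iw, ← hw_append, ← hw_append, ← hw_τ, ← hw_append]
    exact hw_eq (by decide +kernel)

/-- **good elements** -/
theorem good_X {i : Fin 21} (hi : i ∈ ([0, 2, 3, 7, 8, 9, 11, 12, 15, 17, 18, 19, 20] : List (Fin 21))) {c : H0} (hc : c ∈ K) :
    c * hw (X i) * c⁻¹ ≠ τ * hw (X i) := by
  simp only [List.mem_cons, List.not_mem_nil, or_false] at hi
  rcases hi with rfl | rfl | rfl | rfl | rfl | rfl | rfl | rfl | rfl | rfl | rfl | rfl | rfl
  · exact good_odd (m := 1) (by decide) (Or.inl (pow_eq (by decide +kernel))) c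
  · exact good_tr (v := 0) (v' := 128) (by decide +kernel) (by decide +kernel) (by decide +kernel) (by norm_num) c
  · exact good_odd (m := 3) (by decide) (Or.inl (pow_eq (by decide +kernel))) c
  · exact good_odd (m := 5) (by decide) (Or.inl (pow_eq (by decide +kernel))) c
  · exact good_odd (m := 5) (by decide) (Or.inr (pow_eq_τ (by decide +kernel))) c
  · exact good_odd (m := 5) (by decide) (Or.inl (pow_eq (by decide +kernel))) c
  · exact good_tr (v := 8) (v' := 0) (by decide +kernel) (by decide +kernel) (by decide +kernel) (by norm_num) c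
  · exact good_odd (m := 7) (by decide) (Or.inl (pow_eq (by decide +kernel))) c
  · exact good_tr (v := 8) (v' := 0) (by decide +kernel) (by decide +kernel) (by decide +kernel) (by norm_num) c
  · exact good_odd (m := 11) (by decide) (Or.inr (pow_eq_τ (by decide +kernel))) c
  · exact good_cent ck18 (by have := card18; omega) hc
  · exact good_odd (m := 15) (by decide) (Or.inr (pow_eq_τ (by decide +kernel))) c
  · exact good_cent ck20 (by
      have h1 := card20
      have h2 := Subgroup.card_le_of_le (inf_le_left : GG (hw (X 20)) ⊓ K ≤ GG (hw (X 20)))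
      omega) hc

/-! ### separation -/

theorem inv_X (i : Fin 21) : inv4v adjA (φ (hw (X i))) = (D i).I := by
  have h := chk_all i
  simp only [Cls.chk, Bool.and_eq_true] at h
  obtain ⟨-, -, h4⟩ := h
  split at h4
  · next v2 v1 w2 w1 he =>
    rw [he]
    exact inv4v_of (acts i) h4
  · exact absurd h4 (by simp)

theorem inj_I : ∀ i j : Fin 21, (D i).I = (D j).I → i = j := by
  decide +kernel

theorem eq_of_conj {i j : Fin 21} {c : H0} (h : φ (c * hw (X i) * c⁻¹) = φ (hw (X j))) : i = j := by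
  apply inj_I
  rw [← inv_X, ← inv_X]
  refine inv4v_conj (c := φ c) (Cfsg.Agent.HN.HS100.range_le ⟨c, rfl⟩) ?_
  rw [← h, map_mul, map_mul, map_inv, inv_mul_cancel_right]

/-- the classes -/
def idx : Fin 15 → Fin 21 := ![0, 3, 7, 8, 9, 12, 17, 17, 19, 2, 11, 15, 20, 20, 18]

/-- the conjugators -/
def cz (i : Fin 15) : H0 := if i = 7 ∨ i = 13 then gz else 1

theorem idx_good : ∀ i, idx i ∈ ([0, 2, 3, 7, 8, 9, 11, 12, 15, 17, 18, 19, 20] : List (Fin 21)) := by decide

theorem idx_inj : ∀ i j : Fin 15, i ≠ j → idx i = idx j →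
    (idx i = 17 ∨ idx i = 20) ∧ ((i = 7 ∨ i = 13) ∧ ¬ (j = 7 ∨ j = 13) ∨ ¬ (i = 7 ∨ i = 13) ∧ (j = 7 ∨ j = 13)) := by
  decide +kernel

theorem gz_not_mem : gz ∉ K := by
  rw [← Cfsg.Agent.HN.P1408.hw_z]
  exact not_mem_K_of_par (by decide) (by decide)

/-- the 15 elements -/
def F (i : Fin 15) : K := ⟨cz i * hw (X (idx i)) * (cz i)⁻¹, Subgroup.Normal.conj_mem inferInstance _ (mem_X _) _⟩

/-- the central element -/
def τK : K := ⟨τ, τ_mem_K⟩

theorem F_good (i : Fin 15) (h : K) : h * F i * h⁻¹ ≠ τK * F i := by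
  intro e
  have e1 : (h : H0) * (cz i * hw (X (idx i)) * (cz i)⁻¹) * (h : H0)⁻¹ = τ * (cz i * hw (X (idx i)) * (cz i)⁻¹) :=
    congrArg Subtype.val e
  have hm : (cz i)⁻¹ * (h : H0) * cz i ∈ K := by
    have := Subgroup.Normal.conj_mem (inferInstance : K.Normal) _ h.2 (cz i)⁻¹
    rwa [inv_inv] at this
  apply good_X (idx_good i) hm
  have e2 : (cz i)⁻¹ * (h : H0) * cz i * hw (X (idx i)) * ((cz i)⁻¹ * (h : H0) * cz i)⁻¹ =
      (cz i)⁻¹ * ((h : H0) * (cz i * hw (X (idx i)) * (cz i)⁻¹) * (h : H0)⁻¹) * cz i := by group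
  rw [e2, e1, ← mul_assoc, τ_comm]
  group

theorem F_sep_aux {i j : Fin 15} (hij : i ≠ j) (h : K) (e : φ ((h * F i * h⁻¹ : K) : H0) = φ (F j : H0)) : False := by
  have e1 : φ ((h : H0) * (cz i * hw (X (idx i)) * (cz i)⁻¹) * (h : H0)⁻¹) = φ (cz j * hw (X (idx j)) * (cz j)⁻¹) := e
  have e2 : φ (((cz j)⁻¹ * h * cz i) * hw (X (idx i)) * ((cz j)⁻¹ * h * cz i)⁻¹) = φ (hw (X (idx j))) := by
    have e3 : ((cz j)⁻¹ * h * cz i) * hw (X (idx i)) * ((cz j)⁻¹ * h * cz i)⁻¹ =
        (cz j)⁻¹ * ((h : H0) * (cz i * hw (X (idx i)) * (cz i)⁻¹) * (h : H0)⁻¹) * cz j := by group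
    rw [e3, map_mul, map_mul, e1, ← map_mul, ← map_mul]
    congr 1
    group
  have h1 := eq_of_conj e2
  obtain ⟨h2, h3⟩ := idx_inj i j hij h1
  rw [← h1] at e2
  have h4 : (cz j)⁻¹ * h * cz i ∈ GG (hw (X (idx i))) := by
    rw [mem_GG, ← φ_eq_iff]
    exact e2
  have h5 : (cz j)⁻¹ * h * cz i ∈ K := by
    rcases h2 with h2 | h2
    · rw [h2] at h4
      exact mem_K_of_GG ck17 card17 (by norm_num) h4
    · rw [h2] at h4
      exact mem_K_of_GG ck20 card20 (by norm_num) h4
  apply gz_not_mem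
  rcases h3 with ⟨h3, h3'⟩ | ⟨h3, h3'⟩
  · rw [cz, if_neg h3', cz, if_pos h3, inv_one, one_mul] at h5
    exact (Subgroup.mul_mem_cancel_left K h.2).1 h5
  · rw [cz, if_pos h3', cz, if_neg h3, mul_one] at h5
    exact (inv_mem_iff (S := Subgroup H0)).1 ((Subgroup.mul_mem_cancel_right K h.2).1 h5)

theorem F_sep (i j : Fin 15) (hij : i ≠ j) (h : K) : h * F i * h⁻¹ ≠ F j ∧ h * F i * h⁻¹ ≠ τK * F j := by
  constructor
  · intro e
    exact F_sep_aux hij h (by rw [e])
  · intro e
    refine F_sep_aux hij h ?_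
    rw [e]
    change φ (τ * (F j : H0)) = _
    rw [map_mul, Cfsg.Agent.HN.H0Basic.φ_τ, one_mul]

end Cfsg.Agent.H382.RIM.HSG
end

-- part: H382/RIM/HS
section
/-!
# `(HS, 5)` of S4816 (helper382)
-/

set_option autoImplicit false
set_option maxRecDepth 100000

namespace Cfsg.Agent.H382.RIM.HS

open Cfsg Cfsg.Agent.H665.RIM Cfsg.Agent.H382.RIM.HSG
open Cfsg.Agent.SporadicA.PermTab Cfsg.Agent.HN.Pres
open Cfsg.Agent.HN.HS100 (φ Q K adjA)
open Cfsg.Agent.HN.P1408 (hw iw okw eqw hw_append hw_iw ψ)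
open Cfsg.Agent.HN.H0Basic (τ par mem_K_of_par not_mem_K_of_par hw_eq hw_τ τ_mem_K τ_ne_one τ_mul_τ τ_comm φ_eq_one_iff φ_eq_iff)
open Cfsg.Agent.HN.DoubleCover (φK φK_surj)
open Cfsg.Agent.H922.Ore.Gr Cfsg.Agent.H922.Ore.HS
open Cfsg.Agent.H767.QO.HS
open Cfsg.Agent.H51.Mult (PCE)
open scoped commutatorElement

universe u

/-- an element of order 15 with `U ^ 6 = X 7` -/
def U : List ℕ := [3, 4, 3, 4, 3, 0, 2, 0, 2, 4, 2, 4, 1, 2, 4, 2, 4, 0, 2, 2, 4, 3, 4, 1, 3, 3, 0, 0, 3, 0, 4, 3, 4, 3, 1, 3, 1,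
  2, 4, 2, 4, 2]

/-- `c X 19 c⁻¹ = U τ` -/
def cU : List ℕ := iw [3, 0, 4, 3, 4, 3, 1, 3, 1, 2, 4, 2, 4, 2]

def hU : List ℕ := [4, 3, 3, 0, 4, 2, 4, 3, 4, 1, 2, 2, 4]
def gU2 : List ℕ := [4, 2, 4, 2, 4, 3, 3, 4, 3, 3, 1, 3, 1]
def gU1 : List ℕ := [2, 2, 2, 0, 3, 3, 0, 3, 1, 2, 1, 2, 2, 1, 3, 3, 3]
def h9 : List ℕ := [3, 1, 2, 2, 4, 2, 2, 1]
def g9 : List ℕ := [4, 2, 4, 2, 4, 2, 2, 4, 3, 4, 3, 4, 2, 1, 3, 1]
def wQ : List ℕ := [3, 0, 3, 0, 2, 0, 4, 2, 1, 2, 4, 1, 2, 2, 1, 2]
def aQ : List ℕ := [2, 2, 0, 2, 2, 2, 4, 2, 1, 3, 3, 4, 1, 3, 4, 3, 3, 4, 3, 0, 3, 3, 1, 2, 4, 3, 3, 3, 4, 3]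

/-- an element of `K` given by a word -/
def kw (w : List ℕ) (h : inK w = true) : K := ⟨hw w, mem_of_inK h⟩

def u : K := kw U (by decide +kernel)
def y : K := kw (X 9) (inK_X 9)
def w : K := kw wQ (by decide +kernel)
def a : K := kw aQ (by decide +kernel)

theorem conj_w {g x x' : List ℕ} (h : eqw (g ++ (x ++ iw g)) x' = true) : hw g * hw x * (hw g)⁻¹ = hw x' := by
  rw [← hw_eq h, hw_append, hw_append, hw_iw, mul_assoc]

theorem isConj_kw {g x x' : List ℕ} (hg : inK g = true) {hx : inK x = true} {hx' : inK x' = true}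
    (h : eqw (g ++ (x ++ iw g)) x' = true) : IsConj (kw x hx) (kw x' hx') :=
  isConj_iff.2 ⟨kw g hg, Subtype.ext (conj_w h)⟩

theorem kw_pow {x : List ℕ} {hx : inK x = true} {n : ℕ} {h : inK (pw x n) = true} : kw (pw x n) h = kw x hx ^ n :=
  Subtype.ext (hw_pw x n)

theorem u_pow : u ^ 15 = 1 := Subtype.ext (pow_eq (w := U) (by decide +kernel))

theorem u_five : u ^ 5 ≠ 1 := fun h =>
  pow_ne (w := U) (n := 5) (by decide +kernel) (by decide +kernel) (congrArg Subtype.val h)

theorem u_three : u ^ 3 ≠ 1 := fun h =>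
  pow_ne (w := U) (n := 3) (by decide +kernel) (by decide +kernel) (congrArg Subtype.val h)

theorem y_pow : y ^ 5 = 1 := Subtype.ext (pow_eq (w := X 9) (by decide +kernel))

theorem order_u : orderOf u = 15 := by
  refine orderOf_eq_of_pow_and_pow_div_prime (by norm_num) u_pow ?_
  intro q hq hd
  rcases hq.dvd_mul.1 (show q ∣ 3 * 5 by exact hd) with h | h
  · rw [(Nat.prime_dvd_prime_iff_eq hq Nat.prime_three).1 h]
    exact u_five
  · rw [(Nat.prime_dvd_prime_iff_eq hq Nat.prime_five).1 h]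
    exact u_three

theorem u_two : IsConj u (u ^ 2) := by
  have h2 : inK (pw U 2) = true := by decide +kernel
  have h := isConj_kw (g := gU2) (x := U) (x' := pw U 2) (by decide +kernel) (hx := by decide +kernel) (hx' := h2)
    (by decide +kernel)
  rw [kw_pow (hx := by decide +kernel)] at h
  exact h

theorem u_fourteen : IsConj u (u ^ 14) := by
  have h2 : inK (pw U 14) = true := by decide +kernel
  have h := isConj_kw (g := gU1) (x := U) (x' := pw U 14) (by decide +kernel) (hx := by decide +kernel) (hx' := h2)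
    (by decide +kernel)
  rw [kw_pow (hx := by decide +kernel)] at h
  exact h

theorem y_two : IsConj y (y ^ 2) := by
  have h2 : inK (pw (X 9) 2) = true := by decide +kernel
  have h := isConj_kw (g := g9) (x := X 9) (x' := pw (X 9) 2) (by decide +kernel) (hx := inK_X 9) (hx' := h2)
    (by decide +kernel)
  rw [kw_pow (hx := inK_X 9)] at h
  exact h

/-- `u ^ 6 = X 7` -/
theorem u_six : u ^ 6 = kw (X 7) (inK_X 7) := by
  apply Subtype.ext
  change hw U ^ 6 = hw (X 7)
  rw [← hw_pw]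
  exact hw_eq (by decide +kernel)

theorem comm_w {g x : List ℕ} (h : eqw (g ++ x) (x ++ g) = true) : hw x * hw g = hw g * hw x := by
  rw [← hw_append, ← hw_append, hw_eq h]

theorem comm_xw : Commute (u ^ 6) w := by
  rw [u_six]
  exact Subtype.ext (comm_w (g := wQ) (x := X 7) (by decide +kernel))

theorem comm_xa : Commute (u ^ 6) a := by
  rw [u_six]
  exact Subtype.ext (comm_w (g := aQ) (x := X 7) (by decide +kernel))

theorem comm_aw : ⁅a, w⁆ = τK := by
  apply Subtype.ext
  change hw aQ * hw wQ * (hw aQ)⁻¹ * (hw wQ)⁻¹ = τ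
  rw [← hw_iw, ← hw_iw, ← hw_append, ← hw_append, ← hw_append, ← hw_τ]
  exact hw_eq (by decide +kernel)

theorem bnd7 : bnd (D 7).L = 600 := by decide +kernel
theorem bnd9 : bnd (D 9).L = 50 := by decide +kernel
theorem bnd19 : bnd (D 19).L = 30 := by decide +kernel

theorem card_x : Nat.card (Subgroup.centralizer ({u ^ 6} : Set K)) ≤ 600 := by
  rw [u_six, ← bnd7]
  refine card_cent_le (i := 7) (c := 1) (h := hw hU) ?_ (not_mem_K_of_par (by decide) (by decide)) ?_
  · rw [one_mul, inv_one, mul_one]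
    rfl
  · exact conj_w (x := X 7) (by decide +kernel)

theorem card_y : Nat.card (Subgroup.centralizer ({y} : Set K)) ≤ 50 := by
  rw [← bnd9]
  refine card_cent_le (i := 9) (c := 1) (h := hw h9) ?_ (not_mem_K_of_par (by decide) (by decide)) ?_
  · rw [one_mul, inv_one, mul_one]
    rfl
  · exact conj_w (x := X 9) (by decide +kernel)

theorem card_u : Nat.card (Subgroup.centralizer ({u} : Set K)) ≤ 30 := by
  rw [← bnd19]
  refine card_cent_le (i := 19) (c := hw cU) (h := hw hU) ?_ (not_mem_K_of_par (by decide) (by decide)) ?_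
  · rw [φ_eq_iff]
    right
    rw [conj_w (x' := U ++ [0, 0]) (by decide +kernel), hw_append, hw_τ]
    rfl
  · exact conj_w (x := U) (by decide +kernel)

theorem not_conj : ¬ IsConj (u ^ 6) y := by
  rw [u_six]
  intro h
  obtain ⟨c, hc⟩ := isConj_iff.1 h
  have h1 : (7 : Fin 21) = 9 := eq_of_conj (c := (c : H0)) (congrArg (fun g : K => φ (g : H0)) hc)
  exact absurd h1 (by decide)

theorem τK_comm (g : K) : g * τK = τK * g := Subtype.ext (τ_comm _)

theorem τK_ne_one : τK ≠ 1 := fun h => τ_ne_one (congrArg Subtype.val h)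

/-- **`2.HS` has a faithful irreducible character of degree divisible by 5.** -/
theorem exists_char : ∃ χ : K → ℂ, IsIrrCharacter K χ ∧ χ τK = - χ 1 ∧ 5 ∣ charDegree χ := by
  have h15 : 15 ∣ Nat.card K := by
    rw [← order_u]
    exact orderOf_dvd_natCard _
  exact Two.exists_five (z := τK) τK_comm τK_ne_one (Subtype.ext τ_mul_τ) (dvd_trans (by norm_num) h15)
    (dvd_trans (by norm_num) h15) u_pow u_five y_pow u_two u_fourteen y_two comm_xw comm_xa comm_aw not_conj card_x card_y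
    card_u F F_good F_sep

/-- **`HS`, `p = 5`** -/
theorem row {S : Type u} [Group S] (h : Spor.IsoHS S) : NBall 5 S := by
  obtain ⟨e⟩ := h
  obtain ⟨⟨f⟩, hsQ⟩ := Cfsg.Agent.HN.AutHS.nonempty_Q
  obtain ⟨χ, h1, h2, h3⟩ := exists_char
  have hs : IsSimpleGroup ↥Cfsg.Spor.HS := by
    have := hsQ
    have : Nontrivial ↥Cfsg.Spor.HS := f.symm.toEquiv.nontrivial
    exact IsSimpleGroup.isSimpleGroup_of_surjective f.toMonoidHom f.surjective
  let σ : K →* Spor.HS := f.toMonoidHom.comp φK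
  have hk : ∀ g : K, σ g = 1 ↔ g = 1 ∨ g = τK := by
    intro g
    change f (φK g) = 1 ↔ _
    rw [map_eq_one_iff f f.injective]
    have h4 : φK g = 1 ↔ φ (g : H0) = 1 := ⟨fun h => congrArg Subtype.val h, fun h => Subtype.ext h⟩
    rw [h4, φ_eq_one_iff]
    exact ⟨fun h => h.imp (fun h => Subtype.ext h) fun h => Subtype.ext h,
      fun h => h.imp (fun h => congrArg Subtype.val h) fun h => congrArg Subtype.val h⟩
  have hσ : PCE σ := by
    refine ⟨f.surjective.comp φK_surj, ?_, perfect_K⟩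
    intro g hg
    rw [MonoidHom.mem_ker, hk] at hg
    rw [Subgroup.mem_center_iff]
    rcases hg with rfl | rfl
    · intro g; rw [mul_one, one_mul]
    · exact τK_comm
  refine nball_of_two e S2046.result ?_ hσ τK_ne_one hk h1 h2 h3
  rw [Nat.card_congr Multiplicative.toAdd, Nat.card_zmod]

end Cfsg.Agent.H382.RIM.HS
end

-- part: H306/RIM/JThree
section
/-!
# S4816: the rows `J3`, `p = 17, 19` (helper306)
-/

set_option autoImplicit false

namespace Cfsg.Agent.H306.RIM.JThree

open Cfsg Subgroup Cfsg.Agent.H665.RIM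
open Cfsg.Agent.J3Type.CodeGroup Cfsg.Agent.J3Type.CharOrder

universe u

variable {S : Type u} [Group S]

def ords : Fin 12 → ℕ := ![1, 2, 4, 8, 10, 10, 5, 5, 17, 17, 19, 19]

theorem ords_eq : ∀ i j : Fin 12, ords i = ords j → i ≠ j →
    (i = 4 ∧ j = 5) ∨ (i = 5 ∧ j = 4) ∨ (i = 6 ∧ j = 7) ∨ (i = 7 ∧ j = 6) ∨ (i = 8 ∧ j = 9) ∨ (i = 9 ∧ j = 8) ∨
      (i = 10 ∧ j = 11) ∨ (i = 11 ∧ j = 10) := by
  decide +kernel

theorem ords_cop : ∀ i : Fin 12, (ords i).Coprime 3 := by decide

theorem exists_elts [Finite S] (h : Spor.IsoJ3 S) :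
    ∃ g : Fin 12 → S, (∀ i, orderOf (g i) = ords i) ∧ (∀ i j, IsConj (g i) (g j) → i = j) := by
  obtain ⟨t, D, hD, hall⟩ := Cfsg.Agent.H417.JThreeCols.exists_coded_iso h
  have hcard := (Cfsg.Agent.H898.J3Cent.base h).2.1
  have f5 := Fact.mk Nat.prime_five
  have f17 : Fact (Nat.Prime 17) := ⟨by norm_num⟩
  have f19 : Fact (Nat.Prime 19) := ⟨by norm_num⟩
  obtain ⟨u, hu⟩ := exists_prime_orderOf_dvd_card' (G := S) 5 (by rw [hcard]; norm_num)
  obtain ⟨a, ha⟩ := exists_prime_orderOf_dvd_card' (G := S) 17 (by rw [hcard]; norm_num)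
  obtain ⟨b, hb⟩ := exists_prime_orderOf_dvd_card' (G := S) 19 (by rw [hcard]; norm_num)
  have hu2 : orderOf (u ^ 2) = 5 := ord_pow hu (by norm_num)
  have ha3 : orderOf (a ^ 3) = 17 := ord_pow ha (by norm_num)
  have hb2 : orderOf (b ^ 2) = 19 := ord_pow hb (by norm_num)
  have cu := Cfsg.Agent.H153.RM.j3_five h hu
  have nu : ¬ IsConj u (u ^ 2) := by
    obtain ⟨e, he, hN, hi, hc⟩ := H306.QA.exists_card_normalizer' Nat.prime_five hu (by rw [hcard]; norm_num)
    have he' : e ≤ 4 := Nat.le_of_dvd (by norm_num) he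
    rw [cu, hcard] at hc
    set s := (normalizer ((zpowers u : Subgroup S) : Set S)).index with hs
    have h2 : e * s = 1674432 := by
      have h4 : 30 * (e * s) = 50232960 := by rw [← hc]; ring
      omega
    have h3 : (e * (s % 5)) % 5 = 2 := by rw [Nat.mul_mod_mod, h2]
    rw [hi, mul_one] at h3
    have h4 : e = 2 := by omega
    subst h4
    exact not_conj hu (e := 2) hN (by norm_num)
  have na : ¬ IsConj a (a ^ 3) := by
    have h2 := Cfsg.Agent.H898.J3Cent.seventeen h ha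
    exact not_conj ha (e := 8) (by rw [h2.1, h2.2]) (by norm_num)
  have nb : ¬ IsConj b (b ^ 2) :=
    not_conj hb (e := 9) (by rw [Cfsg.Agent.H898.J3Cent.card_nineteen h hb,
      Cfsg.Agent.H898.J3Cent.card_normalizer_nineteen h hb]) (by norm_num)
  let g : Fin 12 → S := ![1, t, D 1, D 97, D 528, D 1456, u, u ^ 2, a, a ^ 3, b, b ^ 2]
  have ho : ∀ i, orderOf (g i) = ords i := by
    intro i
    fin_cases i
    · exact orderOf_one
    · exact hD.t_order
    · exact hD.order4
    · exact hD.order8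
    · exact hD.order10a
    · exact hD.order10b
    · exact hu
    · exact hu2
    · exact ha
    · exact ha3
    · exact hb
    · exact hb2
  refine ⟨g, ho, fun i j hij => ?_⟩
  by_contra hne
  have h1 := orderOf_conj' hij
  rw [ho, ho] at h1
  rcases ords_eq i j h1 hne with ⟨rfl, rfl⟩ | ⟨rfl, rfl⟩ | ⟨rfl, rfl⟩ | ⟨rfl, rfl⟩ | ⟨rfl, rfl⟩ | ⟨rfl, rfl⟩ | ⟨rfl, rfl⟩ |
    ⟨rfl, rfl⟩
  · exact hD.not_conj hij
  · exact hD.not_conj hij.symm
  · exact nu hij
  · exact nu hij.symm
  · exact na hij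
  · exact na hij.symm
  · exact nb hij
  · exact nb hij.symm

/-- the multiplier is 3 -/
theorem ker_dvd_three (h : Spor.IsoJ3 S) {E : Type u} [Group E] (π : E →* S) (hπ : Function.Surjective π)
    (hc : π.ker ≤ center E) (hE : commutator E = ⊤) : Nat.card π.ker ∣ 3 := by
  obtain ⟨F, _, _, ω, hF, hω, ⟨e⟩⟩ := h
  exact ker_dvd (Cfsg.Agent.S2041.result hF ω hω) e π hπ hc hE

/-- reduction to `m = 3` -/
theorem nball_of_three (h : Spor.IsoJ3 S) {p : ℕ} (H : NB p 3 S) : NBall p S := by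
  intro m hm _ E _ _ π hπ hc hE hk l hl
  have h1 := ker_dvd_three h π hπ hc hE
  rw [hk] at h1
  have h3 : m = 3 := by
    rcases (Nat.dvd_prime Nat.prime_three).1 h1 with h2 | h2 <;> omega
  subst h3
  exact H E π hπ hc hE hk l hl

/-- **`J3`, `p = 17`** -/
theorem nball_seventeen [Finite S] (h : Spor.IsoJ3 S) : NBall 17 S := by
  have hcard := (Cfsg.Agent.H898.J3Cent.base h).2.1
  have f17 : Fact (Nat.Prime 17) := ⟨by norm_num⟩
  obtain ⟨a, ha⟩ := exists_prime_orderOf_dvd_card' (G := S) 17 (by rw [hcard]; norm_num)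
  obtain ⟨g, ho, hg⟩ := exists_elts h
  have h2 := Cfsg.Agent.H898.J3Cent.seventeen h ha
  refine nball_of_three h (nb_of_dz (by norm_num) (by rw [hcard]; norm_num) ha (k := 1) (w := 8) ?_ ?_ g
    (fun i => by rw [ho]; exact ords_cop i) hg (by norm_num))
  · rw [h2.1]
  · rw [h2.2]

/-- **`J3`, `p = 19`** -/
theorem nball_nineteen [Finite S] (h : Spor.IsoJ3 S) : NBall 19 S := by
  have hcard := (Cfsg.Agent.H898.J3Cent.base h).2.1
  have f19 : Fact (Nat.Prime 19) := ⟨by norm_num⟩
  obtain ⟨a, ha⟩ := exists_prime_orderOf_dvd_card' (G := S) 19 (by rw [hcard]; norm_num)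
  obtain ⟨g, ho, hg⟩ := exists_elts h
  refine nball_of_three h (nb_of_dz (by norm_num) (by rw [hcard]; norm_num) ha (k := 1) (w := 9) ?_ ?_ g
    (fun i => by rw [ho]; exact ords_cop i) hg (by norm_num))
  · rw [Cfsg.Agent.H898.J3Cent.card_nineteen h ha]
  · rw [Cfsg.Agent.H898.J3Cent.card_normalizer_nineteen h ha]

end Cfsg.Agent.H306.RIM.JThree
end

-- part: H57/RIM/DzTwo
section
/-!
# S4816: defect zero characters over a central character, refined count (helper57)

* `good_of_cent`: `C_{G/Z}(ḡ) = ⟨ḡ⟩` implies that `g` is good;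
* `card_conj_le`: `k(H) ≤ 1 + (|H| - 1) / 2` if `Z(H) = 1`;
* `exists_dz_quot2`, `nb_of_dz2`: as helper849 / helper306, with the number of classes of the complement.
-/

set_option autoImplicit false
set_option linter.unusedSectionVars false

namespace Cfsg.Agent.H57.RIM

open Cfsg Subgroup Finset
open Cfsg.Agent.Characters.Core
open Cfsg.Agent.SmallSimple.ThetaSetup Cfsg.Agent.SmallSimple.ThetaOrtho Cfsg.Agent.SmallSimple.ThetaCount
open Cfsg.Agent.SmallSimple.TheoremC Cfsg.Agent.SmallSimple.TheoremCCor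
open Cfsg.Agent.SmallSimple.SingularCount
open Cfsg.Agent.H622.Over Cfsg.Agent.H849.RIM Cfsg.Agent.H665.RIM

universe u

section good

variable {G : Type u} [Group G] [Finite G]

/-- A self-centralizing element modulo `Z` is good. -/
theorem good_of_cent {Z : Subgroup G} [Z.Normal] (hZ : Z ≤ center G) (c : Z →* ℂˣ) {g : G}
    (h : centralizer ({(g : G ⧸ Z)} : Set (G ⧸ Z)) ≤ zpowers (g : G ⧸ Z)) : Good Z c g := by
  intro x hx
  have h1 : (x : G ⧸ Z) ∈ centralizer ({(g : G ⧸ Z)} : Set (G ⧸ Z)) := by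
    rw [mem_centralizer_singleton_iff]
    have h2 := (QuotientGroup.eq_one_iff (N := Z) (x⁻¹ * g⁻¹ * x * g)).2 hx
    rw [QuotientGroup.mk_mul, QuotientGroup.mk_mul, QuotientGroup.mk_mul, QuotientGroup.mk_inv,
      QuotientGroup.mk_inv] at h2
    have h3 : (x : G ⧸ Z)⁻¹ * (g : G ⧸ Z)⁻¹ * (x : G ⧸ Z) * (g : G ⧸ Z) = 1 := h2
    calc (x : G ⧸ Z) * g = g * x * ((x : G ⧸ Z)⁻¹ * (g : G ⧸ Z)⁻¹ * (x : G ⧸ Z) * (g : G ⧸ Z)) := by group
      _ = g * x := by rw [h3, mul_one]
  obtain ⟨i, hi⟩ := mem_zpowers_iff.1 (h h1)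
  have h2 : (g ^ i)⁻¹ * x ∈ Z := by
    rw [← QuotientGroup.eq_one_iff, QuotientGroup.mk_mul, QuotientGroup.mk_inv, QuotientGroup.mk_zpow, hi,
      inv_mul_cancel]
  have h3 := mem_center_iff.1 (hZ h2) g
  have h4 : x * g = g * x := by
    have h5 : x = g ^ i * ((g ^ i)⁻¹ * x) := by group
    calc x * g = g ^ i * ((g ^ i)⁻¹ * x * g) := by group
      _ = g ^ i * (g * ((g ^ i)⁻¹ * x)) := by rw [h3]
      _ = g * x := by group
  have h5 : (⟨x⁻¹ * g⁻¹ * x * g, hx⟩ : Z) = 1 := by
    apply Subtype.ext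
    show x⁻¹ * g⁻¹ * x * g = 1
    calc x⁻¹ * g⁻¹ * x * g = x⁻¹ * g⁻¹ * (x * g) := by group
      _ = x⁻¹ * g⁻¹ * (g * x) := by rw [h4]
      _ = 1 := by group
  rw [h5, map_one]

/-- **A lower bound for the number of characters over `c`.** -/
theorem card_good_ge2 {Z : Subgroup G} [Z.Normal] (hZ : Z ≤ center G) (c : Z →* ℂˣ) (F : Finset (ConjClasses (G ⧸ Z)))
    (hF : ∀ C ∈ F, ∃ g : G ⧸ Z, ConjClasses.mk g = C ∧ ((orderOf g).Coprime (Nat.card Z) ∨
      centralizer ({g} : Set (G ⧸ Z)) ≤ zpowers g)) :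
    F.card ≤ Nat.card {χ : IrrCharacter G // Lies Z c (χ : G → ℂ)} := by
  classical
  rw [card_over hZ c, card_good hZ c]
  have h1 : Set.Finite {C : ConjClasses (G ⧸ Z) | ∃ g : G, ConjClasses.mk (g : G ⧸ Z) = C ∧ Good Z c g} := by
    have : Finite (ConjClasses (G ⧸ Z)) := Finite.of_surjective _ (ConjClasses.mk_surjective (α := G ⧸ Z))
    exact Set.toFinite _
  have h2 : (F : Set (ConjClasses (G ⧸ Z))) ⊆
      {C : ConjClasses (G ⧸ Z) | ∃ g : G, ConjClasses.mk (g : G ⧸ Z) = C ∧ Good Z c g} := by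
    intro C hC
    obtain ⟨g, hg, ho⟩ := hF C (mem_coe.1 hC)
    obtain ⟨g', rfl⟩ := QuotientGroup.mk_surjective g
    rcases ho with ho | ho
    · exact ⟨g', hg, good_of_coprime hZ c (pow_orderOf_eq_one _) ho⟩
    · exact ⟨g', hg, good_of_cent hZ c ho⟩
  have h3 := Set.ncard_le_ncard h2 h1
  rw [Set.ncard_coe_finset] at h3
  exact h3

end good

/-- `k(H) |H| = Σ |C(h)|`; with trivial center `k(H) ≤ 1 + (|H| - 1) / 2` -/
theorem card_conj_le {H : Type*} [Group H] [Finite H] (hc : center H = ⊥) :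
    2 * Nat.card (ConjClasses H) ≤ Nat.card H + 1 := by
  classical
  have := Fintype.ofFinite H
  have hk := card_comm_eq_card_conjClasses_mul_card H
  have h1 : Nat.card { p : H × H // Commute p.1 p.2 } = ∑ h : H, Nat.card (centralizer ({h} : Set H)) := by
    rw [← Nat.card_sigma]
    refine Nat.card_congr
      { toFun := fun p => ⟨p.1.1, ⟨p.1.2, mem_centralizer_singleton_iff.2 p.2.symm⟩⟩
        invFun := fun x => ⟨(x.1, x.2.1), (show Commute x.2.1 x.1 from mem_centralizer_singleton_iff.1 x.2.2).symm⟩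
        left_inv := fun p => rfl
        right_inv := fun x => rfl }
  rw [h1] at hk
  have h2 : ∀ h : H, h ≠ 1 → 2 * Nat.card (centralizer ({h} : Set H)) ≤ Nat.card H := by
    intro h hh
    have h3 : (centralizer ({h} : Set H)).index ≠ 1 := by
      intro h4
      rw [Subgroup.index_eq_one] at h4
      apply hh
      have h5 : h ∈ center H := by
        rw [mem_center_iff]
        intro g
        have h6 : g ∈ centralizer ({h} : Set H) := by rw [h4]; exact mem_top g
        exact mem_centralizer_singleton_iff.1 h6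
      rwa [hc, mem_bot] at h5
    have h4 := Subgroup.card_mul_index (centralizer ({h} : Set H))
    have h5 : 0 < (centralizer ({h} : Set H)).index := Nat.pos_of_ne_zero index_ne_zero_of_finite
    have h6 : 2 ≤ (centralizer ({h} : Set H)).index := by omega
    calc 2 * Nat.card (centralizer ({h} : Set H)) ≤
        (centralizer ({h} : Set H)).index * Nat.card (centralizer ({h} : Set H)) := Nat.mul_le_mul_right _ h6
      _ = Nat.card H := by rw [mul_comm, h4]
  have h3 : 2 * ∑ h : H, Nat.card (centralizer ({h} : Set H)) ≤ (Nat.card H + 1) * Nat.card H := by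
    rw [Finset.mul_sum]
    calc ∑ h : H, 2 * Nat.card (centralizer ({h} : Set H)) ≤
        ∑ h : H, (if h = 1 then 2 * Nat.card H else Nat.card H) := by
          refine Finset.sum_le_sum fun h _ => ?_
          split
          · next e =>
            exact Nat.mul_le_mul_left _ (Subgroup.card_le_card_group _)
          · next e => exact h2 h e
      _ = (Nat.card H + 1) * Nat.card H := by
          have h4 : ∀ h : H, (if h = 1 then 2 * Nat.card H else Nat.card H) =
              Nat.card H + (if h = 1 then Nat.card H else 0) := by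
            intro h
            split <;> ring
          rw [Finset.sum_congr rfl fun h _ => h4 h, Finset.sum_add_distrib, Finset.sum_const, Finset.card_univ,
            Finset.sum_ite_eq', if_pos (Finset.mem_univ _), smul_eq_mul, Nat.card_eq_fintype_card]
          ring
  rw [hk] at h3
  have h4 : 0 < Nat.card H := Nat.card_pos
  rw [← mul_assoc] at h3
  exact Nat.le_of_mul_le_mul_right h3 h4

/-- a nonabelian group of order 6 has at most 3 classes -/
theorem card_conj_six {H : Type*} [Group H] [Finite H] (h6 : Nat.card H = 6) (hn : ∃ a b : H, a * b ≠ b * a) :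
    Nat.card (ConjClasses H) ≤ 3 := by
  have hc : center H = ⊥ := by
    by_contra hc
    have h1 : Nat.card (center H) * (center H).index = 6 := by rw [Subgroup.card_mul_index, h6]
    have h2 : Nat.card (center H) ≠ 1 := fun h => hc ((Subgroup.card_eq_one).1 h)
    have h3 : ¬ IsCyclic (H ⧸ center H) := by
      intro h3
      obtain ⟨a, b, hab⟩ := hn
      apply hab
      have h4 : (QuotientGroup.mk' (center H)).ker ≤ center H := by rw [QuotientGroup.ker_mk']
      have h5 := MonoidHom.isMulCommutative_of_isCyclic_of_ker_le_center (QuotientGroup.mk' (center H)) h4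
      exact mul_comm' a b
    have h4 : ¬ (center H).index ∣ 1 := by
      intro h4
      apply h3
      have : Nat.card (H ⧸ center H) = 1 := Nat.dvd_one.1 h4
      have h5 : Subsingleton (H ⧸ center H) := (Nat.card_eq_one_iff_unique.1 this).1
      exact isCyclic_of_subsingleton
    have h5 : ∀ p : ℕ, p.Prime → (center H).index ≠ p := by
      intro p hp h5
      have : Fact p.Prime := ⟨hp⟩
      exact h3 (isCyclic_of_prime_card (p := p) (h5 : Nat.card (H ⧸ center H) = p))
    have h7 : (center H).index ∣ 6 := ⟨_, by rw [mul_comm]; exact h1.symm⟩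
    have h8 : (center H).index ≤ 6 := Nat.le_of_dvd (by norm_num) h7
    have h9 := h5 2 Nat.prime_two
    have h10 := h5 3 Nat.prime_three
    generalize (center H).index = i at *
    generalize Nat.card (center H) = j at *
    interval_cases i
    · simp at h7
    · exact h4 (dvd_refl 1)
    · exact h9 rfl
    · exact h10 rfl
    · omega
    · omega
    · omega
  have := card_conj_le hc
  omega

/-! ### The refined count -/

section quot

variable {G : Type u} [Group G] [Finite G] {p : ℕ} [Fact p.Prime]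

/-- A character vanishing on the `p`-singular elements, `p ∣ |G|`, has degree divisible by `p`. -/
theorem exists_dz2 {P : Sylow p G} {K : Subgroup G} (hK : IsComp p (P : Subgroup G) K) (hP : Nat.card P = p)
    {Z : Subgroup G} [Z.Normal] (hZ : Z ≤ center G) (hZK : Z ≤ K) (c : Z →* ℂˣ) {w : ℕ}
    (hw : (centralizer ((P : Subgroup G) : Set G)).relIndex (normalizer ((P : Subgroup G) : Set G)) = w)
    (A : Finset (IrrCharacter K)) (hA : ∀ θ : IrrCharacter K, LiesK Z c K (θ : K → ℂ) → θ ∈ A)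
    (F : Finset (ConjClasses (G ⧸ Z)))
    (hF : ∀ C ∈ F, ∃ g : G ⧸ Z, ConjClasses.mk g = C ∧ ((orderOf g).Coprime (Nat.card Z) ∨
      centralizer ({g} : Set (G ⧸ Z)) ≤ zpowers g))
    (hlt : ∑ θ ∈ A, (Nat.card (stabAct hK (θ : K → ℂ)) ^ 2 + (p - 1)) < w * F.card) :
    ∃ χ : IrrCharacter G, Lies Z c (χ : G → ℂ) ∧ ∀ g : G, p ∣ orderOf g → (χ : G → ℂ) g = 0 := by
  classical
  by_contra hcon
  push Not at hcon
  have := finite_irr (G := G)
  have := Fintype.ofFinite (IrrCharacter G)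
  have h1 := card_mul_le hK hP hZ hZK hw A hA (Finset.univ.filter fun χ : IrrCharacter G => Lies Z c (χ : G → ℂ))
    (fun χ hχ => ⟨(mem_filter.1 hχ).2, by
      obtain ⟨g, hg, hne⟩ := hcon χ (mem_filter.1 hχ).2
      exact ⟨g, hg, hne⟩⟩)
  have h2 := card_good_ge2 hZ c F hF
  rw [Nat.card_eq_fintype_card, Fintype.card_subtype] at h2
  have h3 := Nat.mul_le_mul_left w h2
  omega

/-- The number of characters of `K` over `c` is at most the number of classes of `K Z / Z`. -/
theorem card_liesK_le2 {Z : Subgroup G} [Z.Normal] (hZ : Z ≤ center G) {K : Subgroup G} (hZK : Z ≤ K) (c : Z →* ℂˣ)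
    (A : Finset (IrrCharacter K))
    (hA : ∀ θ ∈ A, LiesK Z c K (θ : K → ℂ)) : A.card ≤ Nat.card (ConjClasses (K.map (QuotientGroup.mk' Z))) := by
  classical
  have hZ' : Z.subgroupOf K ≤ center K := by
    intro z hz
    rw [mem_center_iff]
    intro y
    exact Subtype.ext (mem_center_iff.1 (hZ (mem_subgroupOf.1 hz)) y)
  have hnorm : (Z.subgroupOf K).Normal := by
    refine ⟨fun z hz y => ?_⟩
    have h1 := mem_center_iff.1 (hZ' hz) y
    rw [h1, mul_inv_cancel_right]
    exact hz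
  let c' : Z.subgroupOf K →* ℂˣ := c.comp (subgroupOfEquivOfLe hZK).toMonoidHom
  have h1 := card_over hZ' c'
  rw [card_good hZ' c'] at h1
  have hfin : Finite (IrrCharacter K) := finite_irr
  have := Fintype.ofFinite (IrrCharacter K)
  have h2 : A.card ≤ Nat.card {χ : IrrCharacter K // Lies (Z.subgroupOf K) c' (χ : K → ℂ)} := by
    have h3 : (A : Set (IrrCharacter K)) ⊆ {χ : IrrCharacter K | Lies (Z.subgroupOf K) c' (χ : K → ℂ)} := by
      intro θ hθ y z
      have h4 := hA θ (mem_coe.1 hθ) y (y * z) ⟨((z : K) : G), mem_subgroupOf.1 z.2⟩ rfl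
      exact h4
    have h4 := Set.ncard_le_ncard h3 (Set.toFinite _)
    rw [Set.ncard_coe_finset] at h4
    exact h4
  rw [h1] at h2
  refine h2.trans ?_
  have hfc : Finite (ConjClasses (K ⧸ Z.subgroupOf K)) :=
    Finite.of_surjective _ (ConjClasses.mk_surjective (α := K ⧸ Z.subgroupOf K))
  have h5 : Nat.card {C : ConjClasses (K ⧸ Z.subgroupOf K) // ∃ g : K,
      ConjClasses.mk (g : K ⧸ Z.subgroupOf K) = C ∧ Good (Z.subgroupOf K) c' g} ≤
      Nat.card (ConjClasses (K ⧸ Z.subgroupOf K)) :=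
    Nat.card_le_card_of_injective _ Subtype.val_injective
  refine h5.trans ?_
  -- `K / Z → K Z / Z`
  let f : K →* K.map (QuotientGroup.mk' Z) := (QuotientGroup.mk' Z).subgroupMap K
  have hf : Function.Surjective f := MonoidHom.subgroupMap_surjective _ _
  have hker : f.ker = Z.subgroupOf K := by
    ext x
    rw [MonoidHom.mem_ker, mem_subgroupOf, ← QuotientGroup.eq_one_iff]
    constructor
    · intro h
      exact congrArg Subtype.val h
    · intro h
      exact Subtype.ext h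
  let e : K ⧸ Z.subgroupOf K ≃* K.map (QuotientGroup.mk' Z) :=
    (QuotientGroup.quotientMulEquivOfEq hker.symm).trans (QuotientGroup.quotientKerEquivOfSurjective f hf)
  have hfc' : Finite (ConjClasses (K.map (QuotientGroup.mk' Z))) :=
    Finite.of_surjective _ (ConjClasses.mk_surjective (α := K.map (QuotientGroup.mk' Z)))
  refine Nat.card_le_card_of_surjective (ConjClasses.map e.symm.toMonoidHom) ?_
  exact ConjClasses.map_surjective e.symm.surjective

/-- **Defect zero over a central character, `p ∥ |G|`, refined.**  `S = G ⧸ Z`, `y ∈ S` of order `p`, `|C_S(y)| = p k`,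
`|N_S(⟨y⟩)| = w p k`, subgroups of order `k` of `C_S(y)` have at most `k'` classes, and more than
`k' (w ^ 2 + p - 1) / w` classes of `S` are known to be good. -/
theorem exists_dz_quot2 {Z : Subgroup G} [Z.Normal] (hZ : Z ≤ center G) (hZp : ¬ p ∣ Nat.card Z)
    (hsq : ¬ p ^ 2 ∣ Nat.card (G ⧸ Z)) {y : G ⧸ Z} (hy : orderOf y = p) {k w k' : ℕ}
    (hC : Nat.card (centralizer ({y} : Set (G ⧸ Z))) = p * k)
    (hN : Nat.card (normalizer ((zpowers y : Subgroup (G ⧸ Z)) : Set (G ⧸ Z))) = w * (p * k))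
    (hk' : ∀ H : Subgroup (G ⧸ Z), H ≤ centralizer ({y} : Set (G ⧸ Z)) → Nat.card H = k →
      Nat.card (ConjClasses H) ≤ k') (c : Z →* ℂˣ)
    (F : Finset (ConjClasses (G ⧸ Z)))
    (hF : ∀ C ∈ F, ∃ g : G ⧸ Z, ConjClasses.mk g = C ∧ ((orderOf g).Coprime (Nat.card Z) ∨
      centralizer ({g} : Set (G ⧸ Z)) ≤ zpowers g))
    (hlt : k' * (w ^ 2 + (p - 1)) < w * F.card) :
    ∃ χ : IrrCharacter G, Lies Z c (χ : G → ℂ) ∧ p ∣ charDegree (χ : G → ℂ) := by

  classical
  have hp : p.Prime := Fact.out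
  have hfin : Finite (IrrCharacter G) := finite_irr
  obtain ⟨u, rfl, hu⟩ := exists_lift hZp hy
  -- the Sylow subgroup
  have hcG := card_eq_card_quotient_mul_card_subgroup Z
  have hG2 : ¬ p ^ 2 ∣ Nat.card G := by
    rw [hcG]
    intro h
    have hco : (p ^ 2).Coprime (Nat.card Z) := Nat.Coprime.pow_left 2 ((hp.coprime_iff_not_dvd).2 hZp)
    exact hsq (hco.dvd_of_dvd_mul_right h)
  have hzp : IsPGroup p (zpowers u) := IsPGroup.of_card (n := 1) (by rw [Nat.card_zpowers, hu, pow_one])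
  obtain ⟨P, hPle⟩ := hzp.exists_le_sylow
  have hP : Nat.card P = p := by
    obtain ⟨n, hn⟩ := (IsPGroup.iff_card).1 P.2
    have h1 : Nat.card P ∣ Nat.card G := card_subgroup_dvd_card _
    have h2 : n < 2 := by
      by_contra h3
      push Not at h3
      exact hG2 ((pow_dvd_pow p h3).trans (hn ▸ h1))
    have h3 : p ∣ Nat.card P := by
      have := card_dvd_of_le hPle
      rwa [Nat.card_zpowers, hu] at this
    interval_cases n
    · rw [hn, pow_zero, Nat.dvd_one] at h3
      exact absurd h3 hp.one_lt.ne'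
    · rw [hn, pow_one]
  have hPz : (P : Subgroup G) = zpowers u := by
    symm
    refine eq_of_le_of_card_ge hPle ?_
    rw [Nat.card_zpowers, hu]
    exact hP.le
  obtain ⟨K, hK⟩ := exists_isComp P hP
  have huP : u ∈ (P : Subgroup G) := hPle (mem_zpowers u)
  have hu1 : u ≠ 1 := by
    rintro rfl
    rw [orderOf_one] at hu
    exact hp.one_lt.ne hu
  have hCP : centralizer ((P : Subgroup G) : Set G) = centralizer ({u} : Set G) :=
    (Blocks.CyclicOrtho.centralizer_eq P hP huP hu1).symm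
  -- the centralizer
  have hcent : centralizer ((P : Subgroup G) : Set G) =
      (centralizer ({(u : G ⧸ Z)} : Set (G ⧸ Z))).comap (QuotientGroup.mk' Z) := by
    rw [hCP]
    ext x
    rw [mem_centralizer_singleton_iff, mem_comap, mem_centralizer_singleton_iff]
    constructor
    · intro h
      have := congrArg (QuotientGroup.mk' Z) h
      simpa only [_root_.QuotientGroup.mk'_apply, _root_.QuotientGroup.mk_mul] using this
    · intro h
      have h1 : (x : G ⧸ Z) * u * (x : G ⧸ Z)⁻¹ = (u : G ⧸ Z) ^ 1 := by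
        have h2 : (x : G ⧸ Z) * u = u * x := h
        rw [h2, mul_inv_cancel_right, pow_one]
      have h2 := comm_of_comm hZ hZp hu h1
      rw [pow_one, mul_inv_eq_iff_eq_mul] at h2
      exact h2
  have hnorm : normalizer ((P : Subgroup G) : Set G) =
      (normalizer ((zpowers (u : G ⧸ Z) : Subgroup (G ⧸ Z)) : Set (G ⧸ Z))).comap (QuotientGroup.mk' Z) := by
    have hPm : (P : Subgroup G).map (QuotientGroup.mk' Z) = zpowers (u : G ⧸ Z) := by
      rw [hPz, MonoidHom.map_zpowers]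
      rfl
    apply le_antisymm
    · intro x hx
      rw [mem_comap, ← hPm]
      exact Subgroup.le_normalizer_map _ (_root_.Subgroup.mem_map_of_mem _ hx)
    · intro x hx
      rw [mem_comap] at hx
      have h1 : (x : G ⧸ Z) * u * (x : G ⧸ Z)⁻¹ ∈ zpowers (u : G ⧸ Z) :=
        (mem_normalizer_iff.1 hx (u : G ⧸ Z)).1 (mem_zpowers _)
      obtain ⟨j, hj⟩ := mem_powers_iff_mem_zpowers.2 h1
      have h2 := comm_of_comm hZ hZp hu (x := x) (j := j) hj.symm
      refine mem_normalizer_fintype fun n hn => ?_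
      have hn' : n ∈ zpowers u := by rw [← hPz]; exact hn
      obtain ⟨i, rfl⟩ := mem_powers_iff_mem_zpowers.2 hn'
      show x * u ^ i * x⁻¹ ∈ (P : Subgroup G)
      rw [← conj_pow, h2, hPz]
      exact pow_mem (pow_mem (mem_zpowers u) j) i
  have hcC : Nat.card (centralizer ((P : Subgroup G) : Set G)) = p * k * Nat.card Z := by
    rw [hcent, card_comap, hC]
  have hcN : Nat.card (normalizer ((P : Subgroup G) : Set G)) = w * (p * k) * Nat.card Z := by
    rw [hnorm, card_comap, hN]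
  have hcK : Nat.card K = k * Nat.card Z := by
    have h1 : Nat.card P * Nat.card K = Nat.card (centralizer ((P : Subgroup G) : Set G)) := by
      rw [← Nat.card_prod]
      exact Nat.card_congr (_root_.Cfsg.Agent.SmallSimple.ThetaSetup.prodEquiv hK hP).toEquiv
    rw [hP, hcC, mul_assoc] at h1
    exact Nat.eq_of_mul_eq_mul_left hp.pos h1
  have hZK : Z ≤ K := by
    intro z hz
    rw [hK]
    refine ⟨?_, fun h => hZp ?_⟩
    · rw [mem_centralizer_iff]
      intro g _
      exact mem_center_iff.1 (hZ hz) g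
    · have h1 := _root_.orderOf_dvd_natCard (⟨z, hz⟩ : Z)
      rw [← orderOf_submonoid] at h1
      exact h.trans h1
  have hk0 : 0 < k := by
    rcases Nat.eq_zero_or_pos k with h | h
    · rw [h, zero_mul] at hcK
      exact absurd hcK Nat.card_pos.ne'
    · exact h
  have hw : (centralizer ((P : Subgroup G) : Set G)).relIndex (normalizer ((P : Subgroup G) : Set G)) = w := by
    have h1 : centralizer ((P : Subgroup G) : Set G) ≤ normalizer ((P : Subgroup G) : Set G) :=
      centralizer_le_normalizer _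
    have h2 := Subgroup.card_mul_index ((centralizer ((P : Subgroup G) : Set G)).subgroupOf
      (normalizer ((P : Subgroup G) : Set G)))
    rw [Nat.card_congr (subgroupOfEquivOfLe h1).toEquiv, hcC, hcN] at h2
    have h3 : 0 < p * k * Nat.card Z := Nat.mul_pos (Nat.mul_pos hp.pos hk0) Nat.card_pos
    rw [Subgroup.relIndex]
    apply Nat.eq_of_mul_eq_mul_left h3
    rw [h2]
    ring
  have hfK : Finite (IrrCharacter K) := finite_irr
  have := Fintype.ofFinite (IrrCharacter K)
  set A : Finset (IrrCharacter K) := univ.filter fun θ => LiesK Z c K (θ : K → ℂ) with hA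
  have hKC : (K.map (QuotientGroup.mk' Z)) ≤ centralizer ({(u : G ⧸ Z)} : Set (G ⧸ Z)) := by
    rw [map_le_iff_le_comap, ← hcent]
    intro x hx
    rw [hK] at hx
    exact hx.1
  have hKm : Nat.card (K.map (QuotientGroup.mk' Z)) = k := by
    have h1 : (K.map (QuotientGroup.mk' Z)).comap (QuotientGroup.mk' Z) = K := by
      rw [comap_map_eq, QuotientGroup.ker_mk', sup_eq_left.2 hZK]
    have h2 := card_comap (Z := Z) (K.map (QuotientGroup.mk' Z))
    rw [h1, hcK] at h2
    exact (Nat.eq_of_mul_eq_mul_right Nat.card_pos h2).symm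
  have hAk : A.card ≤ k' := (card_liesK_le2 hZ hZK c A fun θ hθ => (mem_filter.1 hθ).2).trans (hk' _ hKC hKm)
  have hsum : ∑ θ ∈ A, (Nat.card (stabAct hK (θ : K → ℂ)) ^ 2 + (p - 1)) ≤ k' * (w ^ 2 + (p - 1)) := by
    have hw0 : 0 < w := by
      rcases Nat.eq_zero_or_pos w with h | h
      · rw [h, zero_mul, zero_mul] at hcN
        exact absurd hcN Nat.card_pos.ne'
      · exact h
    calc ∑ θ ∈ A, (Nat.card (stabAct hK (θ : K → ℂ)) ^ 2 + (p - 1)) ≤ ∑ _θ ∈ A, (w ^ 2 + (p - 1)) := by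
          refine Finset.sum_le_sum fun θ _ => Nat.add_le_add_right (Nat.pow_le_pow_left ?_ 2) _
          have h1 := card_stabAct_mul_card_orb hK hP θ.2
          rw [hw] at h1
          exact Nat.le_of_dvd hw0 (h1 ▸ dvd_mul_right _ _)
      _ = A.card * (w ^ 2 + (p - 1)) := by rw [Finset.sum_const, smul_eq_mul]
      _ ≤ k' * (w ^ 2 + (p - 1)) := Nat.mul_le_mul_right _ hAk
  obtain ⟨χ, hl, h0⟩ := exists_dz2 hK hP hZ hZK c hw A (fun θ hθ => mem_filter.2 ⟨mem_univ _, hθ⟩) F hF
    (lt_of_le_of_lt hsum hlt)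
  refine ⟨χ, hl, ?_⟩
  obtain ⟨d, hd⟩ := exists_degree_eq (P : Subgroup G) (isIrr_isCharacter χ.2) fun x hx hx1 => h0 x (by
    rw [Blocks.CyclicOrtho.orderOf_eq P hP hx hx1])
  rw [hP] at hd
  refine ⟨d, ?_⟩
  have h1 : ((charDegree (χ : G → ℂ) : ℕ) : ℂ) = ((p * d : ℕ) : ℂ) := by
    obtain ⟨n, hn⟩ := isCharacter_apply_one (isIrr_isCharacter χ.2)
    unfold charDegree
    rw [hn, Complex.natCast_re, Nat.floor_natCast, ← hn, hd]
    push_cast
    ring
  exact_mod_cast h1

end quot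

/-- **The refined count as `NB p m S`.** -/
theorem nb_of_dz2 {p m : ℕ} [Fact p.Prime] {S : Type u} [Group S] [Finite S] (hpm : ¬ p ∣ m)
    (hsq : ¬ p ^ 2 ∣ Nat.card S) {y : S} (hy : orderOf y = p) {k w k' : ℕ}
    (hC : Nat.card (centralizer ({y} : Set S)) = p * k)
    (hN : Nat.card (normalizer ((zpowers y : Subgroup S) : Set S)) = w * (p * k))
    (hk' : ∀ H : Subgroup S, H ≤ centralizer ({y} : Set S) → Nat.card H = k → Nat.card (ConjClasses H) ≤ k')
    {n : ℕ} (g : Fin n → S)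
    (hg : ∀ i, (orderOf (g i)).Coprime m ∨ centralizer ({g i} : Set S) ≤ zpowers (g i))
    (hinj : ∀ i j, IsConj (g i) (g j) → i = j)
    (hlt : k' * (w ^ 2 + (p - 1)) < w * n) : NB p m S := by
  classical
  intro E _ _ π hπ hcen _ hm l _
  let f : E ⧸ π.ker ≃* S := QuotientGroup.quotientKerEquivOfSurjective π hπ
  have hinj' : Function.Injective fun i : Fin n => ConjClasses.mk (f.symm (g i)) := by
    intro i j h
    apply hinj
    have h1 := ConjClasses.mk_eq_mk_iff_isConj.1 h
    have h2 := f.toMonoidHom.map_isConj h1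
    simpa only [_root_.isConj_iff, _root_.MulEquiv.toMonoidHom_eq_coe, _root_.MonoidHom.coe_coe, _root_.MulEquiv.apply_symm_apply] using h2
  have hcs : ∀ (s : S) (x : E ⧸ π.ker), x ∈ centralizer ({f.symm s} : Set (E ⧸ π.ker)) ↔
      f x ∈ centralizer ({s} : Set S) := by
    intro s x
    rw [mem_centralizer_singleton_iff, mem_centralizer_singleton_iff]
    constructor
    · intro h
      have := congrArg f h
      simpa only [_root_.map_mul, _root_.MulEquiv.apply_symm_apply] using this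
    · intro h
      apply f.injective
      simpa using h
  have hC' : Nat.card (centralizer ({f.symm y} : Set (E ⧸ π.ker))) = p * k := by
    rw [← hC]
    exact Nat.card_congr (f.toEquiv.subtypeEquiv fun x => hcs y x)
  have hmap : ∀ s : S, (zpowers (f.symm s)).map f.toMonoidHom = zpowers s := by
    intro s
    rw [MonoidHom.map_zpowers]
    congr 1
    exact f.apply_symm_apply s
  have key : ∀ (s : S) (h : E ⧸ π.ker), h ∈ zpowers (f.symm s) ↔ f h ∈ zpowers s := by
    intro s h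
    rw [← hmap]
    exact ⟨fun h1 => _root_.Subgroup.mem_map_of_mem _ h1, fun ⟨a, ha, hb⟩ => by
      have : a = h := f.injective hb
      exact this ▸ ha⟩
  have hN' : Nat.card (normalizer ((zpowers (f.symm y) : Subgroup (E ⧸ π.ker)) : Set (E ⧸ π.ker))) = w * (p * k) := by
    rw [← hN]
    refine Nat.card_congr (f.toEquiv.subtypeEquiv fun x => ?_)
    show x ∈ normalizer ((zpowers (f.symm y) : Subgroup (E ⧸ π.ker)) : Set (E ⧸ π.ker)) ↔
      f x ∈ normalizer ((zpowers y : Subgroup S) : Set S)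
    rw [mem_normalizer_iff, mem_normalizer_iff]
    constructor
    · intro h a
      have := h (f.symm a)
      rw [key, key] at this
      simpa only [_root_.MulEquiv.apply_symm_apply, _root_.map_mul, _root_.map_inv] using this
    · intro h a
      rw [key, key, map_mul, map_mul, map_inv]
      exact h (f a)
  have hy' : orderOf (f.symm y) = p := by
    rw [← hy]
    exact orderOf_injective f.symm.toMonoidHom f.symm.injective y
  have hk2 : ∀ H : Subgroup (E ⧸ π.ker), H ≤ centralizer ({f.symm y} : Set (E ⧸ π.ker)) → Nat.card H = k →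
      Nat.card (ConjClasses H) ≤ k' := by
    intro H hH hc
    have h1 : H.map f.toMonoidHom ≤ centralizer ({y} : Set S) := by
      rintro _ ⟨x, hx, rfl⟩
      exact (hcs y x).1 (hH hx)
    have h2 : Nat.card (H.map f.toMonoidHom) = k := by
      rw [Nat.card_congr (H.equivMapOfInjective f.toMonoidHom f.injective).symm.toEquiv, hc]
    have h3 := hk' _ h1 h2
    refine le_trans ?_ h3
    let e : H ≃* H.map f.toMonoidHom := H.equivMapOfInjective f.toMonoidHom f.injective
    have : Finite (ConjClasses (H.map f.toMonoidHom)) :=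
      Finite.of_surjective _ (ConjClasses.mk_surjective (α := H.map f.toMonoidHom))
    refine Nat.card_le_card_of_surjective (ConjClasses.map e.symm.toMonoidHom) ?_
    exact ConjClasses.map_surjective e.symm.surjective
  obtain ⟨χ, hl, hd⟩ := exists_dz_quot2 (p := p) hcen (by rw [hm]; exact hpm)
    (by rw [Nat.card_congr f.toEquiv]; exact hsq) hy' hC' hN' hk2 l
    (Finset.univ.image fun i : Fin n => ConjClasses.mk (f.symm (g i))) (by
      intro C hC
      obtain ⟨i, -, rfl⟩ := Finset.mem_image.1 hC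
      refine ⟨_, rfl, ?_⟩
      rw [hm, show orderOf (f.symm (g i)) = orderOf (g i) from orderOf_injective f.symm.toMonoidHom f.symm.injective _]
      rcases hg i with h | h
      · exact Or.inl h
      · right
        intro x hx
        rw [key]
        exact h ((hcs _ x).1 hx)) (by
      rw [Finset.card_image_of_injective _ hinj', Finset.card_univ, Fintype.card_fin]
      exact hlt)
  refine ⟨χ, χ.2, fun z => ?_, hd⟩
  have := hl 1 z
  rwa [one_mul] at this

end Cfsg.Agent.H57.RIM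
end

-- part: H57/RIM/JThreeFive
section
/-!
# S4816: the row `J3`, `p = 5` (helper57)

`C(y) = 5 × S3`; the complement has 3 classes, so at most 12 characters of full defect over a faithful character of the
center of `3.J3`; 14 classes are good (orders prime to 3, and the two self-centralizing classes of elements of order 15).
-/

set_option autoImplicit false

namespace Cfsg.Agent.H57.RIM.JThreeFive

open Cfsg Subgroup Cfsg.Agent.H665.RIM Cfsg.Agent.H306.RIM

universe u

variable {S : Type u} [Group S]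

/-- **`J3`, `p = 5`** -/
theorem nball_five [Finite S] (h : Spor.IsoJ3 S) : NBall 5 S := by
  have hcard := (Cfsg.Agent.H898.J3Cent.base h).2.1
  have f2 : Fact (Nat.Prime 2) := ⟨Nat.prime_two⟩
  have f3 : Fact (Nat.Prime 3) := ⟨Nat.prime_three⟩
  have f5 : Fact (Nat.Prime 5) := ⟨by norm_num⟩
  obtain ⟨g, ho, hg⟩ := Cfsg.Agent.H306.RIM.JThree.exists_elts h
  obtain ⟨y, hy⟩ := exists_prime_orderOf_dvd_card' (G := S) 5 (by rw [hcard]; norm_num)
  have hC := Cfsg.Agent.H153.RM.j3_five h hy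
  -- the normalizer
  obtain ⟨hN, hc2⟩ : Nat.card (normalizer ((zpowers y : Subgroup S) : Set S)) = 2 * (5 * 6) ∧ ¬ IsConj y (y ^ 2) := by
    obtain ⟨e, he, hN, hi, hc⟩ := H306.QA.exists_card_normalizer' Nat.prime_five hy (by rw [hcard]; norm_num)
    have he' : e ≤ 4 := Nat.le_of_dvd (by norm_num) he
    rw [hC, hcard] at hc
    set s := (normalizer ((zpowers y : Subgroup S) : Set S)).index with hs
    have h2 : e * s = 1674432 := by
      have h4 : 30 * (e * s) = 50232960 := by rw [← hc]; ring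
      omega
    have h3 : (e * (s % 5)) % 5 = 2 := by rw [Nat.mul_mod_mod, h2]
    rw [hi, mul_one] at h3
    have h4 : e = 2 := by omega
    subst h4
    refine ⟨?_, not_conj hy (e := 2) hN (by norm_num)⟩
    rw [hN, hC]
  -- elements of order 3 and 2 in the centralizer
  have hnc : ∀ a b : S, orderOf a = 3 → orderOf b = 2 → Commute a y → Commute b y → ¬ Commute a b := by
    intro a b ha hb hay hby hab
    apply H724.IMJThree.no_thirty h (a * b * y)
    have h1 : orderOf (a * b) = 6 := by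
      rw [hab.orderOf_mul_eq_mul_orderOf_of_coprime (by rw [ha, hb]; norm_num), ha, hb]
    rw [(hay.mul_left hby).orderOf_mul_eq_mul_orderOf_of_coprime (by rw [h1, hy]; norm_num), h1, hy]
  obtain ⟨⟨t, ht⟩, hto⟩ := exists_prime_orderOf_dvd_card' (G := centralizer ({y} : Set S)) 3 (by rw [hC]; norm_num)
  rw [Subgroup.orderOf_mk] at hto
  have hty : Commute t y := mem_centralizer_singleton_iff.1 ht
  -- self-centralizing elements of order 15
  have h15 : ∀ i : ℕ, orderOf (y ^ i) = 5 → orderOf (t * y ^ i) = 15 ∧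
      centralizer ({t * y ^ i} : Set S) ≤ zpowers (t * y ^ i) := by
    intro i hi
    have hc : Commute t (y ^ i) := hty.pow_right i
    have h1 : orderOf (t * y ^ i) = 15 := by
      rw [hc.orderOf_mul_eq_mul_orderOf_of_coprime (by rw [hto, hi]; norm_num), hto, hi]
    refine ⟨h1, ?_⟩
    set x := t * y ^ i with hx
    -- `y` is a power of `x`
    have hyx : y ∈ zpowers x := by
      have h2 : y ^ i ∈ zpowers x := by
        have h3 : x ^ 6 = y ^ i := by
          have h4 : t ^ 6 = 1 := orderOf_dvd_iff_pow_eq_one.1 (by rw [hto]; norm_num)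
          have h5 : (y ^ i) ^ 5 = 1 := orderOf_dvd_iff_pow_eq_one.1 (by rw [hi])
          rw [hx, hc.mul_pow, h4, one_mul, show 6 = 5 + 1 from rfl, pow_succ, h5, one_mul]
        rw [← h3]
        exact pow_mem (mem_zpowers x) 6
      have h3 : zpowers (y ^ i) = zpowers y := by
        apply eq_of_le_of_card_ge
        · rw [zpowers_le]
          exact pow_mem (mem_zpowers y) i
        · rw [Nat.card_zpowers, Nat.card_zpowers, hi, hy]
      have h4 : y ∈ zpowers (y ^ i) := by rw [h3]; exact mem_zpowers y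
      exact (zpowers_le.2 h2) h4
    have hCx : centralizer ({x} : Set S) ≤ centralizer ({y} : Set S) := by
      intro w hw
      rw [mem_centralizer_singleton_iff] at hw ⊢
      obtain ⟨k, hk⟩ := mem_zpowers_iff.1 hyx
      rw [← hk]
      exact (show Commute w x from hw).zpow_right k
    have hzx : zpowers x ≤ centralizer ({x} : Set S) := by
      rw [zpowers_le]
      exact mem_centralizer_singleton_iff.2 rfl
    have h2 : Nat.card (centralizer ({x} : Set S)) ∣ 30 := by
      rw [← hC]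
      exact card_dvd_of_le hCx
    have h3 : 15 ∣ Nat.card (centralizer ({x} : Set S)) := by
      rw [← h1, ← Nat.card_zpowers]
      exact card_dvd_of_le hzx
    have h4 : ¬ 2 ∣ Nat.card (centralizer ({x} : Set S)) := by
      intro h5
      obtain ⟨⟨b, hb⟩, hbo⟩ := exists_prime_orderOf_dvd_card' (G := centralizer ({x} : Set S)) 2 h5
      rw [Subgroup.orderOf_mk] at hbo
      have hby : Commute b y := mem_centralizer_singleton_iff.1 (hCx hb)
      have hbx : Commute b x := mem_centralizer_singleton_iff.1 hb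
      refine hnc t b hto hbo hty hby ?_
      have h6 : t = x * (y ^ i)⁻¹ := by rw [hx]; group
      rw [h6]
      exact (hbx.mul_right (hby.pow_right i).inv_right).symm
    have h5 : Nat.card (centralizer ({x} : Set S)) = 15 := by
      obtain ⟨k, hk⟩ := h3
      rw [hk] at h2 h4 ⊢
      have h6 : k ∣ 2 := Nat.dvd_of_mul_dvd_mul_left (show 0 < 15 by norm_num) h2
      rcases (Nat.dvd_prime Nat.prime_two).1 h6 with rfl | rfl
      · rfl
      · exact absurd (by norm_num) h4
    have h6 : zpowers x = centralizer ({x} : Set S) := by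
      apply eq_of_le_of_card_ge hzx
      rw [h5, Nat.card_zpowers, h1]
    rw [← h6]
  obtain ⟨ho15, hc15⟩ := h15 1 (by rw [pow_one]; exact hy)
  set x := t * y ^ 1 with hx
  -- the classes
  have ne : ∀ i, orderOf x ≠ orderOf (g i) := by
    intro i
    rw [ho15, ho]
    revert i
    decide
  -- the complement has 3 classes
  have hk : ∀ H : Subgroup S, H ≤ centralizer ({y} : Set S) → Nat.card H = 6 → Nat.card (ConjClasses H) ≤ 3 := by
    intro H hH hc
    refine card_conj_six hc ?_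
    obtain ⟨a, ha⟩ := exists_prime_orderOf_dvd_card' (G := H) 3 (by rw [hc]; norm_num)
    obtain ⟨b, hb⟩ := exists_prime_orderOf_dvd_card' (G := H) 2 (by rw [hc]; norm_num)
    refine ⟨a, b, fun hab => ?_⟩
    exact hnc a b (by rw [orderOf_coe, ha]) (by rw [orderOf_coe, hb]) (mem_centralizer_singleton_iff.1 (hH a.2))
      (mem_centralizer_singleton_iff.1 (hH b.2)) (congrArg Subtype.val hab)
  refine JThree.nball_of_three h (nb_of_dz2 (by norm_num) (by rw [hcard]; norm_num) hy (k := 6) (w := 2) (k' := 3)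
    (by rw [hC]) hN hk (Fin.cons x g : Fin 13 → S) ?_ ?_ (by norm_num))
  · intro i
    refine Fin.cases ?_ (fun i => ?_) i
    · right
      rw [Fin.cons_zero]
      exact hc15
    · left
      rw [Fin.cons_succ, ho]
      exact JThree.ords_cop i
  · intro i j
    refine Fin.cases ?_ (fun i => ?_) i <;> refine Fin.cases ?_ (fun j => ?_) j
    · intro _
      rfl
    · intro hij
      rw [Fin.cons_zero, Fin.cons_succ] at hij
      exact absurd (order_isConj hij) (ne j)
    · intro hij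
      rw [Fin.cons_zero, Fin.cons_succ] at hij
      exact absurd (order_isConj hij).symm (ne i)
    · intro hij
      rw [Fin.cons_succ, Fin.cons_succ] at hij
      rw [hg i j hij]

end Cfsg.Agent.H57.RIM.JThreeFive
end

-- part: H325/RIM/Fill/K
section
/-!
# S4816: fields `hs`, `suz` of `RowsNB`, `j3`, `suz` of `RowsKill` (helper325)
-/

set_option autoImplicit false
set_option linter.unusedSectionVars false

namespace Cfsg.Agent.H325.RIM

open Cfsg Cfsg.Agent.H665.RIM Cfsg.Agent.OrdDiv Cfsg.Agent.H436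

universe u

theorem f_hs : NBRow 5 .hs := fun _ _ _ hS _ => H382.RIM.HS.row hS.real

theorem f_suz : NBRow 3 .suz := fun _ _ _ hS _ => H759.RIM.SuzRow.nball_three hS.real

theorem k_j3 : ∀ p : ℕ, p = 5 ∨ p = 17 ∨ p = 19 → KillRow.{u} p .j3 := by
  rintro p (rfl | rfl | rfl) S _ _ hS
  · exact Or.inl (H57.RIM.JThreeFive.nball_five hS.real)
  · exact Or.inl (H306.RIM.JThree.nball_seventeen hS.real)
  · exact Or.inl (H306.RIM.JThree.nball_nineteen hS.real)

theorem k_suz : ∀ p : ℕ, p = 5 ∨ p = 7 ∨ p = 11 ∨ p = 13 → KillRow.{u} p .suz := by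
  rintro p (rfl | rfl | rfl | rfl) S _ _ hS
  · exact Or.inl (H759.RIM.SuzRow.nball_five hS.real)
  · exact Or.inl (H759.RIM.SuzRow.nball_seven hS.real)
  · exact Or.inl (H714.RIM.SuzRow.nball_eleven hS.real)
  · exact Or.inl (H714.RIM.SuzRow.nball_thirteen hS.real)

end Cfsg.Agent.H325.RIM
end

private theorem dce_95bf2cce1f55 : _root_.True := by
  try have : _root_.True := by simp only [_root_.Cfsg.Agent.H382.RIM.HSG.pw.eq_1]
  try have : _root_.True := by simp only [_root_.Cfsg.Agent.H382.RIM.HSG.cz.eq_1]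
  try have : _root_.True := by simp only [_root_.Cfsg.Agent.H382.RIM.HSG.pw.eq_2]
  try have : _root_.True := by simp only [_root_.Cfsg.Agent.H382.RIM.HSG.pw.eq_def]
  exact _root_.True.intro
end

-- part: H620/RIM/SporA
section
prune_inst 0x315202904052210000000001230000004240000900000000098e20444000672020000000040000c0810028000000401081144002082000000000000000001012018028204d0890000220010803006410000000000000000000000000000041000004010000
set_option linter.all false
open scoped Cfsg.Agent.FastGrp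

-- part: H257/RIM/ATool
section
/-!
# S4816 (RIM), module side: the "A-tool" for elementary abelian 2-subgroups (helper257)

`A ≤ H` a finite abelian group of exponent two, given by elements `el i` (`i : I`) and real characters `ch c` (`c : C`), `P` a
Sylow `p`-subgroup normalizing `A`, `N` a subgroup normalizing `P`.  If the non-trivial characters are permuted transitively by
elements normalizing `A` and every character is `P`-conjugate to one in `R`, then every `V` as in `NoPEx` has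
`|V : C_V(P)| ≥ p ^ (|C| - |R|)`; on the other hand `|V : C_V(P)| ≤ |H : N|`.

**`noPEx_of_atool`**, **`ek_of_noPEx`** (the case of a multiplier of prime order).
-/

set_option autoImplicit false
set_option linter.unusedSectionVars false

namespace Cfsg.Agent.H257.RIM

open Cfsg Cfsg.Agent.H665.RIM Cfsg.Agent.H229.RIM
open scoped commutatorElement

universe u

section proj

variable {H V I : Type*} [Group H] [AddCommGroup V] [DistribMulAction H V] [Fintype I]

/-- the (not normalized) projection -/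
def E (el : I → H) (f : I → ℤ) : V →+ V where
  toFun v := ∑ i, f i • (el i • v)
  map_zero' := by simp only [_root_.smul_zero, _root_.Finset.sum_const_zero]
  map_add' a b := by simp only [smul_add, Finset.sum_add_distrib]

theorem E_apply (el : I → H) (f : I → ℤ) (v : V) : E el f v = ∑ i, f i • (el i • v) := rfl

/-- `g` carries the character `f` to the character `f'` -/
def Rel (el : I → H) (g : H) (f f' : I → ℤ) : Prop :=
  ∃ σ : I → I, Function.Bijective σ ∧ (∀ i, el (σ i) * g = g * el i) ∧ ∀ i, f' (σ i) = f i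

theorem Rel.refl (el : I → H) (f : I → ℤ) : Rel el 1 f f :=
  ⟨id, Function.bijective_id, fun i => by rw [id, mul_one, one_mul], fun _ => rfl⟩

theorem Rel.trans {el : I → H} {g h : H} {f f' f'' : I → ℤ} (h1 : Rel el g f f') (h2 : Rel el h f' f'') :
    Rel el (h * g) f f'' := by
  obtain ⟨σ, hσ, a1, a2⟩ := h1
  obtain ⟨τ, hτ, b1, b2⟩ := h2
  refine ⟨τ ∘ σ, hτ.comp hσ, fun i => ?_, fun i => ?_⟩
  · rw [Function.comp_apply, ← mul_assoc, b1, mul_assoc, a1, mul_assoc]
  · rw [Function.comp_apply, b2, a2]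

theorem Rel.symm {el : I → H} {g : H} {f f' : I → ℤ} (h1 : Rel el g f f') : Rel el g⁻¹ f' f := by
  obtain ⟨σ, hσ, a1, a2⟩ := h1
  let e := Equiv.ofBijective σ hσ
  have he : ∀ i, σ (e.symm i) = i := fun i => e.apply_symm_apply i
  refine ⟨e.symm, e.symm.bijective, fun i => ?_, fun i => ?_⟩
  · have h2 := a1 (e.symm i)
    rw [he] at h2
    have h3 : g⁻¹ * (el i * g) * g⁻¹ = g⁻¹ * (g * el (e.symm i)) * g⁻¹ := by rw [h2]
    rw [inv_mul_cancel_left, mul_assoc, mul_inv_cancel_right] at h3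
    exact h3.symm
  · have h2 := a2 (e.symm i)
    rw [he] at h2
    exact h2.symm

theorem E_conj {el : I → H} {g : H} {f f' : I → ℤ} (h : Rel el g f f') (v : V) :
    g • E el f v = E el f' (g • v) := by
  obtain ⟨σ, hσ, h1, h2⟩ := h
  rw [E_apply, E_apply, Finset.smul_sum]
  rw [← Function.Bijective.sum_comp hσ (fun j => f' j • (el j • (g • v)))]
  refine Finset.sum_congr rfl fun i _ => ?_
  rw [h2, ← mul_smul, h1, mul_smul, smul_comm]

theorem E_act {el : I → H} {f : I → ℤ} {m : I → I → I} (hm : ∀ j, Function.Bijective (m j))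
    (h1 : ∀ j i, el (m j i) = el j * el i) (h2 : ∀ j i, f (m j i) = f j * f i) (h3 : ∀ j, f j * f j = 1)
    (j : I) (v : V) : el j • E el f v = f j • E el f v := by
  rw [E_apply, Finset.smul_sum]
  rw [← Function.Bijective.sum_comp (hm j) (fun i => f i • (el i • v)), Finset.smul_sum]
  refine Finset.sum_congr rfl fun i _ => ?_
  rw [h1, h2, ← mul_smul (f j), ← mul_assoc, h3, one_mul, smul_comm, mul_smul]

theorem E_E {el : I → H} {f : I → ℤ} {m : I → I → I} (hm : ∀ j, Function.Bijective (m j))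
    (h1 : ∀ j i, el (m j i) = el j * el i) (h2 : ∀ j i, f (m j i) = f j * f i) (h3 : ∀ j, f j * f j = 1)
    (f' : I → ℤ) (v : V) : E el f' (E el f v) = (∑ i, f' i * f i) • E el f v := by
  rw [E_apply, Finset.sum_smul]
  refine Finset.sum_congr rfl fun i _ => ?_
  rw [E_act hm h1 h2 h3, mul_smul]

end proj

/-- the elementary abelian group and its characters -/
structure AData {H : Type*} [Group H] {I C : Type} [Fintype I] [Fintype C] [DecidableEq I] [DecidableEq C]
    (el : I → H) (ch : C → I → ℤ) (m : I → I → I) (i0 : I) (c0 : C) (n : ℕ) : Prop where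
  hm : ∀ j, Function.Bijective (m j)
  el0 : el i0 = 1
  elm : ∀ j i, el (m j i) = el j * el i
  chm : ∀ c j i, ch c (m j i) = ch c j * ch c i
  chs : ∀ c j, ch c j * ch c j = 1
  ch0 : ∀ i, ch c0 i = 1
  orth : ∀ c c', (∑ i, ch c i * ch c' i) = if c = c' then (n : ℤ) else 0
  orth' : ∀ i, (∑ c, ch c i) = if i = i0 then (n : ℤ) else 0

section count

variable {p : ℕ} [Fact p.Prime] {H V : Type*} [Group H] [Finite H] [AddCommGroup V] [Finite V] [DistribMulAction H V]
  {I C : Type} [Fintype I] [Fintype C] [DecidableEq I] [DecidableEq C]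
  {el : I → H} {ch : C → I → ℤ} {m : I → I → I} {i0 : I} {c0 : C} {n : ℕ}

theorem sum_E (h : AData el ch m i0 c0 n) (v : V) : ∑ c, E el (ch c) v = (n : ℤ) • v := by
  simp only [E_apply]
  rw [Finset.sum_comm]
  have h1 : ∀ i : I, (∑ c, ch c i • (el i • v)) = if i = i0 then (n : ℤ) • v else 0 := by
    intro i
    rw [← Finset.sum_smul, h.orth']
    by_cases hi : i = i0
    · rw [if_pos hi, if_pos hi, hi, h.el0, one_smul]
    · rw [if_neg hi, if_neg hi, zero_smul]
  rw [Finset.sum_congr rfl fun i _ => h1 i, Finset.sum_ite_eq' Finset.univ i0, if_pos (Finset.mem_univ _)]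

theorem smul_inj (hV : ∀ v : V, p • v = 0) (hn : ¬ p ∣ n) {v w : V} (h : (n : ℤ) • v = (n : ℤ) • w) : v = w := by
  have hp : p.Prime := Fact.out
  have h1 : IsCoprime (p : ℤ) (n : ℤ) := Nat.isCoprime_iff_coprime.2 ((Nat.Prime.coprime_iff_not_dvd hp).2 hn)
  obtain ⟨a, b, hab⟩ := h1
  have h2 : ∀ u : V, (b * (n : ℤ)) • u = u := by
    intro u
    have h3 : (a * (p : ℤ)) • u = 0 := by rw [mul_smul, natCast_zsmul, hV, smul_zero]
    calc (b * (n : ℤ)) • u = (a * (p : ℤ)) • u + (b * (n : ℤ)) • u := by rw [h3, zero_add]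
      _ = u := by rw [← add_smul, hab, one_smul]
  rw [← h2 v, ← h2 w, mul_smul, mul_smul, h]

theorem smul_surj (hV : ∀ v : V, p • v = 0) (hn : ¬ p ∣ n) : ∃ b : ℤ, ∀ u : V, b • ((n : ℤ) • u) = u := by
  have hp : p.Prime := Fact.out
  have h1 : IsCoprime (p : ℤ) (n : ℤ) := Nat.isCoprime_iff_coprime.2 ((Nat.Prime.coprime_iff_not_dvd hp).2 hn)
  obtain ⟨a, b, hab⟩ := h1
  refine ⟨b, fun u => ?_⟩
  have h3 : (a * (p : ℤ)) • u = 0 := by rw [mul_smul, natCast_zsmul, hV, smul_zero]
  calc b • ((n : ℤ) • u) = (a * (p : ℤ)) • u + (b * (n : ℤ)) • u := by rw [h3, zero_add, mul_smul]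
    _ = u := by rw [← add_smul, hab, one_smul]

theorem inj_of (h : AData el ch m i0 c0 n) (hV : ∀ v : V, p • v = 0) (hn : ¬ p ∣ n) {v w : V}
    (hvw : ∀ c, E el (ch c) v = E el (ch c) w) : v = w := by
  refine smul_inj hV hn (n := n) ?_
  rw [← sum_E h, ← sum_E h]
  exact Finset.sum_congr rfl fun c _ => hvw c

theorem E_E' (h : AData el ch m i0 c0 n) (c c' : C) (v : V) :
    E el (ch c) (E el (ch c') v) = if c = c' then (n : ℤ) • E el (ch c') v else 0 := by
  rw [E_E h.hm h.elm (h.chm c') (h.chs c'), h.orth]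
  by_cases hc : c = c'
  · rw [if_pos hc, if_pos hc]
  · rw [if_neg hc, if_neg hc, zero_smul]

/-- the decomposition of `V` -/
theorem card_V (h : AData el ch m i0 c0 n) (hV : ∀ v : V, p • v = 0) (hn : ¬ p ∣ n) :
    Nat.card V = ∏ c, Nat.card (E (V := V) el (ch c)).range := by
  rw [← Nat.card_pi]
  refine Nat.card_congr (Equiv.ofBijective
    (fun v c => (⟨E el (ch c) v, v, rfl⟩ : (E (V := V) el (ch c)).range)) ⟨?_, ?_⟩)
  · intro v w hvw
    refine inj_of h hV hn fun c => ?_
    exact congrArg Subtype.val (congrFun hvw c)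
  · intro w
    choose u hu using fun c => (w c).2
    obtain ⟨b, hb⟩ := smul_surj (V := V) hV hn
    refine ⟨b • ∑ c, E el (ch c) (u c), funext fun c => Subtype.ext ?_⟩
    change E el (ch c) (b • ∑ c', E el (ch c') (u c')) = w c
    rw [map_zsmul, map_sum, Finset.sum_congr rfl fun c' _ => E_E' h c c' (u c'),
      Finset.sum_ite_eq Finset.univ c, if_pos (Finset.mem_univ _), hb, hu]

/-- the fixed points of a set of elements -/
def Fx (V : Type*) [AddCommGroup V] [DistribMulAction H V] (P : Subgroup H) : Set V := {v | ∀ g ∈ P, g • v = v}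

theorem card_Fx_le (h : AData el ch m i0 c0 n) (hV : ∀ v : V, p • v = 0) (hn : ¬ p ∣ n) (P : Subgroup H) (R : Finset C)
    (hR : ∀ c, ∃ r ∈ R, ∃ g ∈ P, Rel el g (ch r) (ch c)) :
    Nat.card (Fx V P) ≤ ∏ c ∈ R, Nat.card (E (V := V) el (ch c)).range := by
  rw [← Finset.prod_coe_sort R (fun c => Nat.card (E (V := V) el (ch c)).range), ← Nat.card_pi]
  refine Nat.card_le_card_of_injective
    (fun v (c : R) => (⟨E el (ch c) (v : V), v, rfl⟩ : (E (V := V) el (ch c)).range)) ?_
  intro v w hvw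
  refine Subtype.ext (inj_of h hV hn fun c => ?_)
  obtain ⟨r, hr, g, hg, hrel⟩ := hR c
  have h1 : E el (ch r) (v : V) = E el (ch r) (w : V) := congrArg Subtype.val (congrFun hvw ⟨r, hr⟩)
  have h2 := E_conj hrel (v : V)
  have h3 := E_conj hrel (w : V)
  rw [v.2 g hg] at h2
  rw [w.2 g hg] at h3
  rw [← h2, ← h3, h1]

/-- a proper part is not trivial -/
theorem le_card_range (h : AData el ch m i0 c0 n) (hV : ∀ v : V, p • v = 0) (hn : ¬ p ∣ n)
    (hf : ∀ g : H, (∀ v : V, g • v = v) → g = 1) (c1 : C) (hne : ∃ i, el i ≠ 1)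
    (hT' : ∀ c, c ≠ c0 → ∃ g, Rel el g (ch c1) (ch c)) (c : C) (hc : c ≠ c0) : p ≤ Nat.card (E (V := V) el (ch c)).range := by
  have hT : ∀ c, c ≠ c0 → ∃ g, Rel el g (ch c) (ch c1) := by
    intro c hc
    obtain ⟨g, hg⟩ := hT' c hc
    exact ⟨g⁻¹, hg.symm⟩
  -- some `E c1 v` is not zero
  have h1 : ∃ v : V, E el (ch c1) v ≠ 0 := by
    by_contra hcon
    push Not at hcon
    obtain ⟨i, hi⟩ := hne
    apply hi
    apply hf
    intro v
    have h2 : ∀ c, c ≠ c0 → E el (ch c) v = 0 := by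
      intro c hc
      obtain ⟨g, hg⟩ := hT c hc
      have h3 := E_conj hg v
      rw [hcon] at h3
      have h4 : g⁻¹ • (g • E el (ch c) v) = g⁻¹ • (0 : V) := by rw [h3]
      rwa [inv_smul_smul, smul_zero] at h4
    have h5 : (n : ℤ) • v = E el (ch c0) v := by
      rw [← sum_E h v]
      exact Finset.sum_eq_single c0 (fun c _ hc => h2 c hc) (fun hc => absurd (Finset.mem_univ _) hc)
    have h6 : el i • ((n : ℤ) • v) = (n : ℤ) • v := by
      rw [h5, E_act h.hm h.elm (h.chm c0) (h.chs c0), h.ch0, one_smul]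
    rw [smul_comm] at h6
    exact smul_inj hV hn h6
  obtain ⟨v, hv⟩ := h1
  obtain ⟨g, hg⟩ := hT' c hc
  have h3 := E_conj hg v
  have h4 : E el (ch c) (g • v) ≠ 0 := by
    rw [← h3]
    intro h0
    apply hv
    have h4 : g⁻¹ • (g • E el (ch c1) v) = g⁻¹ • (0 : V) := by rw [h0]
    rwa [inv_smul_smul, smul_zero] at h4
  let x : (E (V := V) el (ch c)).range := ⟨E el (ch c) (g • v), g • v, rfl⟩
  have h5 : addOrderOf x = p := by
    refine addOrderOf_eq_prime ?_ ?_
    · exact Subtype.ext (hV _)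
    · intro h0
      exact h4 (congrArg Subtype.val h0)
  rw [← h5]
  exact Nat.le_of_dvd Nat.card_pos (addOrderOf_dvd_natCard x)

/-- the covering bound: every vector is fixed by a Sylow subgroup -/
theorem card_V_le (P : Sylow p H) (N : Subgroup H) (hN : ∀ x ∈ N, ∀ g ∈ P, x⁻¹ * g * x ∈ P)
    (hst : ∀ v : V, ¬ p ∣ (MulAction.stabilizer H v).index) :
    Nat.card V ≤ N.index * Nat.card (Fx V (P : Subgroup H)) := by
  have hcov : ∀ v : V, ∃ g : H, ∃ u ∈ Fx V (P : Subgroup H), v = g • u := by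
    intro v
    have h1 : ¬ p ∣ Nat.card (H ⧸ MulAction.stabilizer H v) := hst v
    obtain ⟨q, hq⟩ := P.2.nonempty_fixed_point_of_prime_not_dvd_card (H ⧸ MulAction.stabilizer H v) h1
    obtain ⟨g, rfl⟩ := QuotientGroup.mk_surjective q
    refine ⟨g⁻¹, g • v, ?_, by rw [inv_smul_smul]⟩
    intro x hx
    have h2 : (⟨x, hx⟩ : (P : Subgroup H)) • (g : H ⧸ MulAction.stabilizer H v) = g := hq ⟨x, hx⟩
    have h3 : ((x * g : H) : H ⧸ MulAction.stabilizer H v) = g := h2
    have h4 := QuotientGroup.eq.1 h3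
    have h5 : ((x * g)⁻¹ * g) • v = v := h4
    have h6 : (x * g) • v = g • v := by
      conv_lhs => rw [← h5]
      rw [← mul_smul, mul_inv_cancel_left]
    rw [← h6, mul_smul]
    rw [mul_smul] at h6
    rw [h6, h6]
  have hsurj : Function.Surjective (fun x : (H ⧸ N) × Fx V (P : Subgroup H) => (Quotient.out x.1 : H) • (x.2 : V)) := by
    intro v
    obtain ⟨g, u, hu, rfl⟩ := hcov v
    obtain ⟨y, hy⟩ := QuotientGroup.mk_out_eq_mul N g
    refine ⟨((g : H ⧸ N), ⟨(y : H)⁻¹ • u, ?_⟩), ?_⟩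
    · intro x hx
      have h1 : ((y : H)⁻¹)⁻¹ * x * (y : H)⁻¹ ∈ P := hN (y : H)⁻¹ (N.inv_mem y.2) x hx
      have h2 := hu _ h1
      rw [inv_inv] at h2
      rw [← mul_smul]
      have h3 : (y : H)⁻¹ • (((y : H) * x * (y : H)⁻¹) • u) = (y : H)⁻¹ • u := by rw [h2]
      rw [← mul_smul] at h3
      rw [← h3]
      congr 1
      group
    · change (Quotient.out (g : H ⧸ N) : H) • ((y : H)⁻¹ • u) = g • u
      rw [hy, ← mul_smul, mul_assoc, mul_inv_cancel, mul_one]
  have h1 := Nat.card_le_card_of_surjective _ hsurj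
  rwa [Nat.card_prod] at h1

theorem noPEx_of_atool_aux (h : AData el ch m i0 c0 n) (hn : ¬ p ∣ n) (hV : ∀ v : V, p • v = 0)
    (hf : ∀ g : H, (∀ v : V, g • v = v) → g = 1) (c1 : C) (hne : ∃ i, el i ≠ 1)
    (hT' : ∀ c, c ≠ c0 → ∃ g, Rel el g (ch c1) (ch c)) (P : Sylow p H) (R : Finset C) (hR0 : c0 ∈ R) (hR : ∀ c, ∃ r ∈ R, ∃ g ∈ P, Rel el g (ch r) (ch c))
    (N : Subgroup H) (hN : ∀ x ∈ N, ∀ g ∈ P, x⁻¹ * g * x ∈ P)
    (hst : ∀ v : V, ¬ p ∣ (MulAction.stabilizer H v).index) :
    p ^ (Finset.univ \ R).card ≤ N.index := by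
  have hFx : 0 < Nat.card (Fx V (P : Subgroup H)) := by
    have : Nonempty (Fx V (P : Subgroup H)) := ⟨⟨0, fun g _ => smul_zero g⟩⟩
    exact Nat.card_pos
  have h1 := card_V_le P N hN hst
  have h2 := card_Fx_le (V := V) h hV hn P R hR
  have h3 := card_V (V := V) h hV hn
  rw [← Finset.prod_sdiff (Finset.subset_univ R)] at h3
  have h4 : p ^ (Finset.univ \ R).card ≤ ∏ c ∈ Finset.univ \ R, Nat.card (E (V := V) el (ch c)).range := by
    rw [← Finset.prod_const]
    refine Finset.prod_le_prod' fun c hc => ?_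
    refine le_card_range h hV hn hf c1 hne hT' c ?_
    rintro rfl
    exact (Finset.mem_sdiff.1 hc).2 hR0
  have h5 : p ^ (Finset.univ \ R).card * Nat.card (Fx V (P : Subgroup H)) ≤
      N.index * Nat.card (Fx V (P : Subgroup H)) := by
    refine le_trans (Nat.mul_le_mul h4 h2) ?_
    rw [← h3]
    exact h1
  exact Nat.le_of_mul_le_mul_right h5 hFx

end count

/-- transfer along an isomorphism -/
theorem noPEx_of_equiv {p : ℕ} {H : Type*} [Group H] {S : Type u} [Group S] (f : H ≃* S)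
    (hno : ∀ (V : Type u) [AddCommGroup V] [Finite V] [DistribMulAction H V], (∀ v : V, p • v = 0) →
      (∀ g : H, (∀ v : V, g • v = v) → g = 1) → (∀ v : V, ¬ p ∣ (MulAction.stabilizer H v).index) → False) :
    NoPEx p S := by
  intro V _ _ _ hV _ hf _ hst
  let inst : DistribMulAction H V := DistribMulAction.compHom V f.toMonoidHom
  have hact : ∀ (g : H) (v : V), g • v = f g • v := fun g v => rfl
  refine hno V hV ?_ ?_
  · intro g hg
    have h1 : f g = 1 := hf (f g) fun v => by rw [← hact]; exact hg v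
    exact (map_eq_one_iff f f.injective).1 h1
  · intro v hv
    apply hst v
    have h5 : (MulAction.stabilizer S v).comap f.toMonoidHom = MulAction.stabilizer H v := by
      ext g
      rw [Subgroup.mem_comap, MulAction.mem_stabilizer_iff, MulAction.mem_stabilizer_iff, hact]
      rfl
    rw [← h5, Subgroup.index_comap_of_surjective _ f.surjective] at hv
    exact hv

end Cfsg.Agent.H257.RIM
end

-- part: H257/RIM/HSThree
section
/-!
# S4816 (RIM): the row `HS`, `p = 3` (helper257)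

`A = 2^4`, `N(A) ≥ 2^4:A6` (stabilizer of two non-adjacent points of the graph on 100 points), `P = 3^2`, `|N(P)| ≥ 144`.
-/

set_option autoImplicit false
set_option linter.unusedSectionVars false

namespace Cfsg.Agent.H257.RIM.HS

open Cfsg Cfsg.Agent.H665.RIM Equiv
open Cfsg.Agent.SporadicA.PermTab
open Cfsg.Agent.HN.HS100 (tX tXi tY tYi tZ tW s5 s6 Q Q1 Q2 in5 in6 inX inY inW)

universe u

/-- the inverse of `tW` -/
def tWi : ℕ := 0xc01383083a05e0fc128450b81002e8580920582804f0200ec2905505c18c2d0590181201a03502a088068320be0702204b0bc1881e05b0a20f80000403a01c1205708e158148420861502982d0100801884d0720841b84606c1280d80106007c2600304c0380581a04e0481c0230661040782b0540601e8280280080882c0320140b81303c02804806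
/-- the 16 elements of `A`, 1100 bits each -/
def big : ℕ := 0x321081001a0581041502203a1401701b026070270140a60480f05a0941542204c09613c2183c0180942284d0921882f0400720f81d0480560f41f82f02207c020300060c8070340701641485f0761741682604e0a02302400c1701086106c1442d8560b01803181802e03c0a8540ae1481b81002c0c4068470040140480800e08c0503506602c008000740ac3082d0be104140140b61680901b0ae0fc2a8220a60b80f05006a1382204c0640100100608c11c0384d0160ec2f0400ac0f80c82308418c0e01f02c0bc2780a00612c0700506c1483002c0c40980d05d0480a806027078150048200701440e8390b00a41e81802a0dc0b85c026164078080220c4068250860d01081008a1201804a066124008000681882b84a0a0104248220b60b01704d0c21202a8140a60480f05f0341382c04c0641802e85604a0301081b0541082f04000c0f80281c0760281183606e0e01486301c12c0181903e1640205a05610c1a80202002c238080721702281305e1440e83c08813c1801802a0580b8540401480882701e0cc0684604c0e8038240120fc1e82d0620a00080000a0ec098350b41040581403a17c0904d04008c270220a60b80f02c05a1542c04c0960a41303908e1180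481b0500ac2f0400780f81a03f0c40c02403801e0d83003d01c0c80183a05e1482785008400825043010124128100ac1500385703e1442d8060880100501802e0440a85c0c21640b02406e0cc0680c0ba064228270420703181a0620a8008000340ac100190b40780e02209c17c090440260a80e8140a60b82082c06816c0d84c02a0c01e04308e118038580900ec2884004c0f8168490840a41402f06e07c0504f06605c1884a0701481e8500c41581d0390200fc128080041700486106c1782a85d09a18c30018064058258540ae1640882701e0380680c00c0d41082408a02c0200500608c0080005a1083083a0a00781f8140aa0b0170440ae0a02d8220a60482085f00a0740d84c02e0280300204a03022858046188288400ba0f80d00b0561801501f01e0bc180040660541883506c1643185a0760e40c85601007023810086150108200701782702609a0f4148180960441905c0261480b02406e038068460781280482700e12427834006120008000940ec2b8340be078240220aa168090580c21242d8140a60b8208500320742684c02e18c2b05d08c11c048440380ac288400040f81a82a0c4010058360220e01e8600620541981a03e1480502c0840f00280604e08c0602404c1700381305e178270430360c02781809603c190540401641b810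02c00c068250720b4228080420a01483a01c0fc0080006a188098050580781181409c1401705804002c0e8220a60482085a07416c2684c02a0f41c8260180941084407e108288400860f82502807613c2483802c0d83182906205c1982d05e1641805f0560181a03c048120230270ba1502285703e1782a802036028020180640dc2585c0c21480780802200c068470ac068038100120a83001901c070008000081082b80a0be144030540aa1682c81b0c20082d85c0a61482f05007a0742204c02a0e81f82808e1181084d0721880f0400920f8278260561282182f01e07c0c82d01c05c018290700b81a02c07608c180480480f0128270540502281306c1042700b0b00141a818064044258220400480b00806e0cc0680c038180038100121740d0630621580080009e0ac098300581441e05c09c1402901b04010c0e8540a61642f05a0c616c2204c02e0640e02a04a0300484d0ac0ec0f0400160f80205d0840d40101f06e0bc1d01a01c0540186006c0480285f0c41200502304e01823824050088038570701042a8490b00d025018096058190140c20b80881001e0cc0684607e0a4228080420981683d0620e4008000521881003d0b41441c85409c17c2c84d0260980e85c0a61482f02c01416c2c04c02e0141180b08c11c2281b00c1080f0400540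f8300020760682e83602c0e01a0350060540700403e0b80c8500560fc3181c010158060100920501086105e1042a8280880e8168180960dc190220ae048078240220c40682509013c0482700e10c250300660f0008000c00ec308630a01442b05c0aa0b02904d0ae1742d8540a61642f05f0600742c04c02a0d0240490180940381b0780ac0f0400500f8148430c40b4130380220d80284a00605c0704f05e0481d05a0840701e83f0200e4230080160880482003e1042702a0880640d01806403c258140260b81b82702c0c4068470460101082408a0081a80a066018008000140ac2b8040a0178010540b60b0290440c20182a85c0a61642885f0521380d84c0960b41403f0180940485804c0ec208400900f8180390840d01e02f02c07c0d03a0620c81983d0700482505a0c402c2784901010c230100380500381306c0780e82309a0d40281802e0dc0a8220400b80782402200c0684705418c228270421580c86001c174008000601080984f0b41782185c03a17c2c8440400f0270540a61482882c0c01540d84c0640681501c08c11c108580ba188208400460f8050560560140301f0220bc1681906212c1986306c0b81a8500761240200b0200080600807e088228570700782d84809a1281a01802a03c0b8140c20481b82702c00c068250500f403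8240120e41d02901c0980080007a0ec100290581781305403a140290580260e42705c0a61642885a0081542684c0640d40582304a030038440040ac208400380f8318060c40642b03601e0e02500506612c1880a03e0480d05f0840a03002a048174238270900500486105e0782d83f0360b41d01802a0440b8220ae0b80b00806e038068460920c01081008a0f01a04f00610c008000c6188308600be1782e85c0b61682c8580ae1582a8540a61482885009e1382684c0961282484808e118228440861082084007e0f81e83c0760e81c83806e0d81a8340660c81883005e0b81682c0560a81482804e098128240460881082003e0780e81c0360680c81802e0580a8140260480881001e0380680c0160280480800e0180280400600800800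
def px : ℕ := 0x7415c2081902a1880101b09c12c1b0070bc10c2a8440a60e01d8170080742284c06e0f42480b08e0300a0090380801581804c1000d03f0260d0030310b4038300630240582904f0060bc028320c20e41685d0200f0230240901602e01e0661082d8560421281a83e0220b00784d0a207c280080be164068250460282a0270440a81483005c0a000800
def pxi : ℕ := 0x681781583501e15c1402103a0dc070220c40702a8090a60c40981106016c0a04c0b40682482308e094268540ac0783083e078060250260a218c150520961640c83a03e0b01c00405c00c14816082018028020100fc0602401601c0d842024080270430b80f4300400a00c82f8450760cc0b82702a0d806846090028220100b00e41684f05e17400800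
def py : ℕ := 0x320380902d0580d81e04208c17c268130b20082382b01a1601c0500600302b85302a0f42482304809c2f06105000c0f8400ac0f80d01c0620d40300701e114148600a812c1100404206c1a05a0660e41d0260b610c040550160ec0f02e0120bc1285d0401280281802e0dc190620a41100884e02c050260100900282081d0a20a83184f0b80fc00800
def pyi : ℕ := 0xa050220340b41140e00304e0b02b85209a0fc1203309804c038500080402c80d0640682480b0aa16c1b01204c170048400040f82505d0440a41505102c1781d02d0560541d84f03c0803005f0a80181a84308c0a00e8470900c41781b0820840403c05c0f43181802e03c2580e0b01840880c06e1882984e0460280f8250700e40c83008415800800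
def s5i : ℕ := 0x320802c83408e06c1e0410a0094018360241581605107c0382684600a17c178400480281183f01e0dc0483800c1842c00d00414c020390ae0d4058140b61700d03d0c409c1d83a0a80cc1680c0261201482602a0a00884b0861781082e0441102d01c03e0c03184c0201540401e0a40c40e81709c0ac0c0160ba13c2283200e124250600840a800800
def s6i : ℕ := 0x34040230050700781f85902e07c2a04404a124190520301702082f07412c268400aa0281c8430ae0800b05804609c2884c04c0f81682a0100100582c04217c180600661381884a0b4050318360480181a03c056070098420040b80780c0a01780a85d0360f42785303a01c2d81208e0882283b01200c068610ac0d41b8620220a01481901c12000800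
def n1 : ℕ := 0x5c1343081e0be1642c0290b603c2f05d0ae0ec0c0540220a01f80d0601183101702c1280084807c1380702b0620b4090240a211c1e8070ac06c1c82606e0d8108200120c82184f03218c210150880a82e05203a0e0080400160701a83403e180138220740681785509812c16014004104298250b41142800c046000198080780180180400a04c2480a
def n1i : ℕ := 0x5c1343081e0be1642c0290b603c2f05d0ae0ec0c0540220a01f80d0601183101702c1280084807c1380702b0620b4090240a211c1e8070ac06c1c82606e0d8108200120c82184f03218c210150880a82e05203a0e0080400160701a83403e180138220740681785509812c16014004104298250b41142800c046000198080780180180400a04c2480a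
def n2 : ℕ := 0xa41381b8380a811814003028184060340100081e81600c0643000402e1642d839012090248400340d80805f0860781600b04c08c238560c61440683a0660742c0220b40ac168500840bc0981f02a1301883f0ae1742684a07c0d41085c01e0b82f03c0401541d84809e110090250520c81804508209c150620300042580e00a14c0381103607005000
def n2i : ℕ := 0x760302d0510880741302009a0cc2703504e0f00d05f00c18c1d03002e1881282a0120902481807a178080160860bc0784805008c2a81c0320e0260600c21181105806e0481481105c078188410640340985d01c0fc0a04a07c0d01081b0581081b00200611c2900b09e1501585b05a0540204503e0201c8590800042585700a14c038500b815805000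
def q1 : ℕ := 0xe0942f8220c20401e01b0ae07c040190b60982505a0720a4028040221140602a0561542481807a0500e8320ba00c2580b03808c1202806a0c4260600881182881302a0483181705c1701c05402c14c2c04306c0fc2f01a0800b4210200580840705605e11c2904809e104048270680dc180620661380305907c0040784d0740341d85003c00805000
def oc1 : ℕ := 0x47fffff81bfffffc05023ffffffff813ffe027fffffffe06c0d7fffffffffffffffffffffffffffffffffff034063fffff027fffff811024087ff818fffffc0c823fffffc0cfff0420a408ffffffffc0d012ffe047fffffffe06c1002affe08bff812051ffc0cffffffffffffff011ffffffffffffffffffffffffffffff031ffc117ff056003fffff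
def oc2 : ℕ := 0xffffffffffffffffffffffffffffffffffffffffffffffffffffffffffffffffffffffffffffffffffffffffffe023fffffffffffffffffffffffffffffffffffffffffffffffffffffffffffffffffffffffffffffffffffffffc087ffffe063fffffffffffffffffffffffffffffffffffffffffffffffffffffffffffffffffffffff001ffffffff
def sg_s5 : ℕ := 0x1e0340580900e0140180101c0300500800c01001000
def dg_s5 : ℕ := 0x1e0340580900e0140180101c0300500800c01001000
def sg_s6 : ℕ := 0x1a0300780e01402c040090080140300700600800800
def dg_s6 : ℕ := 0xe0280080c0060380280801e0080480401601806800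
def sg_px : ℕ := 0xc00c0700b00e0080780a0180240200101a02002800
def dg_px : ℕ := 0x12034018070180200300201603c0080501c02802000
def sg_py : ℕ := 0x601c0580f00c0080700a0120340080501802002000
def dg_py : ℕ := 0x180240300301a0200380201c02c0200101e02802800

/-- the words of the elements of `A` in `s5`, `s6` -/
def wA : List (List Bool) := [[],
  [true, true],
  [false, false, false, true, true, false],
  [false, false, false, true, true, false, true, true],
  [false, false, true, true, false, false],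
  [false, false, true, true, false, false, true, true],
  [false, false, true, true, false, true, true, false],
  [false, false, true, true, false, true, true, false, true, true],
  [false, true, true, false, false, false],
  [false, true, true, false, false, false, true, true],
  [false, true, true, false, false, true, true, false],
  [false, true, true, false, false, true, true, false, true, true],
  [false, true, true, false, true, true, false, false],
  [false, true, true, false, true, true, false, false, true, true],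
  [false, true, true, false, true, true, false, true, true, false],
  [true, false, true, true, false, true, true, false, false, true]]

/-! ### the elementary abelian group -/

def tabA (i : ℕ) : ℕ := Nat.land (Nat.shiftRight big (Nat.mul 1100 i)) (Nat.sub (Nat.pow 2 1100) 1)

theorem hA (i : Fin 16) : chkInv 100 (tabA i) (tabA i) = true := by
  revert i
  decide +kernel

def elP (i : Fin 16) : Perm (Fin 100) := mkPerm (tabA i) (tabA i) (hA i)

def mm (j i : Fin 16) : Fin 16 := ⟨Nat.mod (Nat.xor j i) 16, Nat.mod_lt _ (by norm_num)⟩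

private noncomputable def _root_.Cfsg.Agent.KOef73670.k0 : (by first | exact type_of% @Cfsg.Agent.SporadicA.PermTab.allB | exact Unit : Sort _) := by first | (refine @Subtype.val _ (fun g => @Cfsg.Agent.SporadicA.PermTab.allB = @g) (@Subtype.mk _ _ (@(fun x0 x1 => @Nat.rec.{1} @(fun x2 => @Bool) @Bool.true @(fun x2 x3 => @Bool.rec.{1} @(fun x4 => @Bool) @Bool.false @x3 (@x0 @x2)) @x1)) ?_); rfl') | exact @Cfsg.Agent.SporadicA.PermTab.allB | exact ()
private theorem _root_.Cfsg.Agent.KOef73670.e0 : (by first | exact @Cfsg.Agent.SporadicA.PermTab.allB = @_root_.Cfsg.Agent.KOef73670.k0 | exact True : Prop) := by first | (delta _root_.Cfsg.Agent.KOef73670.k0; exact @Subtype.property _ (fun g => @Cfsg.Agent.SporadicA.PermTab.allB = @g) _) | rfl | trivial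
private noncomputable def _root_.Cfsg.Agent.KOef73670.k1 : (by first | exact type_of% @Cfsg.Agent.SporadicA.PermTab.lk | exact Unit : Sort _) := by first | (refine @Subtype.val _ (fun g => @Cfsg.Agent.SporadicA.PermTab.lk = @g) (@Subtype.mk _ _ (@(fun x0 x1 => @Nat.land (@Nat.shiftRight @x0 (@Nat.mul (nat_lit 11) @x1)) (nat_lit 2047))) ?_); rfl') | exact @Cfsg.Agent.SporadicA.PermTab.lk | exact ()
private theorem _root_.Cfsg.Agent.KOef73670.e1 : (by first | exact @Cfsg.Agent.SporadicA.PermTab.lk = @_root_.Cfsg.Agent.KOef73670.k1 | exact True : Prop) := by first | (delta _root_.Cfsg.Agent.KOef73670.k1; exact @Subtype.property _ (fun g => @Cfsg.Agent.SporadicA.PermTab.lk = @g) _) | rfl | trivial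

theorem chkMul : allB (fun j => allB (fun i => allB (fun x =>
    Nat.beq (lk (tabA (Nat.mod (Nat.xor j i) 16)) x) (lk (tabA j) (lk (tabA i) x))) 100) 16) 16 = true := by
  (first | (rewrite [Cfsg.Agent.KOef73670.e0, Cfsg.Agent.KOef73670.e1]; decide +kernel) | decide +kernel)

theorem elP_mul (j i : Fin 16) : elP (mm j i) = elP j * elP i := by
  refine Equiv.ext fun x => Fin.ext ?_
  change lk (tabA (Nat.mod (Nat.xor j i) 16)) x = lk (tabA j) (lk (tabA i) x)
  exact Nat.eq_of_beq_eq_true ((allB_iff _ _).1 ((allB_iff _ _).1 ((allB_iff _ _).1 chkMul j j.2) i i.2) x x.2)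

theorem elP_zero : elP 0 = 1 := by
  refine Equiv.ext fun x => Fin.ext ?_
  change lk (tabA 0) x = x
  revert x
  decide +kernel

theorem elP_one_ne : elP 1 ≠ 1 := by
  intro h
  have h1 : ∀ x : Fin 100, lk (tabA (1 : Fin 16)) x = x := fun x =>
    congrArg (fun g : Perm (Fin 100) => ((g x : Fin 100) : ℕ)) h
  exact absurd h1 (by decide +kernel)

theorem Q2_le : Q2 ≤ Q := fun _ h => h.1.1

theorem mem_of_word {G : Subgroup (Perm (Fin 100))} {L0 L : List ℕ} {t ti : ℕ} (h : chkInv 100 t ti = true)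
    (h0 : ∀ P ∈ L0, InG G P) (hL : L ⊆ L0) (hS : chkWord 100 t L = true) : mkPerm t ti h ∈ G := by
  obtain ⟨g, hg, hgi⟩ := InG.word (fun P hP => h0 P (hL hP)) hS
  have h1 : mkPerm t ti h = g := Equiv.ext fun x => Fin.ext (hgi x).symm
  rw [h1]
  exact hg

theorem mem56 {t ti : ℕ} (h : chkInv 100 t ti = true) (w : List Bool)
    (hS : chkWord 100 t (w.map fun b => cond b s6 s5) = true) : mkPerm t ti h ∈ Q := by
  refine mem_of_word (L0 := [s5, s6]) h ?_ ?_ hS
  · intro P hP
    rcases List.mem_cons.1 hP with rfl | hP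
    · exact in5.mono Q2_le
    rcases List.mem_cons.1 hP with rfl | hP
    · exact in6.mono Q2_le
    exact absurd hP List.not_mem_nil
  · intro P hP
    obtain ⟨b, -, rfl⟩ := List.mem_map.1 hP
    cases b <;> simp

theorem chkA : ∀ i : Fin 16, chkWord 100 (tabA i) ((wA.getD i []).map fun b => cond b s6 s5) = true := by
  decide +kernel

theorem elP_mem (i : Fin 16) : elP i ∈ Q := mem56 _ _ (chkA i)

/-- the elements of `A` -/
def el (i : Fin 16) : Q := ⟨elP i, elP_mem i⟩

/-! ### the characters -/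

def chb (c i : Fin 16) : Bool := Nat.testBit 0x6996 (Nat.land c i)
def ch (c i : Fin 16) : ℤ := cond (chb c i) (-1) 1

private noncomputable def _root_.Cfsg.Agent.KOef73670.k4 : type_of% @Decidable.decide := @(fun x0 x1 => @Decidable.rec.{1} _ @(fun x2 => @Bool) @(fun x2 => @Bool.false) @(fun x2 => @Bool.true) @x1)
private theorem _root_.Cfsg.Agent.KOef73670.e4 : @Decidable.decide = @_root_.Cfsg.Agent.KOef73670.k4 := by delta _root_.Cfsg.Agent.KOef73670.k4; rfl'
private noncomputable def _root_.Cfsg.Agent.KOef73670.k5l (n : Nat) (P : ∀ k, k < n → Prop) (H : ∀ k h, Decidable (P k h)) (m : Nat) : m ≤ n → Bool := @Nat.rec (fun m => m ≤ n → Bool) (fun _ => true) (fun k ih h => @Decidable.rec (P k h) (fun _ => Bool) (fun _ => false) (fun _ => ih (Nat.le_of_succ_le h)) (H k h)) m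
private theorem _root_.Cfsg.Agent.KOef73670.k5ls (n : Nat) (P : ∀ k, k < n → Prop) (H : ∀ k h, Decidable (P k h)) (m : Nat) : ∀ h : m ≤ n, _root_.Cfsg.Agent.KOef73670.k5l n P H m h = true ↔ ∀ k (g : k < m), P k (Nat.lt_of_lt_of_le g h) := by induction m with | zero => exact fun _ => ⟨fun _ _ g => absurd g (Nat.not_lt_zero _), fun _ => rfl⟩ | succ m ih => intro h; show @Decidable.rec (P m h) (fun _ => Bool) (fun _ => false) (fun _ => _root_.Cfsg.Agent.KOef73670.k5l n P H m (Nat.le_of_succ_le h)) (H m h) = true ↔ _; cases H m h with | isFalse q => exact ⟨fun g => absurd g Bool.false_ne_true, fun g => absurd (g m (Nat.lt_succ_self m)) q⟩ | isTrue q => exact ⟨fun g k hk => (Nat.lt_succ_iff_lt_or_eq.1 hk).elim ((ih _).1 g k) fun e => by subst e; exact q, fun g => (ih _).2 fun k hk => g k (Nat.lt_succ_of_lt hk)⟩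
private noncomputable def _root_.Cfsg.Agent.KOef73670.k5 (n : Nat) (P : ∀ k, k < n → Prop) (H : ∀ k h, Decidable (P k h)) : Decidable (∀ k h, P k h) := @Bool.rec (fun b => _root_.Cfsg.Agent.KOef73670.k5l n P H n (Nat.le_refl n) = b → Decidable (∀ k h, P k h)) (fun g => isFalse fun q => Bool.false_ne_true (g.symm.trans ((_root_.Cfsg.Agent.KOef73670.k5ls n P H n _).2 fun k h => q k h))) (fun g => isTrue fun k h => (_root_.Cfsg.Agent.KOef73670.k5ls n P H n _).1 g k h) (_root_.Cfsg.Agent.KOef73670.k5l n P H n (Nat.le_refl n)) rfl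
private theorem _root_.Cfsg.Agent.KOef73670.e5 : @Nat.decidableBallLT = @_root_.Cfsg.Agent.KOef73670.k5 := funext fun _ => funext fun _ => funext fun _ => Subsingleton.elim _ _
private noncomputable def _root_.Cfsg.Agent.KOef73670.k6 : type_of% @Nat.decidableForallFin := @(fun x0 x1 x2 => @Decidable.rec.{1} _ @(fun x3 => @Decidable ((x4 : @Fin @x0) → @x1 @x4)) @(fun x3 => @Decidable.isFalse _ (@decidable_of_decidable_of_iff._proof_1 _ _ (@Nat.decidableForallFin._proof_1 _ @x1) @x3)) @(fun x3 => @Decidable.isTrue _ (@Iff.mp _ _ (@Nat.decidableForallFin._proof_1 _ @x1) @x3)) (@Cfsg.Agent.KOef73670.k5 @x0 @(fun x3 x4 => @x1 (@Fin.mk _ @x3 @x4)) @(fun x3 x4 => @x2 (@Fin.mk _ @x3 @x4))))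
private theorem _root_.Cfsg.Agent.KOef73670.e6 : @Nat.decidableForallFin = @_root_.Cfsg.Agent.KOef73670.k6 := by delta _root_.Cfsg.Agent.KOef73670.k6; rewrite [← Cfsg.Agent.KOef73670.e5]; rfl'
private noncomputable def _root_.Cfsg.Agent.KOef73670.k17 : type_of% @Nat.decEq := @(fun x0 x1 => @Bool.rec.{1} @(fun x2 => (@Eq.{1} _ (@Nat.beq @x0 @x1) @x2) → @Decidable (@Eq.{1} _ @x0 @x1)) @(fun x2 => @Decidable.isFalse _ (@Nat.ne_of_beq_eq_false _ _ @x2)) @(fun x2 => @Decidable.isTrue _ (@Nat.eq_of_beq_eq_true _ _ @x2)) (@Nat.beq @x0 @x1) (@Eq.refl.{1} _ (@Nat.beq @x0 @x1)))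
private theorem _root_.Cfsg.Agent.KOef73670.e17 : @Nat.decEq = @_root_.Cfsg.Agent.KOef73670.k17 := by delta _root_.Cfsg.Agent.KOef73670.k17; rfl'
private noncomputable def _root_.Cfsg.Agent.KOef73670.k18 : type_of% @Int.decEq := @(fun x0 x1 => @Int.rec.{1} @(fun x2 => @Decidable (@Eq.{1} _ @x2 @x1)) @(fun x2 => @Int.rec.{1} @(fun x3 => @Decidable (@Eq.{1} _ (@Int.ofNat @x2) @x3)) @(fun x3 => @Decidable.rec.{1} _ @(fun x4 => @Decidable (@Eq.{1} _ (@Int.ofNat @x2) (@Int.ofNat @x3))) @(fun x4 => @Decidable.isFalse _ (@Int.decEq._proof_2 @x2 @x3 @x4)) @(fun x4 => @Decidable.isTrue _ (@Int.decEq._proof_1 @x2 @x3 @x4)) (@Cfsg.Agent.KOef73670.k17 @x2 @x3)) @(fun x3 => @Decidable.isFalse _ (@Int.decEq._proof_3 @x2 @x3)) @x1) @(fun x2 => @Int.rec.{1} @(fun x3 => @Decidable (@Eq.{1} _ (@Int.negSucc @x2) @x3)) @(fun x3 => @Decidable.isFalse _ (@Int.decEq._proof_4 @x2 @x3)) @(fun x3 => @Decidable.rec.{1} _ @(fun x4 => @Decidable (@Eq.{1} _ (@Int.negSucc @x2) (@Int.negSucc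 @x3))) @(fun x4 => @Decidable.isFalse _ (@Int.decEq._proof_6 @x2 @x3 @x4)) @(fun x4 => @Decidable.isTrue _ (@Int.decEq._proof_5 @x2 @x3 @x4)) (@Cfsg.Agent.KOef73670.k17 @x2 @x3)) @x1) @x0)
private theorem _root_.Cfsg.Agent.KOef73670.e18 : @Int.decEq = @_root_.Cfsg.Agent.KOef73670.k18 := by delta _root_.Cfsg.Agent.KOef73670.k18; rewrite [← Cfsg.Agent.KOef73670.e17]; rfl'
private noncomputable def _root_.Cfsg.Agent.KOef73670.k19 : type_of% @Int.instDecidableEq := @Cfsg.Agent.KOef73670.k18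
private theorem _root_.Cfsg.Agent.KOef73670.e19 : @Int.instDecidableEq = @_root_.Cfsg.Agent.KOef73670.k19 := by delta _root_.Cfsg.Agent.KOef73670.k19; rewrite [← Cfsg.Agent.KOef73670.e18]; rfl'
private noncomputable def _root_.Cfsg.Agent.KOef73670.oEq.{ku} (α : Sort ku) (a b : Nat) (f t : α) : α := @Decidable.rec (a = b) (fun _ => α) (fun _ => f) (fun _ => t) (Nat.decEq a b)
private noncomputable def _root_.Cfsg.Agent.KOef73670.k20.{ku} (α : Sort ku) (a b : Nat) (f t : α) : α := @Bool.rec (fun _ => α) f t (Nat.beq a b)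
private theorem _root_.Cfsg.Agent.KOef73670.e20.{ku} : @_root_.Cfsg.Agent.KOef73670.oEq.{ku} = @_root_.Cfsg.Agent.KOef73670.k20.{ku} := funext fun α => funext fun a => funext fun b => funext fun f => funext fun t => by delta _root_.Cfsg.Agent.KOef73670.oEq _root_.Cfsg.Agent.KOef73670.k20; cases h : Nat.beq a b <;> cases Nat.decEq a b <;> rename_i g <;> first | rfl | exact absurd g (Nat.ne_of_beq_eq_false h) | exact absurd (Nat.eq_of_beq_eq_true h) g
private noncomputable def _root_.Cfsg.Agent.KOef73670.k21 : (by first | exact type_of% @Cfsg.Agent.H257.RIM.HS.chb | exact Unit : Sort _) := by first | (refine @Subtype.val _ (fun g => @Cfsg.Agent.H257.RIM.HS.chb = @g) (@Subtype.mk _ _ (@(fun x0 x1 => @Bool.rec.{1} @(fun x2 => @Bool) @Bool.true @Bool.false (@Cfsg.Agent.KOef73670.k20.{1} @Bool (@Nat.land (nat_lit 1) (@Nat.shiftRight (nat_lit 27030) (@Nat.land (@Fin.val _ @x0) (@Fin.val _ @x1)))) (nat_lit 0) @Bool.false @Bool.true))) ?_); rewrite [← Cfsg.Agent.KOef73670.e20.{1}];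 rfl') | exact @Cfsg.Agent.H257.RIM.HS.chb | exact ()
private theorem _root_.Cfsg.Agent.KOef73670.e21 : (by first | exact @Cfsg.Agent.H257.RIM.HS.chb = @_root_.Cfsg.Agent.KOef73670.k21 | exact True : Prop) := by first | (delta _root_.Cfsg.Agent.KOef73670.k21; exact @Subtype.property _ (fun g => @Cfsg.Agent.H257.RIM.HS.chb = @g) _) | rfl | trivial
private noncomputable def _root_.Cfsg.Agent.KOef73670.k22 : (by first | exact type_of% @Cfsg.Agent.H257.RIM.HS.ch | exact Unit : Sort _) := by first | (refine @Subtype.val _ (fun g => @Cfsg.Agent.H257.RIM.HS.ch = @g) (@Subtype.mk _ _ (@(fun x0 x1 => @Bool.rec.{1} @(fun x2 => ℤ) (@Int.ofNat (nat_lit 1)) (@Nat.rec.{1} @(fun x2 => ℤ) (@Int.ofNat (nat_lit 0)) @(fun x2 x3 => @Int.negSucc @x2) (nat_lit 1)) (@Cfsg.Agent.KOef73670.k21 @x0 @x1))) ?_); rewrite [← Cfsg.Agent.KOef73670.e21]; (try delta Cfsg.Agent.H257.RIM.HS.ch); (try generalize @Cfsg.Agent.H257.RIM.HS.chb = g0); rfl') | exact @Cfsg.Agent.H257.RIM.HS.ch | exact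 ()
private theorem _root_.Cfsg.Agent.KOef73670.e22 : (by first | exact @Cfsg.Agent.H257.RIM.HS.ch = @_root_.Cfsg.Agent.KOef73670.k22 | exact True : Prop) := by first | (delta _root_.Cfsg.Agent.KOef73670.k22; exact @Subtype.property _ (fun g => @Cfsg.Agent.H257.RIM.HS.ch = @g) _) | rfl | trivial

theorem ch_mul : ∀ c j i : Fin 16, ch c (mm j i) = ch c j * ch c i := by (first | (refine of_decide_eq_true ?_; rewrite [Cfsg.Agent.KOef73670.e4, Cfsg.Agent.KOef73670.e6, Cfsg.Agent.KOef73670.e19, Cfsg.Agent.KOef73670.e22]; decide +kernel) | decide +kernel)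
theorem ch_sq : ∀ c j : Fin 16, ch c j * ch c j = 1 := by decide +kernel
theorem ch_zero : ∀ i : Fin 16, ch 0 i = 1 := by decide +kernel
theorem orth : ∀ c c' : Fin 16, (∑ i, ch c i * ch c' i) = if c = c' then ((16 : ℕ) : ℤ) else 0 := by decide +kernel
theorem orth' : ∀ i : Fin 16, (∑ c, ch c i) = if i = 0 then ((16 : ℕ) : ℤ) else 0 := by decide +kernel
theorem mm_mm : ∀ j i : Fin 16, mm j (mm j i) = i := by decide +kernel

theorem adata : AData el ch mm 0 0 16 where
  hm j := Function.Involutive.bijective (mm_mm j)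
  el0 := Subtype.ext elP_zero
  elm j i := Subtype.ext (elP_mul j i)
  chm := ch_mul
  chs := ch_sq
  ch0 := ch_zero
  orth := orth
  orth' := orth'

/-! ### elements normalizing `A` -/

def toF (t : ℕ) (i : Fin 16) : Fin 16 := ⟨lk t i % 16, Nat.mod_lt _ (by norm_num)⟩

theorem rel_of {t ti : ℕ} (h : chkInv 100 t ti = true) (hQ : mkPerm t ti h ∈ Q) {s d si : ℕ}
    (hs : ∀ i, toF si (toF s i) = i)
    (h1 : ∀ i : Fin 16, ∀ x : Fin 100, lk (tabA (toF s i)) (lk t x) = lk t (lk (tabA i) x))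
    (h2 : ∀ c i, ch (toF d c) (toF s i) = ch c i) (c : Fin 16) :
    Rel el ⟨mkPerm t ti h, hQ⟩ (ch c) (ch (toF d c)) := by
  refine ⟨toF s, Finite.injective_iff_bijective.1 (Function.LeftInverse.injective hs), fun i => ?_, h2 c⟩
  refine Subtype.ext (Equiv.ext fun x => Fin.ext ?_)
  exact h1 i x

theorem c5 : chkInv 100 s5 s5i = true := by decide +kernel
theorem c6 : chkInv 100 s6 s6i = true := by decide +kernel
theorem cpx : chkInv 100 px pxi = true := by decide +kernel
theorem cpy : chkInv 100 py pyi = true := by decide +kernel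
theorem cn1 : chkInv 100 n1 n1i = true := by decide +kernel
theorem cn2 : chkInv 100 n2 n2i = true := by decide +kernel
theorem cW : chkInv 100 tW tWi = true := by decide +kernel

theorem inWi : InG Q tWi := by
  obtain ⟨g, hg, hgi⟩ := inW
  refine ⟨g⁻¹, Q.inv_mem hg, fun i => ?_⟩
  have h1 : mkPerm tW tWi cW = g := Equiv.ext fun x => Fin.ext (hgi x).symm
  rw [← h1]
  rfl

theorem inYi : InG Q tYi := by
  obtain ⟨g, hg, hgi⟩ := inY
  refine ⟨g⁻¹, Q.inv_mem hg, fun i => ?_⟩
  have h1 : mkPerm tY tYi Cfsg.Agent.HN.HS100.cY = g := Equiv.ext fun x => Fin.ext (hgi x).symm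
  rw [← h1]
  rfl

theorem in_gens : ∀ P ∈ [tX, tY, tYi, tW, tWi], InG Q P := by
  intro P hP
  rcases List.mem_cons.1 hP with rfl | hP
  · exact inX
  rcases List.mem_cons.1 hP with rfl | hP
  · exact inY
  rcases List.mem_cons.1 hP with rfl | hP
  · exact inYi
  rcases List.mem_cons.1 hP with rfl | hP
  · exact inW
  rcases List.mem_cons.1 hP with rfl | hP
  · exact inWi
  exact absurd hP List.not_mem_nil

theorem m5 : mkPerm s5 s5i c5 ∈ Q := mem56 _ [false] (by decide +kernel)
theorem m6 : mkPerm s6 s6i c6 ∈ Q := mem56 _ [true] (by decide +kernel)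
theorem mpx : mkPerm px pxi cpx ∈ Q :=
  mem56 _ [false, false, true, false, true, false, false, false, true] (by decide +kernel)
theorem mpy : mkPerm py pyi cpy ∈ Q :=
  mem56 _ [false, false, false, true, false, false, true, false, true, false, true] (by decide +kernel)
theorem mn1 : mkPerm n1 n1i cn1 ∈ Q :=
  mem_of_word (L := [tY, tW, tYi, tWi, tYi, tW, tY, tY]) cn1 in_gens (by simp only [_root_.List.cons_subset, _root_.List.mem_cons, _root_.List.not_mem_nil, _root_.or_false, _root_.true_or, _root_.or_true, _root_.List.nil_subset, _root_.List.subset_cons_of_subset, _root_.and_self]) (by decide +kernel)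
theorem mn2 : mkPerm n2 n2i cn2 ∈ Q :=
  mem_of_word (L := [tWi, tWi, tYi, tWi, tY, tY, tX, tY, tWi, tWi, tYi]) cn2 in_gens (by simp only [_root_.List.cons_subset, _root_.List.mem_cons, _root_.List.not_mem_nil, _root_.or_false, _root_.or_true, _root_.true_or, _root_.List.nil_subset, _root_.and_self, _root_.List.subset_cons_of_subset]) (by decide +kernel)

/-- the elements of `Q` -/
def g5 : Q := ⟨_, m5⟩
def g6 : Q := ⟨_, m6⟩
def gx : Q := ⟨_, mpx⟩
def gy : Q := ⟨_, mpy⟩
def gn1 : Q := ⟨_, mn1⟩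
def gn2 : Q := ⟨_, mn2⟩

def si_s5 : ℕ := 0x1e01c0700601a0140600401600c0500201200404000
def si_s6 : ℕ := 0x1a0300780e01402c040090080140300700600800800
def si_px : ℕ := 0x12034018070180200300201603c0080501c02802000
def si_py : ℕ := 0x180240300301a0200380201c02c0200101e02802800

private noncomputable def _root_.Cfsg.Agent.KOef73670.k29 : type_of% @instDecidableEqNat := @Cfsg.Agent.KOef73670.k17
private theorem _root_.Cfsg.Agent.KOef73670.e29 : @instDecidableEqNat = @_root_.Cfsg.Agent.KOef73670.k29 := by delta _root_.Cfsg.Agent.KOef73670.k29; rewrite [← Cfsg.Agent.KOef73670.e17]; rfl'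

theorem rel5 (c : Fin 16) : Rel el g5 (ch c) (ch (toF dg_s5 c)) :=
  rel_of c5 m5 (s := sg_s5) (si := si_s5) (by decide +kernel) (by (first | (refine of_decide_eq_true ?_; rewrite [Cfsg.Agent.KOef73670.e4, Cfsg.Agent.KOef73670.e6, Cfsg.Agent.KOef73670.e29, Cfsg.Agent.KOef73670.e1]; decide +kernel) | decide +kernel)) (by decide +kernel) c
theorem rel6 (c : Fin 16) : Rel el g6 (ch c) (ch (toF dg_s6 c)) :=
  rel_of c6 m6 (s := sg_s6) (si := si_s6) (by decide +kernel) (by (first | (refine of_decide_eq_true ?_; rewrite [Cfsg.Agent.KOef73670.e4, Cfsg.Agent.KOef73670.e6, Cfsg.Agent.KOef73670.e29, Cfsg.Agent.KOef73670.e1]; decide +kernel) | decide +kernel)) (by decide +kernel) c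
theorem relx (c : Fin 16) : Rel el gx (ch c) (ch (toF dg_px c)) :=
  rel_of cpx mpx (s := sg_px) (si := si_px) (by decide +kernel) (by (first | (refine of_decide_eq_true ?_; rewrite [Cfsg.Agent.KOef73670.e4, Cfsg.Agent.KOef73670.e6, Cfsg.Agent.KOef73670.e29, Cfsg.Agent.KOef73670.e1]; decide +kernel) | decide +kernel)) (by decide +kernel) c
theorem rely (c : Fin 16) : Rel el gy (ch c) (ch (toF dg_py c)) :=
  rel_of cpy mpy (s := sg_py) (si := si_py) (by decide +kernel) (by (first | (refine of_decide_eq_true ?_; rewrite [Cfsg.Agent.KOef73670.e4, Cfsg.Agent.KOef73670.e6, Cfsg.Agent.KOef73670.e29, Cfsg.Agent.KOef73670.e1]; decide +kernel) | decide +kernel)) (by decide +kernel) c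

theorem iter {α : Type} {T : α → Prop} {f : α → α} (h : ∀ c, T c → T (f c)) (k : ℕ) {c : α} (hc : T c) :
    T (f^[k] c) := by
  induction k with
  | zero => exact hc
  | succ k ih => rw [Function.iterate_succ_apply']; exact h _ ih

theorem tr_dec : ∀ c : Fin 16, c ≠ 0 → ∃ a b d e : Fin 4,
    (toF dg_s6)^[e] ((toF dg_s5)^[d] ((toF dg_s6)^[b] ((toF dg_s5)^[a] 1))) = c := by decide +kernel

theorem hT (c : Fin 16) (hc : c ≠ 0) : ∃ g : Q, Rel el g (ch 1) (ch c) := by
  obtain ⟨a, b, d, e, rfl⟩ := tr_dec c hc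
  have h5 : ∀ c, (∃ g : Q, Rel el g (ch 1) (ch c)) → ∃ g : Q, Rel el g (ch 1) (ch (toF dg_s5 c)) := by
    rintro c ⟨g, hg⟩
    exact ⟨_, hg.trans (rel5 c)⟩
  have h6 : ∀ c, (∃ g : Q, Rel el g (ch 1) (ch c)) → ∃ g : Q, Rel el g (ch 1) (ch (toF dg_s6 c)) := by
    rintro c ⟨g, hg⟩
    exact ⟨_, hg.trans (rel6 c)⟩
  exact iter (T := fun c => ∃ g : Q, Rel el g (ch 1) (ch c)) h6 _ (iter h5 _ (iter h6 _ (iter h5 _ ⟨1, Rel.refl _ _⟩)))

def R : Finset (Fin 16) := {0, 1, 2, 3}

theorem R_dec : ∀ c : Fin 16, ∃ r ∈ R, ∃ a b : Fin 3, (toF dg_px)^[a] ((toF dg_py)^[b] r) = c := by decide +kernel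

theorem R_card : (Finset.univ \ R).card = 12 := by decide +kernel

/-! ### the Sylow subgroup -/

theorem gx3 : gx ^ 3 = 1 := by
  refine Subtype.ext (Equiv.ext fun x => Fin.ext ?_)
  change lk px (lk px (lk px x)) = x
  revert x
  decide +kernel

theorem gy3 : gy ^ 3 = 1 := by
  refine Subtype.ext (Equiv.ext fun x => Fin.ext ?_)
  change lk py (lk py (lk py x)) = x
  revert x
  decide +kernel

theorem gxy : gx * gy = gy * gx := by
  refine Subtype.ext (Equiv.ext fun x => Fin.ext ?_)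
  change lk px (lk py x) = lk py (lk px x)
  revert x
  decide +kernel

theorem n1x : gn1 * gx = gy * gn1 := by
  refine Subtype.ext (Equiv.ext fun x => Fin.ext ?_)
  change lk n1 (lk px x) = lk py (lk n1 x)
  revert x
  decide +kernel

theorem n1y : gn1 * gy = gx * gn1 := by
  refine Subtype.ext (Equiv.ext fun x => Fin.ext ?_)
  change lk n1 (lk py x) = lk px (lk n1 x)
  revert x
  decide +kernel

theorem n2x : gn2 * gx = gx * gy * gy * gn2 := by
  refine Subtype.ext (Equiv.ext fun x => Fin.ext ?_)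
  change lk n2 (lk px x) = lk px (lk py (lk py (lk n2 x)))
  revert x
  decide +kernel

theorem n2y : gn2 * gy = gx * gx * gy * gy * gn2 := by
  refine Subtype.ext (Equiv.ext fun x => Fin.ext ?_)
  change lk n2 (lk py x) = lk px (lk px (lk py (lk py (lk n2 x))))
  revert x
  decide +kernel

/-- `P = 3^2` -/
def P0 : Subgroup Q := Subgroup.zpowers gx ⊔ Subgroup.zpowers gy

theorem gx_mem : gx ∈ P0 := Subgroup.mem_sup_left (Subgroup.mem_zpowers gx)
theorem gy_mem : gy ∈ P0 := Subgroup.mem_sup_right (Subgroup.mem_zpowers gy)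

theorem card_zp {g : Q} (h3 : g ^ 3 = 1) (hne : g ≠ 1) : Nat.card (Subgroup.zpowers g) = 3 := by
  rw [Nat.card_zpowers]
  exact orderOf_eq_prime h3 hne

theorem gx_ne : gx ≠ 1 := by
  intro h
  have h1 : ∀ x : Fin 100, lk px x = x := fun x =>
    congrArg (fun g : Q => ((g : Perm (Fin 100)) x : ℕ)) h
  exact absurd h1 (by decide +kernel)

theorem gy_not_mem : gy ∉ Subgroup.zpowers gx := by
  rintro ⟨k, hk⟩
  have h1 : orderOf gx = 3 := orderOf_eq_prime gx3 gx_ne
  have h2 : gx ^ (k % 3) = gy := by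
    rw [← hk]
    have h3 := zpow_mod_orderOf gx k
    rw [h1] at h3
    exact h3
  have h3 : 0 ≤ k % 3 := Int.emod_nonneg k (by norm_num)
  have h4 : k % 3 < 3 := Int.emod_lt_of_pos k (by norm_num)
  generalize k % 3 = m at h2 h3 h4
  interval_cases m
  · rw [zpow_zero] at h2
    have h5 : ∀ x : Fin 100, (x : ℕ) = lk py x := fun x =>
      congrArg (fun g : Q => ((g : Perm (Fin 100)) x : ℕ)) h2
    exact absurd h5 (by decide +kernel)
  · rw [zpow_one] at h2
    have h5 : ∀ x : Fin 100, lk px x = lk py x := fun x =>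
      congrArg (fun g : Q => ((g : Perm (Fin 100)) x : ℕ)) h2
    exact absurd h5 (by decide +kernel)
  · have h6 : gx * gx = gy := by
      rw [← h2]
      exact (zpow_two gx).symm
    have h5 : ∀ x : Fin 100, lk px (lk px x) = lk py x := fun x =>
      congrArg (fun g : Q => ((g : Perm (Fin 100)) x : ℕ)) h6
    exact absurd h5 (by decide +kernel)

theorem card_Q : Nat.card Q = 44352000 := Cfsg.Agent.HN.AutBound.card_Q

instance : Finite Q := Nat.finite_of_card_ne_zero (by rw [card_Q]; norm_num)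

instance : Fact (Nat.Prime 3) := ⟨by norm_num⟩

theorem P0_isP : IsPGroup 3 P0 := by
  have hx : IsPGroup 3 (Subgroup.zpowers gx) := IsPGroup.of_card (n := 1) (by rw [card_zp gx3 gx_ne, pow_one])
  have hyne : gy ≠ 1 := by
    rintro h
    apply gy_not_mem
    rw [h]
    exact Subgroup.one_mem _
  have hy : IsPGroup 3 (Subgroup.zpowers gy) := IsPGroup.of_card (n := 1) (by rw [card_zp gy3 hyne, pow_one])
  refine hx.to_sup_of_normal_right' hy ?_
  rw [Subgroup.zpowers_le, Subgroup.mem_normalizer_iff]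
  intro h
  have hc : ∀ h : Q, h ∈ Subgroup.zpowers gy → gx * h * gx⁻¹ = h := by
    rintro _ ⟨k, rfl⟩
    have h1 : Commute gx (gy ^ k) := Commute.zpow_right gxy k
    rw [h1.eq, mul_inv_cancel_right]
  constructor
  · intro hh
    rwa [hc h hh]
  · intro hh
    have h1 := hc _ hh
    have h2 : h = gx⁻¹ * (gx * h * gx⁻¹) * gx := by group
    have h3 : gx⁻¹ * (gx * h * gx⁻¹) * gx = gx * h * gx⁻¹ := by
      conv_lhs => rw [← h1]
      group
    rw [h2, h3]
    exact hh

theorem exists_sylow : ∃ P : Sylow 3 Q, (P : Subgroup Q) = P0 := by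
  obtain ⟨P, hP⟩ := P0_isP.exists_le_sylow
  refine ⟨P, ?_⟩
  have h1 : Nat.card P = 9 := by
    rw [P.card_eq_multiplicity, card_Q]
    have e : Nat.factorization 44352000 3 = 2 := by
      rw [show (44352000 : ℕ) = 3 ^ 2 * 4928000 by norm_num,
        Nat.factorization_mul (by norm_num) (by norm_num), Nat.Prime.factorization_pow (by norm_num)]
      simp [Nat.factorization_eq_zero_of_not_dvd (show ¬ 3 ∣ 4928000 by norm_num)]
    rw [e]
    norm_num
  symm
  refine Subgroup.eq_of_le_of_card_ge hP ?_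
  rw [h1]
  obtain ⟨k, hk⟩ := IsPGroup.iff_card.1 P0_isP
  rw [hk]
  by_contra hcon
  have h2 : k < 2 := by
    by_contra h3
    apply hcon
    calc 9 = 3 ^ 2 := by norm_num
      _ ≤ 3 ^ k := Nat.pow_le_pow_right (by norm_num) (by omega)
  have h3 : Nat.card P0 ≤ 3 := by
    rw [hk]
    calc 3 ^ k ≤ 3 ^ 1 := Nat.pow_le_pow_right (by norm_num) (by omega)
      _ = 3 := by norm_num
  have h4 : Subgroup.zpowers gx = P0 := by
    refine Subgroup.eq_of_le_of_card_ge le_sup_left ?_
    rw [card_zp gx3 gx_ne]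
    exact h3
  exact gy_not_mem (by rw [h4]; exact gy_mem)

theorem hR (c : Fin 16) : ∃ r ∈ R, ∃ g ∈ P0, Rel el g (ch r) (ch c) := by
  obtain ⟨r, hr, a, b, rfl⟩ := R_dec c
  refine ⟨r, hr, ?_⟩
  have hx : ∀ c, (∃ g ∈ P0, Rel el g (ch r) (ch c)) → ∃ g ∈ P0, Rel el g (ch r) (ch (toF dg_px c)) := by
    rintro c ⟨g, hg, h⟩
    exact ⟨_, P0.mul_mem gx_mem hg, h.trans (relx c)⟩
  have hy : ∀ c, (∃ g ∈ P0, Rel el g (ch r) (ch c)) → ∃ g ∈ P0, Rel el g (ch r) (ch (toF dg_py c)) := by
    rintro c ⟨g, hg, h⟩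
    exact ⟨_, P0.mul_mem gy_mem hg, h.trans (rely c)⟩
  exact iter (T := fun c => ∃ g ∈ P0, Rel el g (ch r) (ch c)) hx _ (iter hy _ ⟨1, P0.one_mem, Rel.refl _ _⟩)

theorem mem_norm {g : Q} (hx : g * gx * g⁻¹ ∈ P0) (hy : g * gy * g⁻¹ ∈ P0) : g ∈ Subgroup.normalizer (P0 : Set Q) := by
  apply Subgroup.mem_normalizer_fintype
  have h1 : P0 ≤ P0.comap (MulAut.conj g).toMonoidHom := by
    refine sup_le ?_ ?_
    · rw [Subgroup.zpowers_le]
      exact hx
    · rw [Subgroup.zpowers_le]
      exact hy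
  intro n hn
  exact h1 hn

theorem le_card_norm : 144 ≤ Nat.card (Subgroup.normalizer (P0 : Set Q)) := by
  let N : Subgroup Q := Subgroup.normalizer (P0 : Set Q)
  let G : Subgroup (Perm (Fin 100)) := N.map Q.subtype
  have hcard : Nat.card G = Nat.card N := Nat.card_congr (N.equivMapOfInjective Q.subtype Q.subtype_injective).toEquiv.symm
  have i1 : InG G n1 := by
    refine ⟨_, ⟨gn1, ?_, rfl⟩, fun _ => rfl⟩
    refine mem_norm ?_ ?_
    · rw [n1x, mul_inv_cancel_right]; exact gy_mem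
    · rw [n1y, mul_inv_cancel_right]; exact gx_mem
  have i2 : InG G n2 := by
    refine ⟨_, ⟨gn2, ?_, rfl⟩, fun _ => rfl⟩
    refine mem_norm ?_ ?_
    · rw [n2x, mul_inv_cancel_right]
      exact P0.mul_mem (P0.mul_mem gx_mem gy_mem) gy_mem
    · rw [n2y, mul_inv_cancel_right]
      exact P0.mul_mem (P0.mul_mem (P0.mul_mem gx_mem gx_mem) gy_mem) gy_mem
  have ix : InG G px := ⟨_, ⟨gx, Subgroup.le_normalizer gx_mem, rfl⟩, fun _ => rfl⟩
  have iy : InG G py := ⟨_, ⟨gy, Subgroup.le_normalizer gy_mem, rfl⟩, fun _ => rfl⟩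
  have iall : ∀ P ∈ [n1, n2, px, py], InG G P := by
    intro P hP
    rcases List.mem_cons.1 hP with rfl | hP
    · exact i1
    rcases List.mem_cons.1 hP with rfl | hP
    · exact i2
    rcases List.mem_cons.1 hP with rfl | hP
    · exact ix
    rcases List.mem_cons.1 hP with rfl | hP
    · exact iy
    exact absurd hP List.not_mem_nil
  have iq : InG (ps G 2) q1 := by
    refine InG.ps (x := 2) ?_ (by decide +kernel)
    exact InG.word (L := [n2, px, py]) (fun P hP => iall P (by simp at hP ⊢; (clear * - hP; tauto))) (by decide +kernel)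
  have h1 : 4 * 1 ≤ Nat.card (ps G 2) :=
    card_ge_of_chk (x := 3) (L := [q1]) (C := oc2) iq (by intro P hP; rw [List.mem_singleton.1 hP]; exact iq)
      (by decide +kernel) (by decide +kernel) Nat.card_pos
  have h2 : 36 * (4 * 1) ≤ Nat.card G :=
    card_ge_of_chk (x := 2) (L := [n1, n2, px, py]) (C := oc1) i1 iall (by decide +kernel) (by decide +kernel) h1
  rw [hcard] at h2
  exact h2

theorem noPEx_three {S : Type u} [Group S] (h : Spor.IsoHS S) : NoPEx 3 S := by
  obtain ⟨e⟩ := h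
  obtain ⟨⟨f⟩, -⟩ := Cfsg.Agent.HN.AutHS.nonempty_Q
  refine noPEx_of_equiv (f.trans e.symm) ?_
  intro V _ _ _ hV hf hst
  obtain ⟨P, hP⟩ := exists_sylow
  have h1 := noPEx_of_atool_aux (V := V) (p := 3) adata (by norm_num) hV hf 1
    ⟨1, fun h => elP_one_ne (congrArg Subtype.val h)⟩ hT P R (by decide) (by
      intro c
      obtain ⟨r, hr, g, hg, hrel⟩ := hR c
      exact ⟨r, hr, g, by rw [← hP] at hg; exact hg, hrel⟩) (Subgroup.normalizer (P0 : Set Q)) (by
      intro x hx g hg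
      have hg' : g ∈ P0 := by rw [← hP]; exact hg
      have h2 := (Subgroup.mem_normalizer_iff.1 (Subgroup.inv_mem _ hx) g).1 hg'
      rw [inv_inv] at h2
      change x⁻¹ * g * x ∈ (P : Subgroup Q)
      rw [hP]
      exact h2) hst
  rw [R_card] at h1
  have h2 := (Subgroup.normalizer (P0 : Set Q)).index_mul_card
  rw [card_Q] at h2
  have h3 := le_card_norm
  have h4 : 3 ^ 12 * 144 ≤ 44352000 := by
    rw [← h2]
    exact Nat.mul_le_mul h1 h3
  norm_num at h4

/-- **The row `HS`, `p = 3`** -/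
theorem ek_three_hs {S : Type u} [Group S] [Finite S] (h : Spor.IsoHS S) : EK 3 S := by
  refine ek_of_noPEx (noPEx_three h) Nat.prime_two ?_
  intro E _ _ π hπ hc hE
  obtain ⟨e⟩ := h
  have h1 := Cfsg.Agent.H95.StemCover.card_ker_dvd_cyclic S2046.result hE (e.toMonoidHom.comp π)
    (e.surjective.comp hπ) (by
      intro x hx
      refine hc ?_
      have h2 : e (π x) = 1 := hx
      exact (map_eq_one_iff e e.injective).1 h2)
  have h2 : (e.toMonoidHom.comp π).ker = π.ker := by
    ext x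
    change e (π x) = 1 ↔ π x = 1
    rw [map_eq_one_iff e e.injective]
  rwa [h2] at h1

end Cfsg.Agent.H257.RIM.HS
end

-- part: H266/RIM/ASeven
section
/-!
# S4816: central extensions of `A₇` by a group of order 3 have, over every character of the kernel, an irreducible character
of degree divisible by 7 (helper266)
-/

set_option autoImplicit false
set_option maxRecDepth 100000

namespace Cfsg.Agent.H266.RIM

open Subgroup Equiv
open Cfsg Cfsg.Agent.H622.Over Cfsg.Agent.H849.RIM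

universe u

abbrev A := alternatingGroup (Fin 7)

def cp : Perm (Fin 7) := finRotate 7

def cA : A := ⟨cp, by rw [Equiv.Perm.mem_alternatingGroup]; decide⟩

theorem cA_pow : cA ^ 7 = 1 := by
  apply Subtype.ext
  change cp ^ 7 = 1
  decide +kernel

theorem cA_ne : cA ≠ 1 := by
  intro h
  have h1 : cp = 1 := congrArg Subtype.val h
  exact absurd h1 (by decide)

theorem orderOf_cA : orderOf cA = 7 := by
  have : Fact (Nat.Prime 7) := ⟨by norm_num⟩
  exact orderOf_eq_prime cA_pow cA_ne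

theorem card_A : Nat.card A = 2520 := by
  rw [nat_card_alternatingGroup, Nat.card_eq_fintype_card, Fintype.card_fin]
  rfl

theorem cp_zero : ∀ a : Fin 7, ∃ k : Fin 7, (cp ^ (k : ℕ)) 0 = a := by decide +kernel

theorem cent_inj {σ τ : Perm (Fin 7)} (hσ : σ * cp = cp * σ) (hτ : τ * cp = cp * τ) (h : σ 0 = τ 0) : σ = τ := by
  ext a
  obtain ⟨k, rfl⟩ := cp_zero a
  have h1 : σ * cp ^ (k : ℕ) = cp ^ (k : ℕ) * σ := (Commute.pow_right (show Commute σ cp from hσ) _)
  have h2 : τ * cp ^ (k : ℕ) = cp ^ (k : ℕ) * τ := (Commute.pow_right (show Commute τ cp from hτ) _)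
  have h3 : σ ((cp ^ (k : ℕ)) 0) = (cp ^ (k : ℕ)) (σ 0) := congrArg (fun f : Perm (Fin 7) => f 0) h1
  have h4 : τ ((cp ^ (k : ℕ)) 0) = (cp ^ (k : ℕ)) (τ 0) := congrArg (fun f : Perm (Fin 7) => f 0) h2
  rw [h3, h4, h]

theorem card_cent_cA : Nat.card (centralizer ({cA} : Set A)) = 7 := by
  refine le_antisymm ?_ ?_
  · let f : centralizer ({cA} : Set A) → Fin 7 := fun g => (g.1.1 : Perm (Fin 7)) 0
    have hf : Function.Injective f := by
      intro a b hab
      apply Subtype.ext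
      apply Subtype.ext
      refine cent_inj ?_ ?_ hab
      · exact congrArg Subtype.val (mem_centralizer_singleton_iff.1 a.2)
      · exact congrArg Subtype.val (mem_centralizer_singleton_iff.1 b.2)
    have := Nat.card_le_card_of_injective f hf
    rwa [Nat.card_eq_fintype_card (α := Fin 7), Fintype.card_fin] at this
  · have h1 : zpowers cA ≤ centralizer ({cA} : Set A) := by
      rw [zpowers_le, mem_centralizer_singleton_iff]
    have h2 := card_le_of_le h1
    rwa [Nat.card_zpowers, orderOf_cA] at h2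

theorem card_norm_cA : Nat.card (normalizer ((zpowers cA : Subgroup A) : Set A)) = 21 := by
  have h7 : Fact (Nat.Prime 7) := ⟨by norm_num⟩
  have hf : (Nat.card A).factorization 7 = 1 := by
    rw [card_A, show 2520 = 2 ^ 3 * 3 ^ 2 * 5 * 7 by norm_num]
    rw [Nat.factorization_mul (by norm_num) (by norm_num), Nat.factorization_mul (by norm_num) (by norm_num),
      Nat.factorization_mul (by norm_num) (by norm_num), Nat.factorization_pow, Nat.factorization_pow]
    simp only [Nat.Prime.factorization Nat.prime_two, Nat.Prime.factorization Nat.prime_three,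
      Nat.Prime.factorization Nat.prime_five, Nat.Prime.factorization h7.out, _root_.Finsupp.smul_single, _root_.smul_eq_mul, _root_.mul_one, _root_.Finsupp.coe_add, _root_.Pi.add_apply, _root_.ne_eq, _root_.Nat.reduceEqDiff, _root_.not_false_eq_true, _root_.Finsupp.single_eq_of_ne, _root_.add_zero, _root_.Finsupp.single_eq_same, _root_.zero_add]
  have c1 : Nat.card (zpowers cA) = 7 ^ (Nat.card A).factorization 7 := by
    rw [Nat.card_zpowers, orderOf_cA, hf, pow_one]
  let P : Sylow 7 A := Sylow.ofCard _ c1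
  have hP : (P : Subgroup A) = zpowers cA := rfl
  have h1 : Nat.card (Sylow 7 A) = (normalizer ((P : Subgroup A) : Set A)).index := P.card_eq_index_normalizer
  rw [hP] at h1
  have h2 : Nat.card (Sylow 7 A) ≡ 1 [MOD 7] := card_sylow_modEq_one 7 A
  have h5 := (normalizer ((zpowers cA : Subgroup A) : Set A)).card_mul_index
  rw [card_A, ← h1] at h5
  have hcent : Nat.card (centralizer ((zpowers cA : Subgroup A) : Set A)) = 7 := by
    rw [zpowers_eq_closure, centralizer_closure, card_cent_cA]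
  have k1 := (zpowers cA).normalizerMonoidHom_ker
  have k2 := card_mul_index (zpowers cA).normalizerMonoidHom.ker
  have k3 : (zpowers cA).normalizerMonoidHom.ker.index ≤ 6 := by
    rw [index_ker]
    refine (card_le_card_group _).trans ?_
    rw [IsCyclic.card_mulAut, Nat.card_zpowers, orderOf_cA]
    decide
  have hle : centralizer ((zpowers cA : Subgroup A) : Set A) ≤ normalizer ((zpowers cA : Subgroup A) : Set A) :=
    centralizer_le_normalizer _
  have k4 : Nat.card (zpowers cA).normalizerMonoidHom.ker = 7 := by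
    rw [k1, Nat.card_congr (subgroupOfEquivOfLe hle).toEquiv, hcent]
  rw [k4] at k2
  generalize Nat.card (Sylow 7 A) = n at h2 h5
  generalize (zpowers cA).normalizerMonoidHom.ker.index = w at k2 k3
  rw [← k2] at h5 ⊢
  have h6 : w = 0 ∨ w = 1 ∨ w = 2 ∨ w = 3 ∨ w = 4 ∨ w = 5 ∨ w = 6 := by omega
  unfold Nat.ModEq at h2
  rcases h6 with rfl | rfl | rfl | rfl | rfl | rfl | rfl <;> (clear * - h5 h2; omega)

/-- the two classes of elements of order 7 -/
theorem not_conj_inv : ¬ IsConj cA cA⁻¹ := by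
  intro h
  obtain ⟨g, hg⟩ := isConj_iff.1 h
  have hn : g ∈ normalizer ((zpowers cA : Subgroup A) : Set A) := by
    refine mem_normalizer_fintype fun n hn => ?_
    obtain ⟨i, rfl⟩ := mem_powers_iff_mem_zpowers.2 hn
    show g * cA ^ i * g⁻¹ ∈ (zpowers cA : Subgroup A)
    rw [← conj_pow, hg]
    exact pow_mem (inv_mem (mem_zpowers cA)) i
  have h1 : orderOf (⟨g, hn⟩ : normalizer ((zpowers cA : Subgroup A) : Set A)) ∣ 21 := by
    rw [← card_norm_cA]
    exact _root_.orderOf_dvd_natCard _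
  rw [← orderOf_submonoid] at h1
  have hg' : g ^ 21 = 1 := orderOf_dvd_iff_pow_eq_one.1 h1
  -- `g ^ 21` inverts `cA`
  have key : ∀ n : ℕ, g ^ (2 * n + 1) * cA * (g ^ (2 * n + 1))⁻¹ = cA⁻¹ := by
    intro n
    induction n with
    | zero => simpa only [_root_.MulZeroClass.mul_zero, _root_.zero_add, _root_.pow_one] using hg
    | succ n ih =>
      have e1 : g ^ (2 * (n + 1) + 1) = g * (g * g ^ (2 * n + 1)) := by
        rw [← pow_succ', ← pow_succ']
        congr 1
      rw [e1]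
      calc g * (g * g ^ (2 * n + 1)) * cA * (g * (g * g ^ (2 * n + 1)))⁻¹
          = g * (g * (g ^ (2 * n + 1) * cA * (g ^ (2 * n + 1))⁻¹) * g⁻¹) * g⁻¹ := by group
        _ = g * (g * cA⁻¹ * g⁻¹) * g⁻¹ := by rw [ih]
        _ = g * (g * cA * g⁻¹)⁻¹ * g⁻¹ := by group
        _ = g * cA * g⁻¹ := by rw [hg, inv_inv]; exact hg
        _ = cA⁻¹ := hg
  have h2 := key 10
  rw [show 2 * 10 + 1 = 21 by norm_num, hg'] at h2
  have h3 : cA ^ 2 = 1 := by
    have h4 : cA = cA⁻¹ := by simpa only [_root_.one_mul, _root_.inv_one, _root_.mul_one] using h2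
    rw [pow_two]
    nth_rewrite 1 [h4]
    exact inv_mul_cancel cA
  have h4 := orderOf_dvd_of_pow_eq_one h3
  rw [orderOf_cA] at h4
  omega

/-! ### the classes of order prime to 3 -/

def p2 : Perm (Fin 7) := swap (0 : Fin 7) 1 * swap (2 : Fin 7) 3
def p4 : Perm (Fin 7) := swap (0 : Fin 7) 1 * (swap (1 : Fin 7) 2 * (swap (2 : Fin 7) 3 * swap (4 : Fin 7) 5))
def p5 : Perm (Fin 7) := swap (0 : Fin 7) 1 * (swap (1 : Fin 7) 2 * (swap (2 : Fin 7) 3 * swap (3 : Fin 7) 4))

def a2 : A := ⟨p2, by rw [Equiv.Perm.mem_alternatingGroup]; decide⟩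
def a4 : A := ⟨p4, by rw [Equiv.Perm.mem_alternatingGroup]; decide⟩
def a5 : A := ⟨p5, by rw [Equiv.Perm.mem_alternatingGroup]; decide⟩

theorem orderOf_a2 : orderOf a2 = 2 := by
  have h : Fact (Nat.Prime 2) := ⟨by norm_num⟩
  refine orderOf_eq_prime (Subtype.ext ?_) fun h => ?_
  · change p2 ^ 2 = 1
    decide +kernel
  · have h1 : p2 = 1 := congrArg Subtype.val h
    exact absurd h1 (by decide)

theorem orderOf_a5 : orderOf a5 = 5 := by
  have h : Fact (Nat.Prime 5) := ⟨by norm_num⟩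
  refine orderOf_eq_prime (Subtype.ext ?_) fun h => ?_
  · change p5 ^ 5 = 1
    decide +kernel
  · have h1 : p5 = 1 := congrArg Subtype.val h
    exact absurd h1 (by decide)

theorem orderOf_a4 : orderOf a4 = 4 := by
  have h : Fact (Nat.Prime 2) := ⟨by norm_num⟩
  refine orderOf_eq_prime_pow (p := 2) (n := 1) (fun h => ?_) (Subtype.ext ?_)
  · have h1 : p4 ^ 2 = 1 := (congrArg Subtype.val h :)
    exact absurd h1 (by decide +kernel)
  · change p4 ^ 4 = 1
    decide +kernel

theorem not_conj_of_order {G : Type*} [Group G] {a b : G} (h : orderOf a ≠ orderOf b) : ¬ IsConj a b := by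
  intro hc
  obtain ⟨c, rfl⟩ := isConj_iff.1 hc
  exact h ((MulAut.conj c).orderOf_eq a).symm

theorem exists_F {m : ℕ} (h2 : Nat.Coprime 2 m) (h5 : Nat.Coprime 5 m) (h7 : Nat.Coprime 7 m) {T : Type*} [Group T] (e : A ≃* T) :
    ∃ F : Finset (ConjClasses T), F.card = 6 ∧ ∀ C ∈ F, ∃ g : T, ConjClasses.mk g = C ∧ (orderOf g).Coprime m := by
  classical
  have hinj : ∀ a b : A, ¬ IsConj a b → ConjClasses.mk (e a) ≠ ConjClasses.mk (e b) := by
    intro a b h h1
    rw [ConjClasses.mk_eq_mk_iff_isConj] at h1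
    obtain ⟨c, hc⟩ := isConj_iff.1 h1
    exact h (isConj_iff.2 ⟨e.symm c, e.injective (by simpa only [_root_.map_mul, _root_.MulEquiv.apply_symm_apply, _root_.map_inv] using hc)⟩)
  have o1 : orderOf (1 : A) = 1 := orderOf_one
  have o7 : orderOf cA⁻¹ = 7 := by rw [orderOf_inv, orderOf_cA]
  refine ⟨{ConjClasses.mk (e 1), ConjClasses.mk (e a2), ConjClasses.mk (e a4), ConjClasses.mk (e a5),
    ConjClasses.mk (e cA), ConjClasses.mk (e cA⁻¹)}, ?_, ?_⟩
  · rw [Finset.card_insert_of_notMem, Finset.card_insert_of_notMem, Finset.card_insert_of_notMem,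
      Finset.card_insert_of_notMem, Finset.card_insert_of_notMem, Finset.card_singleton]
    · rw [Finset.mem_singleton]
      exact hinj _ _ not_conj_inv
    · simp only [Finset.mem_insert, Finset.mem_singleton, not_or]
      exact ⟨hinj _ _ (not_conj_of_order (by rw [orderOf_a5, orderOf_cA]; norm_num)),
        hinj _ _ (not_conj_of_order (by rw [orderOf_a5, o7]; norm_num))⟩
    · simp only [Finset.mem_insert, Finset.mem_singleton, not_or]
      exact ⟨hinj _ _ (not_conj_of_order (by rw [orderOf_a4, orderOf_a5]; norm_num)),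
        hinj _ _ (not_conj_of_order (by rw [orderOf_a4, orderOf_cA]; norm_num)),
        hinj _ _ (not_conj_of_order (by rw [orderOf_a4, o7]; norm_num))⟩
    · simp only [Finset.mem_insert, Finset.mem_singleton, not_or]
      exact ⟨hinj _ _ (not_conj_of_order (by rw [orderOf_a2, orderOf_a4]; norm_num)),
        hinj _ _ (not_conj_of_order (by rw [orderOf_a2, orderOf_a5]; norm_num)),
        hinj _ _ (not_conj_of_order (by rw [orderOf_a2, orderOf_cA]; norm_num)),
        hinj _ _ (not_conj_of_order (by rw [orderOf_a2, o7]; norm_num))⟩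
    · simp only [Finset.mem_insert, Finset.mem_singleton, not_or]
      exact ⟨hinj _ _ (not_conj_of_order (by rw [o1, orderOf_a2]; norm_num)),
        hinj _ _ (not_conj_of_order (by rw [o1, orderOf_a4]; norm_num)),
        hinj _ _ (not_conj_of_order (by rw [o1, orderOf_a5]; norm_num)),
        hinj _ _ (not_conj_of_order (by rw [o1, orderOf_cA]; norm_num)),
        hinj _ _ (not_conj_of_order (by rw [o1, o7]; norm_num))⟩
  · intro C hC
    simp only [Finset.mem_insert, Finset.mem_singleton] at hC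
    rcases hC with rfl | rfl | rfl | rfl | rfl | rfl
    · exact ⟨_, rfl, by rw [e.orderOf_eq, o1]; exact Nat.coprime_one_left m⟩
    · exact ⟨_, rfl, by rw [e.orderOf_eq, orderOf_a2]; exact h2⟩
    · exact ⟨_, rfl, by rw [e.orderOf_eq, orderOf_a4]; exact Nat.Coprime.pow_left 2 h2⟩
    · exact ⟨_, rfl, by rw [e.orderOf_eq, orderOf_a5]; exact h5⟩
    · exact ⟨_, rfl, by rw [e.orderOf_eq, orderOf_cA]; exact h7⟩
    · exact ⟨_, rfl, by rw [e.orderOf_eq, o7]; exact h7⟩

theorem card_cent_congr {S T : Type*} [Group S] [Group T] (e : S ≃* T) (y : S) :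
    Nat.card (centralizer ({e y} : Set T)) = Nat.card (centralizer ({y} : Set S)) := by
  refine (Nat.card_congr (e.toEquiv.subtypeEquiv ?_)).symm
  intro x
  rw [mem_centralizer_singleton_iff, mem_centralizer_singleton_iff]
  show x * y = y * x ↔ e x * e y = e y * e x
  rw [← map_mul, ← map_mul, e.injective.eq_iff]

theorem card_norm_congr {S T : Type*} [Group S] [Group T] (e : S ≃* T) (y : S) :
    Nat.card (normalizer ((zpowers (e y) : Subgroup T) : Set T)) =
      Nat.card (normalizer ((zpowers y : Subgroup S) : Set S)) := by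
  refine (Nat.card_congr (e.toEquiv.subtypeEquiv ?_)).symm
  intro x
  have h1 : (zpowers (e y) : Subgroup T) = (zpowers y).map e.toMonoidHom := by
    rw [MonoidHom.map_zpowers]; rfl
  rw [h1]
  rw [Subgroup.mem_normalizer_iff, Subgroup.mem_normalizer_iff]
  constructor
  · intro h n
    show n ∈ (zpowers y).map e.toMonoidHom ↔ e x * n * (e x)⁻¹ ∈ (zpowers y).map e.toMonoidHom
    obtain ⟨n, rfl⟩ := e.surjective n
    have h2 : e x * e n * (e x)⁻¹ = e.toMonoidHom (x * n * x⁻¹) := by simp only [_root_.MulEquiv.toMonoidHom_eq_coe, _root_.MonoidHom.coe_coe, _root_.map_mul, _root_.map_inv]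
    rw [h2, Subgroup.mem_map_iff_mem (f := e.toMonoidHom) e.injective]
    have h3 : e n = e.toMonoidHom n := rfl
    rw [h3, Subgroup.mem_map_iff_mem (f := e.toMonoidHom) e.injective]
    exact h n
  · intro h n
    have h2 := h (e n)
    have h3 : e.toEquiv x * e n * (e.toEquiv x)⁻¹ = e.toMonoidHom (x * n * x⁻¹) := by simp only [_root_.MulEquiv.toEquiv_eq_coe, _root_.EquivLike.coe_coe, _root_.MulEquiv.toMonoidHom_eq_coe, _root_.MonoidHom.coe_coe, _root_.map_mul, _root_.map_inv]
    rw [h3, Subgroup.mem_map_iff_mem (f := e.toMonoidHom) e.injective] at h2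
    have h4 : e n = e.toMonoidHom n := rfl
    rw [h4, Subgroup.mem_map_iff_mem (f := e.toMonoidHom) e.injective] at h2
    exact h2

/-- **Extensions of `A₇` by a central group of order prime to `2`, `5`, `7`.** -/
theorem exists_seven {G : Type u} [Group G] [Finite G] {Z : Subgroup G} [Z.Normal] (hZ : Z ≤ center G)
    (h2 : Nat.Coprime 2 (Nat.card Z)) (h5 : Nat.Coprime 5 (Nat.card Z)) (h7 : Nat.Coprime 7 (Nat.card Z)) (e : A ≃* G ⧸ Z) (c : Z →* ℂˣ) :
    ∃ χ : IrrCharacter G, Lies Z c (χ : G → ℂ) ∧ 7 ∣ charDegree (χ : G → ℂ) := by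
  have hp : Fact (Nat.Prime 7) := ⟨by norm_num⟩
  obtain ⟨F, hF1, hF2⟩ := exists_F h2 h5 h7 e
  refine exists_dz_quot (p := 7) hZ ?_ ?_ (y := e cA) ?_ (k := 1) (w := 3) ?_ ?_ c F hF2 ?_
  · exact (Nat.Prime.coprime_iff_not_dvd (by norm_num)).1 h7
  · rw [← Nat.card_congr e.toEquiv, card_A]
    norm_num
  · rw [e.orderOf_eq, orderOf_cA]
  · rw [card_cent_congr, card_cent_cA]
  · rw [card_norm_congr, card_norm_cA]
  · rw [hF1]
    norm_num

end Cfsg.Agent.H266.RIM
end

-- part: H266/RIM/FiSeven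
section
/-!
# S4816: the row `Fi24'`, `p = 7` (helper266): `C(7A) = 7 × A₇`
-/

set_option autoImplicit false
set_option maxRecDepth 100000

namespace Cfsg.Agent.H266.RIM.Fi

open Cfsg Subgroup Equiv
open Cfsg.Agent.Fischer.Fi24RepDef Cfsg.Agent.Fischer.Fi24Rep
open Cfsg.Agent.H842.Seven Cfsg.Agent.H842.SevenSyl
open Cfsg.Spor (Fi24 Fi24')
open Cfsg.Agent.H622.Over

universe u

theorem mem_comm {x : Fi24} {n : ℕ} (hn : Odd n) (h : x ^ n = 1) : x ∈ _root_.commutator Fi24 := by
  have hi : (_root_.commutator Fi24).index = 2 := Fischer.Fi24Final.index_commutator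
  have h1 : (QuotientGroup.mk x : Fi24 ⧸ _root_.commutator Fi24) ^ n = 1 := by
    rw [← QuotientGroup.mk_pow, h, QuotientGroup.mk_one]
  have h2 : orderOf (QuotientGroup.mk x : Fi24 ⧸ _root_.commutator Fi24) ∣ 2 := by
    rw [← hi, Subgroup.index_eq_card]
    exact _root_.orderOf_dvd_natCard _
  have h3 : orderOf (QuotientGroup.mk x : Fi24 ⧸ _root_.commutator Fi24) ∣ n := orderOf_dvd_of_pow_eq_one h1
  have h4 : Nat.Coprime 2 n := (Nat.coprime_two_left).2 hn
  have h5 := Nat.eq_one_of_dvd_coprimes h4 h2 h3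
  rw [orderOf_eq_one_iff] at h5
  exact (QuotientGroup.eq_one_iff x).1 h5

theorem y7_order : orderOf y7 = 7 := by
  have : Fact (Nat.Prime 7) := ⟨by norm_num⟩
  exact orderOf_eq_prime y7_pow y7_ne

/-- the element of order 7 -/
noncomputable def yy : Fi24' := ⟨y7, mem_comm (n := 7) (by decide) y7_pow⟩

theorem yy_order : orderOf yy = 7 := by rw [← Subgroup.orderOf_coe]; exact y7_order

theorem alt_le : alternatingGroup (Fin 7) ≤ (_root_.commutator Fi24).comap Psi := by
  rw [← Equiv.Perm.closure_three_cycles_eq_alternating, closure_le]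
  intro σ hσ
  have h3 : σ ^ 3 = 1 := by
    have : orderOf σ = 3 := Equiv.Perm.IsThreeCycle.orderOf hσ
    rw [← this, pow_orderOf_eq_one]
  exact mem_comm (n := 3) (by decide) (by rw [← map_pow, h3, map_one])

theorem odd_not {σ : Perm (Fin 7)} (h : Psi σ ∈ _root_.commutator Fi24) : σ ∈ alternatingGroup (Fin 7) := by
  rw [Equiv.Perm.mem_alternatingGroup]
  rcases Int.units_eq_one_or (Equiv.Perm.sign σ) with h1 | h1
  · exact h1
  · exfalso
    have h01 : (0 : Fin 7) ≠ 1 := by decide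
    have h2 : swap (0 : Fin 7) 1 * σ ∈ alternatingGroup (Fin 7) := by
      rw [Equiv.Perm.mem_alternatingGroup, Equiv.Perm.sign_mul, h1, Equiv.Perm.sign_swap h01]
      rfl
    have h3 : Psi (swap (0 : Fin 7) 1 * σ) ∈ _root_.commutator Fi24 := alt_le h2
    rw [map_mul] at h3
    have h4 : Psi (swap (0 : Fin 7) 1) ∈ _root_.commutator Fi24 := (Subgroup.mul_mem_cancel_right _ h).1 h3
    exact Cfsg.Agent.R08.FiTwentyFour.odd (Psi_mem_L h01) h4

/-- `A₇` in `Fi24'` -/
noncomputable def ps : A →* Fi24' where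
  toFun σ := ⟨Psi σ.1, alt_le σ.2⟩
  map_one' := Subtype.ext (by simp only [_root_.OneMemClass.coe_one, _root_.map_one])
  map_mul' a b := Subtype.ext (by simp only [_root_.Subgroup.coe_mul, _root_.map_mul])

theorem ps_injective : Function.Injective ps := by
  intro a b h
  exact Subtype.ext (Psi_injective (congrArg Subtype.val h))

theorem cent_eq : centralizer ({yy} : Set Fi24') = zpowers yy ⊔ ps.range := by
  apply le_antisymm
  · intro n hn
    rw [mem_centralizer_singleton_iff] at hn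
    have h1 : n.1 * y7 = y7 * n.1 := congrArg Subtype.val hn
    obtain ⟨i, σ, h2⟩ := exists_of_comm7 h1
    have h3 : Psi σ ∈ _root_.commutator Fi24 := by
      have h4 : Psi σ = (y7 ^ i)⁻¹ * n.1 := by rw [h2]; group
      rw [h4]
      exact mul_mem (inv_mem (pow_mem (yy.2) i)) n.2
    have h5 : n = yy ^ i * ps ⟨σ, odd_not h3⟩ := Subtype.ext h2
    rw [h5]
    exact mul_mem (mem_sup_left (pow_mem (mem_zpowers yy) i)) (mem_sup_right ⟨_, rfl⟩)
  · refine sup_le ?_ ?_
    · rw [zpowers_le, mem_centralizer_singleton_iff]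
    · rintro _ ⟨σ, rfl⟩
      rw [mem_centralizer_singleton_iff]
      exact Subtype.ext (y7_Psi σ.1).eq

theorem card_range : Nat.card ps.range = 2520 := by
  rw [← card_A]
  exact (Nat.card_congr (MonoidHom.ofInjective ps_injective).toEquiv).symm

theorem exists_third : ∀ a b : Fin 7, ∃ c : Fin 7, c ≠ a ∧ c ≠ b := by decide +kernel

/-- a power of `y7` in the range of `Psi` is trivial -/
theorem inf_eq : zpowers yy ⊓ ps.range = ⊥ := by
  rw [eq_bot_iff]
  rintro x ⟨hx1, σ, rfl⟩
  obtain ⟨k, hk⟩ := hx1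
  have h1 : y7 ^ k = Psi σ.1 := congrArg Subtype.val hk
  -- `σ` commutes with everything in `A₇`
  have h2 : ∀ τ : Perm (Fin 7), σ.1 * τ = τ * σ.1 := by
    intro τ
    apply Psi_injective
    rw [map_mul, map_mul, ← h1]
    exact ((y7_Psi τ).symm.zpow_left k).eq
  have h3 : σ.1 = 1 := by
    ext a
    by_contra hne
    have hne' : σ.1 a ≠ a := fun h => hne (by rw [h]; rfl)
    obtain ⟨c, hc1, hc2⟩ := exists_third a (σ.1 a)
    have h4 : σ.1 (swap a c a) = swap a c (σ.1 a) := congrArg (fun f : Perm (Fin 7) => f a) (h2 (swap a c))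
    rw [swap_apply_left, swap_apply_of_ne_of_ne hne' hc2.symm] at h4
    exact hc1 (σ.1.injective h4)
  rw [mem_bot]
  exact Subtype.ext (by
    change Psi σ.1 = 1
    rw [h3, map_one])

theorem deg_dvd {G : Type*} [Group G] [Finite G] {χ : G → ℂ} (hχ : IsIrrCharacter G χ) :
    charDegree χ ∣ Nat.card G := by
  obtain ⟨n, ρ, hρ, rfl⟩ := hχ
  have h2 : charDegree ρ.character = Module.finrank ℂ (Fin n → ℂ) := by
    rw [charDegree, Representation.char_one]
    simp only [_root_.Module.finrank_fintype_fun_eq_card, _root_.Fintype.card_fin, _root_.Complex.natCast_re, _root_.Nat.floor_natCast]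
  rw [h2]
  exact Cfsg.Agent.S0135.result ρ

theorem finite_fi : Finite Fi24' := by
  have := Cfsg.Agent.R08.FiTwentyFour.finite_Fi24
  exact inferInstanceAs (Finite ↥(_root_.commutator Fi24))

theorem nb_three {K : Type u} [Group K] [Finite K] (h : Spor.IsoFi24' K) : H665.RIM.NB 7 3 K := by
  obtain ⟨φ⟩ := h
  have h7 : Fact (Nat.Prime 7) := ⟨by norm_num⟩
  have hfin := finite_fi
  set L : Subgroup K := ps.range.comap φ.toMonoidHom with hL
  have hy : orderOf (φ.symm yy) = 7 := by rw [φ.symm.orderOf_eq, yy_order]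
  have hmap : ∀ x : K, x ∈ zpowers (φ.symm yy) ↔ φ x ∈ zpowers yy := by
    intro x
    constructor
    · rintro ⟨k, rfl⟩
      exact ⟨k, by simp only [_root_.map_zpow, _root_.MulEquiv.apply_symm_apply]⟩
    · rintro ⟨k, hk⟩
      exact ⟨k, φ.injective (by simpa only [_root_.map_zpow, _root_.MulEquiv.apply_symm_apply] using hk)⟩
  refine H35.RIM.nb_of_elt (p := 7) (m := 3) (by norm_num) (x := φ.symm yy) (L := L) hy ?_ ?_ ?_ ?_
  · apply le_antisymm
    · intro n hn
      rw [mem_centralizer_singleton_iff] at hn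
      have h1 : φ n ∈ centralizer ({yy} : Set Fi24') := by
        rw [mem_centralizer_singleton_iff]
        have := congrArg φ hn
        simpa only [_root_.map_mul, _root_.MulEquiv.apply_symm_apply] using this
      rw [cent_eq] at h1
      have h2 : ∀ m ∈ zpowers yy ⊔ ps.range, φ.symm m ∈ zpowers (φ.symm yy) ⊔ L := by
        intro m hm
        have h3 : (zpowers yy ⊔ ps.range).map φ.symm.toMonoidHom ≤ zpowers (φ.symm yy) ⊔ L := by
          rw [Subgroup.map_sup]
          refine sup_le_sup ?_ ?_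
          · rw [MonoidHom.map_zpowers]
            exact le_rfl
          · rintro _ ⟨w, hw, rfl⟩
            rw [hL, mem_comap]
            simpa only [_root_.MulEquiv.toMonoidHom_eq_coe, _root_.MonoidHom.coe_coe, _root_.MulEquiv.apply_symm_apply, _root_.MonoidHom.mem_range, _root_.Subtype.exists, _root_.Equiv.Perm.mem_alternatingGroup, _root_.MonoidHom.coe_range, _root_.Set.mem_range] using hw
        exact h3 ⟨m, hm, rfl⟩
      have h4 := h2 _ h1
      rwa [φ.symm_apply_apply] at h4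
    · refine sup_le ?_ ?_
      · rw [zpowers_le, mem_centralizer_singleton_iff]
      · intro x hx
        rw [mem_centralizer_singleton_iff]
        have h1 : φ x ∈ centralizer ({yy} : Set Fi24') := by
          rw [cent_eq]
          exact mem_sup_right hx
        rw [mem_centralizer_singleton_iff] at h1
        apply φ.injective
        simpa only [_root_.map_mul, _root_.MulEquiv.apply_symm_apply] using h1
  · rw [eq_bot_iff]
    rintro x ⟨hx1, hx2⟩
    have h1 : φ x ∈ zpowers yy ⊓ ps.range := ⟨(hmap x).1 hx1, hx2⟩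
    rw [inf_eq, mem_bot] at h1
    rw [mem_bot]
    exact (map_eq_one_iff φ φ.injective).1 h1
  · rw [Nat.card_congr φ.toEquiv, Cfsg.Agent.S1698.result.2]
    norm_num
  · intro E _ _ π hπ hker hperf hcard l hl
    have hLc : Nat.card L = 2520 := by
      rw [← card_range]
      refine Nat.card_congr (φ.toEquiv.subtypeEquiv fun x => ?_)
      rfl
    -- the group `L.comap π` and its central subgroup
    set G : Subgroup E := L.comap π with hG
    set Z : Subgroup G := π.ker.subgroupOf G with hZ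
    have hkG : π.ker ≤ G := fun z hz => by
      rw [hG, mem_comap, MonoidHom.mem_ker.1 hz]
      exact one_mem _
    have hZc : Z ≤ center G := by
      intro z hz
      rw [mem_center_iff]
      intro g
      exact Subtype.ext (mem_center_iff.1 (hker (mem_subgroupOf.1 hz)) g.1)
    have hZn : Z.Normal := by rw [hZ]; infer_instance
    have hZcard : Nat.card Z = 3 := by
      rw [hZ, Nat.card_congr (subgroupOfEquivOfLe hkG).toEquiv, hcard]
    -- the quotient
    let f : G →* ps.range := {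
      toFun := fun g => ⟨φ (π g.1), g.2⟩
      map_one' := Subtype.ext (by simp only [_root_.OneMemClass.coe_one, _root_.map_one])
      map_mul' := fun a b => Subtype.ext (by simp only [_root_.Subgroup.coe_mul, _root_.map_mul]) }
    have hf : Function.Surjective f := by
      rintro ⟨w, hw⟩
      obtain ⟨g, hg⟩ := hπ (φ.symm w)
      refine ⟨⟨g, ?_⟩, Subtype.ext ?_⟩
      · rw [hG, mem_comap, hg, hL, mem_comap]
        simpa only [_root_.MulEquiv.toMonoidHom_eq_coe, _root_.MonoidHom.coe_coe, _root_.MulEquiv.apply_symm_apply, _root_.MonoidHom.mem_range, _root_.Subtype.exists, _root_.Equiv.Perm.mem_alternatingGroup] using hw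
      · change φ (π g) = w
        rw [hg, φ.apply_symm_apply]
    have hfk : f.ker = Z := by
      ext g
      rw [MonoidHom.mem_ker, hZ, mem_subgroupOf, MonoidHom.mem_ker]
      constructor
      · intro h
        have h1 : φ (π g.1) = 1 := congrArg Subtype.val h
        exact (map_eq_one_iff φ φ.injective).1 h1
      · intro h
        apply Subtype.ext
        change φ (π g.1) = 1
        rw [h, map_one]
    have e1 : G ⧸ Z ≃* ps.range :=
      (QuotientGroup.quotientMulEquivOfEq hfk.symm).trans (QuotientGroup.quotientKerEquivOfSurjective f hf)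
    have e2 : A ≃* ps.range := MonoidHom.ofInjective ps_injective
    let c : Z →* ℂˣ := l.comp (subgroupOfEquivOfLe hkG).toMonoidHom
    obtain ⟨χ, hχ1, hχ2⟩ := exists_seven hZc (by rw [hZcard]; norm_num) (by rw [hZcard]; norm_num)
      (by rw [hZcard]; norm_num) (e2.trans e1.symm) c
    refine ⟨χ, χ.2, ?_, ?_⟩
    · intro z hz hz'
      have h1 := hχ1 1 ⟨⟨z, hz'⟩, hz⟩
      rw [one_mul] at h1
      exact h1
    · have hd0 : charDegree (χ : G → ℂ) ≠ 0 := by
        intro h0
        obtain ⟨n, hn, hn'⟩ := Cfsg.Agent.Characters.Core.isIrr_apply_one χ.2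
        unfold charDegree at h0
        rw [hn'] at h0
        simp at h0
        omega
      have hb : (Nat.card L).factorization 7 = 1 := by
        rw [hLc, show 2520 = 2 ^ 3 * 3 ^ 2 * 5 * 7 by norm_num]
        rw [Nat.factorization_mul (by norm_num) (by norm_num), Nat.factorization_mul (by norm_num) (by norm_num),
          Nat.factorization_mul (by norm_num) (by norm_num), Nat.factorization_pow, Nat.factorization_pow]
        simp only [Nat.Prime.factorization Nat.prime_two, Nat.Prime.factorization Nat.prime_three,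
          Nat.Prime.factorization Nat.prime_five, Nat.Prime.factorization h7.out, _root_.Finsupp.smul_single, _root_.smul_eq_mul, _root_.mul_one, _root_.Finsupp.coe_add, _root_.Pi.add_apply, _root_.ne_eq, _root_.Nat.reduceEqDiff, _root_.not_false_eq_true, _root_.Finsupp.single_eq_of_ne, _root_.add_zero, _root_.Finsupp.single_eq_same, _root_.zero_add]
      rw [hb]
      refine le_antisymm ?_ ?_
      · have h1 : charDegree (χ : G → ℂ) ∣ Nat.card G := deg_dvd χ.2
        have h2 : Nat.card G = 2520 * 3 := by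
          have := Z.card_eq_card_quotient_mul_card_subgroup
          rw [hZcard, Nat.card_congr e1.toEquiv, card_range] at this
          exact this
        rw [h2] at h1
        have h3 := (Nat.factorization_le_iff_dvd hd0 (by norm_num)).2 h1 7
        refine h3.trans ?_
        rw [show 2520 * 3 = 2 ^ 3 * 3 ^ 3 * 5 * 7 by norm_num]
        rw [Nat.factorization_mul (by norm_num) (by norm_num), Nat.factorization_mul (by norm_num) (by norm_num),
          Nat.factorization_mul (by norm_num) (by norm_num), Nat.factorization_pow, Nat.factorization_pow]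
        simp only [Nat.Prime.factorization Nat.prime_two, Nat.Prime.factorization Nat.prime_three,
          Nat.Prime.factorization Nat.prime_five, Nat.Prime.factorization h7.out, _root_.Finsupp.smul_single, _root_.smul_eq_mul, _root_.mul_one, _root_.Finsupp.coe_add, _root_.Pi.add_apply, _root_.ne_eq, _root_.Nat.reduceEqDiff, _root_.not_false_eq_true, _root_.Finsupp.single_eq_of_ne, _root_.add_zero, _root_.Finsupp.single_eq_same, _root_.zero_add, _root_.Std.le_refl]
      · exact (h7.out.dvd_iff_one_le_factorization hd0).1 hχ2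

/-- **`Fi24'`, `p = 7`.** -/
theorem nball_seven {K : Type u} [Group K] [Finite K] (h : Spor.IsoFi24' K) : H665.RIM.NBall.{u} 7 K := by
  refine H620.RIM.nball_of_mdvd (H620.RIM.dvd_fi24 h) fun m hm hm2 _ => ?_
  rcases (Nat.dvd_prime Nat.prime_three).1 hm with rfl | rfl
  · omega
  · exact nb_three h

end Cfsg.Agent.H266.RIM.Fi
end

-- part: H306/RIM/HS
section
/-!
# S4816: the rows `HS`, `p = 7, 11` (helper306)

Eight classes of elements of odd order: 1, 3, 5A, 5B, 5C, 7, 11A, 11B.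
-/

set_option autoImplicit false

namespace Cfsg.Agent.H306.RIM.HS

open Cfsg Subgroup Cfsg.Agent.H665.RIM Cfsg.Agent.H121.K6.HS Cfsg.Agent.HN.HS100 Cfsg.Agent.HN.AutHS
open Cfsg.Agent.HN.AutBound Equiv

universe u

variable {S : Type u} [Group S]

def ords : Fin 8 → ℕ := ![1, 3, 5, 5, 5, 7, 11, 11]

theorem ords_eq : ∀ i j : Fin 8, ords i = ords j → i ≠ j →
    (i = 2 ∧ j = 3) ∨ (i = 3 ∧ j = 2) ∨ (i = 2 ∧ j = 4) ∨ (i = 4 ∧ j = 2) ∨ (i = 3 ∧ j = 4) ∨ (i = 4 ∧ j = 3) ∨
      (i = 6 ∧ j = 7) ∨ (i = 7 ∧ j = 6) := by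
  decide

theorem ords_cop : ∀ i : Fin 8, (ords i).Coprime 2 := by decide

theorem aj_of_isConj {x y : Q} (h : IsConj x y) : aj (x : Perm (Fin 100)) = aj (y : Perm (Fin 100)) := by
  obtain ⟨g, hg⟩ := isConj_iff.1 h
  rw [← hg]
  exact (aj_conj (Q_le g.2) (x : Perm (Fin 100))).symm

theorem order_eA : orderOf eA = 5 := by
  have h5 : Fact (Nat.Prime 5) := ⟨Nat.prime_five⟩
  refine orderOf_eq_prime (Subtype.ext pxA) fun h => ?_
  have h1 : aj (eA : Perm (Fin 100)) = 50 := ajA
  have h2 : aj (1 : Perm (Fin 100)) = 0 := by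
    unfold aj
    rw [Finset.card_eq_zero, Finset.filter_eq_empty_iff]
    intro i _
    rw [Perm.one_apply, Cfsg.Agent.HN.SrgHS.ad_self]
    norm_num
  rw [h, OneMemClass.coe_one, h2] at h1
  norm_num at h1

theorem order_eC : orderOf eC = 5 := by
  have h5 : Fact (Nat.Prime 5) := ⟨Nat.prime_five⟩
  refine orderOf_eq_prime (Subtype.ext pxC) fun h => ?_
  have h1 : aj (eC : Perm (Fin 100)) = 10 := ajC
  have h2 : aj (1 : Perm (Fin 100)) = 0 := by
    unfold aj
    rw [Finset.card_eq_zero, Finset.filter_eq_empty_iff]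
    intro i _
    rw [Perm.one_apply, Cfsg.Agent.HN.SrgHS.ad_self]
    norm_num
  rw [h, OneMemClass.coe_one, h2] at h1
  norm_num at h1

theorem order_eB : orderOf eB = 5 := by
  have h5 : Fact (Nat.Prime 5) := ⟨Nat.prime_five⟩
  refine orderOf_eq_prime (Subtype.ext pxB) fun h => ?_
  have h0 : PxB = 1 := congrArg Subtype.val h
  have h1 := congrArg (fun g : Perm (Fin 100) => ((g 0 : Fin 100) : ℕ)) h0
  revert h1
  decide +kernel

theorem exists_elts [Finite S] (h : Spor.IsoHS S) :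
    ∃ g : Fin 8 → S, (∀ i, orderOf (g i) = ords i) ∧ (∀ i j, IsConj (g i) (g j) → i = j) := by
  have h' := h
  obtain ⟨e⟩ := h'
  obtain ⟨f⟩ := nonempty_Q.1
  let φ : Q ≃* S := f.trans e.symm
  have hcard : Nat.card S = 44352000 := by rw [← Nat.card_congr φ.toEquiv, card_Q]
  have f3 := Fact.mk Nat.prime_three
  have f7 : Fact (Nat.Prime 7) := ⟨by norm_num⟩
  have f11 : Fact (Nat.Prime 11) := ⟨by norm_num⟩
  obtain ⟨u, hu⟩ := exists_prime_orderOf_dvd_card' (G := S) 3 (by rw [hcard]; norm_num)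
  obtain ⟨a, ha⟩ := exists_prime_orderOf_dvd_card' (G := S) 7 (by rw [hcard]; norm_num)
  obtain ⟨b, hb⟩ := exists_prime_orderOf_dvd_card' (G := S) 11 (by rw [hcard]; norm_num)
  have hb2 : orderOf (b ^ 2) = 11 := ord_pow hb (by norm_num)
  have nb : ¬ IsConj b (b ^ 2) := by
    have h2 := (Cfsg.Agent.H904.TwoHS.eleven h)
    obtain ⟨-, -, H⟩ := h2
    have h3 := H (zpowers b) (by rw [Nat.card_zpowers, hb])
    exact not_conj hb (e := 5) (by rw [Cfsg.Agent.H904.HSIso.card_eleven h hb, h3.2]) (by norm_num)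
  have hφ : ∀ {x y : Q}, IsConj (φ x) (φ y) → aj (x : Perm (Fin 100)) = aj (y : Perm (Fin 100)) := by
    intro x y hxy
    have h1 := φ.symm.toMonoidHom.map_isConj hxy
    exact aj_of_isConj (by simpa only [_root_.isConj_iff, _root_.Subtype.exists, _root_.MulEquiv.toMonoidHom_eq_coe, _root_.MonoidHom.coe_coe, _root_.MulEquiv.symm_apply_apply] using h1)
  have hAB : ¬ IsConj (φ eA) (φ eB) := by
    intro h1
    have h2 := hφ h1
    have h3 : aj (eA : Perm (Fin 100)) = 50 := ajA
    have h4 : aj (eB : Perm (Fin 100)) = 0 := ajB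
    omega
  have hAC : ¬ IsConj (φ eA) (φ eC) := by
    intro h1
    have h2 := hφ h1
    have h3 : aj (eA : Perm (Fin 100)) = 50 := ajA
    have h4 : aj (eC : Perm (Fin 100)) = 10 := ajC
    omega
  have hBC : ¬ IsConj (φ eB) (φ eC) := by
    intro h1
    have h2 := hφ h1
    have h3 : aj (eB : Perm (Fin 100)) = 0 := ajB
    have h4 : aj (eC : Perm (Fin 100)) = 10 := ajC
    omega
  have hoφ : ∀ x : Q, orderOf (φ x) = orderOf x := fun x => orderOf_injective φ.toMonoidHom φ.injective x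
  let g : Fin 8 → S := ![1, u, φ eA, φ eB, φ eC, a, b, b ^ 2]
  have ho : ∀ i, orderOf (g i) = ords i := by
    intro i
    fin_cases i
    · exact orderOf_one
    · exact hu
    · exact (hoφ _).trans order_eA
    · exact (hoφ _).trans order_eB
    · exact (hoφ _).trans order_eC
    · exact ha
    · exact hb
    · exact hb2
  refine ⟨g, ho, fun i j hij => ?_⟩
  by_contra hne
  have h1 := order_isConj hij
  rw [ho, ho] at h1
  rcases ords_eq i j h1 hne with ⟨rfl, rfl⟩ | ⟨rfl, rfl⟩ | ⟨rfl, rfl⟩ | ⟨rfl, rfl⟩ | ⟨rfl, rfl⟩ | ⟨rfl, rfl⟩ | ⟨rfl, rfl⟩ |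
    ⟨rfl, rfl⟩
  · exact hAB hij
  · exact hAB hij.symm
  · exact hAC hij
  · exact hAC hij.symm
  · exact hBC hij
  · exact hBC hij.symm
  · exact nb hij
  · exact nb hij.symm

/-- the multiplier is 2 -/
theorem nball_of_two (h : Spor.IsoHS S) {p : ℕ} (H : NB p 2 S) : NBall p S := by
  intro m hm _ E _ _ π hπ hc hE hk l hl
  obtain ⟨e⟩ := h
  have h1 := ker_dvd Cfsg.Agent.S2046.result e π hπ hc hE
  rw [hk] at h1
  have h3 : m = 2 := by
    rcases (Nat.dvd_prime Nat.prime_two).1 h1 with h2 | h2 <;> omega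
  subst h3
  exact H E π hπ hc hE hk l hl

/-- **`HS`, `p = 7`** -/
theorem nball_seven [Finite S] (h : Spor.IsoHS S) : NBall 7 S := by
  have hcard : Nat.card S = 44352000 := KFacts.HS.card h
  have f7 : Fact (Nat.Prime 7) := ⟨by norm_num⟩
  obtain ⟨a, ha⟩ := exists_prime_orderOf_dvd_card' (G := S) 7 (by rw [hcard]; norm_num)
  obtain ⟨g, ho, hg⟩ := exists_elts h
  have h2 := Cfsg.Agent.H904.TwoHS.seven h (zpowers a) (by rw [Nat.card_zpowers, ha])
  refine nball_of_two h (nb_of_dz (by norm_num) (by rw [hcard]; norm_num) ha (k := 1) (w := 6) ?_ ?_ g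
    (fun i => by rw [ho]; exact ords_cop i) hg (by norm_num))
  · rw [Cfsg.Agent.H904.HSIso.card_seven h ha]
  · rw [h2.2]

/-- **`HS`, `p = 11`** -/
theorem nball_eleven [Finite S] (h : Spor.IsoHS S) : NBall 11 S := by
  have hcard : Nat.card S = 44352000 := KFacts.HS.card h
  have f11 : Fact (Nat.Prime 11) := ⟨by norm_num⟩
  obtain ⟨b, hb⟩ := exists_prime_orderOf_dvd_card' (G := S) 11 (by rw [hcard]; norm_num)
  obtain ⟨g, ho, hg⟩ := exists_elts h
  obtain ⟨-, -, H⟩ := Cfsg.Agent.H904.TwoHS.eleven h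
  have h2 := H (zpowers b) (by rw [Nat.card_zpowers, hb])
  refine nball_of_two h (nb_of_dz (by norm_num) (by rw [hcard]; norm_num) hb (k := 1) (w := 5) ?_ ?_ g
    (fun i => by rw [ho]; exact ords_cop i) hg (by norm_num))
  · rw [Cfsg.Agent.H904.HSIso.card_eleven h hb]
  · rw [h2.2]

end Cfsg.Agent.H306.RIM.HS
end

-- part: H535/RIM/ONAll
section
/-!
# S4816, the rows (O'N, p), p = 5, 11, 19, 31 (helper535)

The proof of `H535.RIM.ON.main` (p = 7) with one more column `B`, the class 7B (`|C| = 49`, `7 ∣ a - B`,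
`343 ∣ a + 174 A + 168 B`), used only through the existence of `B`, `B ^ 2 ≤ 49`.
-/

set_option autoImplicit false
set_option maxRecDepth 100000
set_option linter.unusedSectionVars false

open Cfsg Subgroup
open scoped ComplexConjugate

namespace Cfsg.Agent.H535.RIM.ON

open Cfsg.Agent.Characters.Core Cfsg.Agent.H622.Over Cfsg.Agent.H382.RIM
open Cfsg.Agent.H653.Sieve Cfsg.Agent.H665.RIM
open Cfsg.Agent.KFacts.ON.Cent (finite_ON)
open Cfsg.Agent.H266.ON3 (H7 phi phi_injective)
open Cfsg.Agent.H210.ON3 (ty rel C C_ne cj order_C conj_C card_C B order_B conj_B card_B card_ty)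
open Cfsg.Agent.H51.Mult (PCE)

universe u

/-! ### the check -/

/-- coefficients of a quadratic form -/
structure Cf where
  aa : ℤ
  aR : ℤ
  aS : ℤ
  aE : ℤ
  aA : ℤ
  RR : ℤ
  RS : ℤ
  RE : ℤ
  RA : ℤ
  SS : ℤ
  SE : ℤ
  SA : ℤ
  EE : ℤ
  EA : ℤ
  AA : ℤ

def qf (k : Cf) (a R S E A : ℤ) : ℤ :=
  k.aa * (a * a) + k.aR * (a * R) + k.aS * (a * S) + k.aE * (a * E) + k.aA * (a * A) + k.RR * (R * R)
    + k.RS * (R * S) + k.RE * (R * E) + k.RA * (R * A) + k.SS * (S * S) + k.SE * (S * E) + k.SA * (S * A)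
    + k.EE * (E * E) + k.EA * (E * A) + k.AA * (A * A)

def tot (k : Cf) : ℤ := k.aa * 460815505920 + k.RR * 62 + k.SS * 57 + k.EE * 11 + k.AA * 1372

def fac7 : List (ℕ × ℕ) := [(2, 9), (3, 4), (5, 1), (7, 3), (11, 1), (19, 1), (31, 1)]

def in2 (k : Cf) (d : ℕ) (R S E A : ℤ) : Bool :=
  (List.range 15).all fun j => !(decide (((d : ℤ) - ((j : ℤ) - 7)) % 7 = 0)) ||
    !(decide (((d : ℤ) + 174 * A + 168 * ((j : ℤ) - 7)) % 343 = 0)) || decide (0 ≤ qf k d R S E A)

def in1 (k : Cf) (d : ℕ) (R S E : ℤ) : Bool :=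
  (List.range 75).all fun i => !(decide (((d : ℤ) - ((i : ℤ) - 37)) % 49 = 0)) || in2 k d R S E ((i : ℤ) - 37)

def chk2 (p : ℕ) (k : Cf) (d : ℕ) : Bool :=
  bif Nat.ble 460815505921 (d * d) then true else bif Nat.beq (d % p) 0 then true else bif Nat.beq (d % 9) 0 then
    wl31.all fun x => !(Nat.beq (d % 31) x.1) || wl19.all fun y => !(Nat.beq (d % 19) y.1) ||
      wl11.all fun z => !(Nat.beq (d % 11) z.1) || in1 k d x.2 y.2 z.2
  else true

theorem in2_spec {k : Cf} {d : ℕ} {R S E A B : ℤ} (h : in2 k d R S E A = true) (hB : B * B ≤ 49)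
    (h7 : (7 : ℤ) ∣ d - B) (h343 : (343 : ℤ) ∣ d + 174 * A + 168 * B) : 0 ≤ qf k d R S E A := by
  have h1 : -7 ≤ B := by nlinarith only [hB]
  have h2 : B ≤ 7 := by nlinarith only [hB]
  obtain ⟨j, hj⟩ : ∃ j : ℕ, (j : ℤ) = B + 7 := ⟨(B + 7).toNat, Int.toNat_of_nonneg (by (clear * - h1; omega))⟩
  have h3 : j ∈ List.range 15 := List.mem_range.2 (by (clear * - h2 hj; omega))
  have h4 := List.all_eq_true.1 h j h3
  have h5 : ((j : ℤ) - 7) = B := by (clear * - hj; omega)
  rw [h5, Bool.or_eq_true, Bool.or_eq_true, Bool.not_eq_true', decide_eq_false_iff_not, Bool.not_eq_true',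
    decide_eq_false_iff_not, decide_eq_true_iff] at h4
  rcases h4 with (h4 | h4) | h4
  · exact absurd (Int.emod_eq_zero_of_dvd h7) h4
  · exact absurd (Int.emod_eq_zero_of_dvd h343) h4
  · exact h4

theorem in1_spec {k : Cf} {d : ℕ} {R S E A B : ℤ} (h : in1 k d R S E = true) (hA : A * A ≤ 1372)
    (h49 : (49 : ℤ) ∣ d - A) (hB : B * B ≤ 49)
    (h7 : (7 : ℤ) ∣ d - B) (h343 : (343 : ℤ) ∣ d + 174 * A + 168 * B) : 0 ≤ qf k d R S E A := by
  have h1 : -37 ≤ A := by nlinarith only [hA]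
  have h2 : A ≤ 37 := by nlinarith only [hA]
  obtain ⟨i, hi⟩ : ∃ i : ℕ, (i : ℤ) = A + 37 := ⟨(A + 37).toNat, Int.toNat_of_nonneg (by (clear * - h1; omega))⟩
  have h3 : i ∈ List.range 75 := List.mem_range.2 (by (clear * - h2 hi; omega))
  have h4 := List.all_eq_true.1 h i h3
  have h5 : ((i : ℤ) - 37) = A := by (clear * - hi; omega)
  rw [h5, Bool.or_eq_true, Bool.not_eq_true', decide_eq_false_iff_not] at h4
  rcases h4 with h4 | h4
  · exact absurd (Int.emod_eq_zero_of_dvd h49) h4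
  · exact in2_spec h4 hB h7 h343

theorem chk2_spec {p : ℕ} {k : Cf} {d : ℕ} {R S E A B : ℤ} (h : chk2 p k d = true) (hd : d * d < 460815505921)
    (hp : ¬ p ∣ d) (h9 : 9 ∣ d) (hR : (d % 31, R) ∈ wl31)
    (hS : (d % 19, S) ∈ wl19) (hE : (d % 11, E) ∈ wl11) (hA : A * A ≤ 1372) (h49 : (49 : ℤ) ∣ d - A)
    (hB : B * B ≤ 49) (h7 : (7 : ℤ) ∣ d - B) (h343 : (343 : ℤ) ∣ d + 174 * A + 168 * B) :
    0 ≤ qf k d R S E A := by
  have e9 : Nat.beq (d % 9) 0 = true := by rw [Nat.mod_eq_zero_of_dvd h9]; rfl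
  have e1 : Nat.ble 460815505921 (d * d) = false := by
    rw [Bool.eq_false_iff]
    intro h'
    exact absurd (Nat.le_of_ble_eq_true h') (by omega)
  have e2 : Nat.beq (d % p) 0 = false := by
    rw [Bool.eq_false_iff]
    intro h'
    exact hp (Nat.dvd_of_mod_eq_zero (Nat.eq_of_beq_eq_true h'))
  rw [chk2, e1, cond_false, e2, cond_false, e9, cond_true] at h
  have h1 := List.all_eq_true.1 h _ hR
  rw [Nat.beq_refl, Bool.not_true, Bool.false_or] at h1
  have h2 := List.all_eq_true.1 h1 _ hS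
  rw [Nat.beq_refl, Bool.not_true, Bool.false_or] at h2
  have h3 := List.all_eq_true.1 h2 _ hE
  rw [Nat.beq_refl, Bool.not_true, Bool.false_or] at h3
  exact in1_spec h3 hA h49 hB h7 h343

theorem facProd_fac7 : facProd fac7 = 460815505920 := by decide +kernel

def k5 : Cf := ⟨0, -131, -34, 73, 6, -963303, -8831183, 10429499, 1625754, -1047803, 5191520, -33789, -5429526, -334275, 64576⟩
def k11 : Cf := ⟨0, 2363, -1289, 422, -29, -179487887, -100349733, -69261000, -108287, -195232438, 227146707, 39946957, 873319965, 18791669, -41518⟩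
def k19 : Cf := ⟨1, 17461, -22783, -10563, -4080, -9025180523, 1103773806, 3676429784, -1855853410, 1075830452, 3310686740, 921234539, -1690222257, 1000128415, 29001923⟩
def k31 : Cf := ⟨2, -4865, -294633, -800116, -101051, -66198208413, -75029552640, 111601698676, 9936276480, -3884751360, -33511946007, -6233172480, 84872749615, 24893341789, 1724845871⟩

private def in2F (k : Cf) (d : ℕ) (R S E : ℤ) (i : ℕ) : Bool :=
  ([d % 7, d % 7 + 7, d % 7 + 14].all fun j => Nat.ble 15 j || !(Nat.beq ((d + 174 * i + 168 * j + 275) % 343) 0)) ||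
    decide (0 ≤ qf k d R S E ((i : ℤ) - 37))

private theorem in2_of {k : Cf} {d : ℕ} {R S E : ℤ} {i : ℕ} (h : in2F k d R S E i = true) :
    in2 k d R S E ((i : ℤ) - 37) = true := by
  refine List.all_eq_true.2 fun j hj => ?_
  rcases Bool.or_eq_true_iff.1 h with h | h
  · have h1 := List.mem_range.1 hj
    by_cases h2 : ((d : ℤ) - ((j : ℤ) - 7)) % 7 = 0
    · have h3 := List.all_eq_true.1 h j (by
        simp only [List.mem_cons, List.not_mem_nil, or_false]
        clear * - h1 h2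
        omega)
      rw [Bool.or_eq_true, Nat.ble_eq, Bool.not_eq_true', Bool.eq_false_iff, Ne, Nat.beq_eq] at h3
      rw [decide_eq_false (show ¬ ((d : ℤ) + 174 * ((i : ℤ) - 37) + 168 * ((j : ℤ) - 7)) % 343 = 0 by
        clear * - h1 h3
        omega), Bool.not_false, Bool.or_true, Bool.true_or]
    · rw [decide_eq_false h2]
      rfl
  · rw [h, Bool.or_true]

private theorem in1_of {k : Cf} {d : ℕ} {R S E : ℤ} (h : (in2F k d R S E ((d + 37) % 49) &&
    (Nat.ble 26 ((d + 37) % 49) || in2F k d R S E ((d + 37) % 49 + 49))) = true) : in1 k d R S E = true := by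
  refine List.all_eq_true.2 fun i hi => ?_
  have h1 := List.mem_range.1 hi
  by_cases h2 : ((d : ℤ) - ((i : ℤ) - 37)) % 49 = 0
  · rw [Bool.and_eq_true, Bool.or_eq_true, Nat.ble_eq] at h
    have h3 : i = (d + 37) % 49 ∨ ¬ 26 ≤ (d + 37) % 49 ∧ i = (d + 37) % 49 + 49 := by
      clear * - h1 h2
      omega
    rw [in2_of (h3.elim (fun e => e ▸ h.1) fun e => e.2 ▸ h.2.resolve_left e.1), Bool.or_true]
  · rw [decide_eq_false h2]
    rfl

private theorem chk_of {p : ℕ} {k : Cf} (h : (Nat.ble 460815505921 ((678833 + 1) * (678833 + 1)) &&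
    SieveFast.resK [(9, [0]), (31, wl31.map Prod.fst)] (fun d => SieveFast.fN d fun d =>
      bif Nat.ble 460815505921 (d * d) then true else bif Nat.beq (d % p) 0 then true else
      wl31.all fun x => !(Nat.beq (d % 31) x.1) || wl19.all fun y => !(Nat.beq (d % 19) y.1) ||
        wl11.all fun z => !(Nat.beq (d % 11) z.1) || (in2F k d x.2 y.2 z.2 ((d + 37) % 49) &&
          (Nat.ble 26 ((d + 37) % 49) || in2F k d x.2 y.2 z.2 ((d + 37) % 49 + 49))))
      fun u => SieveFast.adv 678833 u fac7 1) = true) : allDiv 460815505921 (chk2 p k) fac7 1 = true := by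
  refine SieveFast.filt 678833 _ (fun d x hx hd => ?_) (fun d hd => ?_) h
  · rw [chk2]
    rcases List.mem_cons.1 hx with rfl | hx
    · rw [show Nat.beq (d % 9) 0 = false from Bool.eq_false_iff.2 fun h => hd (List.mem_singleton.2 (Nat.eq_of_beq_eq_true h)),
        cond_false, Bool.cond_self, Bool.cond_self]
    · rw [List.mem_singleton.1 hx] at hd
      rw [List.all_eq_true.2 fun x hx => ?_, Bool.cond_self, Bool.cond_self, Bool.cond_self]
      rw [show Nat.beq (d % 31) x.1 = false from Bool.eq_false_iff.2 fun h =>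
        hd (List.mem_map.2 ⟨x, hx, (Nat.eq_of_beq_eq_true h).symm⟩)]
      rfl
  · rw [chk2]
    cases h0 : Nat.ble 460815505921 (d * d)
    swap
    · rfl
    cases h1 : Nat.beq (d % p) 0
    · rw [h0, h1] at hd
      rw [List.all_eq_true.2 fun x hx => ?_, Bool.cond_self, Bool.cond_self, Bool.cond_self]
      exact Bool.or_eq_true_iff.2 ((Bool.or_eq_true_iff.1 (List.all_eq_true.1 hd x hx)).imp id fun h2 =>
        List.all_eq_true.2 fun y hy => Bool.or_eq_true_iff.2 ((Bool.or_eq_true_iff.1 (List.all_eq_true.1 h2 y hy)).imp id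
          fun h3 => List.all_eq_true.2 fun z hz => Bool.or_eq_true_iff.2
            ((Bool.or_eq_true_iff.1 (List.all_eq_true.1 h3 z hz)).imp id in1_of)))
    · rfl

theorem k5_ok : allDiv 460815505921 (chk2 5 k5) fac7 1 = true := chk_of (by decide +kernel)
theorem k11_ok : allDiv 460815505921 (chk2 11 k11) fac7 1 = true := chk_of (by decide +kernel)
theorem k19_ok : allDiv 460815505921 (chk2 19 k19) fac7 1 = true := chk_of (by decide +kernel)
theorem k31_ok : allDiv 460815505921 (chk2 31 k31) fac7 1 = true := chk_of (by decide +kernel)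

/-! ### the Sylow subgroup -/

section

variable {G : Type u} [Group G] [Finite G] {Z : Subgroup G} [Z.Normal]

/-- the sum over the Sylow subgroup -/
theorem dvd_343 (e : (G ⧸ Z) ≃* Spor.ON) (hZ : Z ≤ center G) (h3 : Nat.card Z = 3) {u v : G} (hu : orderOf u = 7)
    (hue : e (u : G ⧸ Z) = C) (hv : orderOf v = 7) (hve : e (v : G ⧸ Z) = B) (χ : IrrCharacter G) {A A' : ℤ}
    (hA : (χ : G → ℂ) u = A) (hA' : (χ : G → ℂ) v = A') :
    (343 : ℤ) ∣ (charDegree (χ : G → ℂ) : ℤ) + 174 * A + 168 * A' := by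
  classical
  have h7F : Fact (Nat.Prime 7) := ⟨by norm_num⟩
  let R : Subgroup Spor.ON := (phi rel).range
  have hR : Nat.card R = 343 := by
    show Nat.card (phi rel).range = 343
    rw [← Nat.card_congr (MonoidHom.ofInjective (phi_injective rel C_ne)).toEquiv, H7.card]
  let D' : Subgroup G := (R.comap e.toMonoidHom).comap (QuotientGroup.mk' Z)
  have hD' : Nat.card D' = 343 * 3 := by
    show Nat.card ((R.comap e.toMonoidHom).comap (QuotientGroup.mk' Z)) = _
    rw [H849.RIM.card_comap, h3]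
    congr 1
    rw [← hR]
    exact Nat.card_congr
      { toFun := fun x => ⟨e x.1, x.2⟩
        invFun := fun x => ⟨e.symm x.1, by rw [mem_comap]; show e (e.symm x.1) ∈ R; rw [e.apply_symm_apply]; exact x.2⟩
        left_inv := fun x => Subtype.ext (e.symm_apply_apply _)
        right_inv := fun x => Subtype.ext (e.apply_symm_apply _) }
  obtain ⟨P⟩ : Nonempty (Sylow 7 D') := inferInstance
  have hP : Nat.card (P : Subgroup D') = 343 := by
    have h1 := P.card_eq_multiplicity
    rw [hD', show (343 * 3 : ℕ) = 7 ^ 3 * 3 by norm_num, Nat.factorization_mul (by norm_num) (by norm_num),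
      Nat.Prime.factorization_pow (by norm_num)] at h1
    have h2 : (3 : ℕ).factorization 7 = 0 := Nat.factorization_eq_zero_of_not_dvd (by norm_num)
    rw [Finsupp.add_apply, h2, Finsupp.single_eq_same, add_zero] at h1
    rw [h1]
    norm_num
  let H : Subgroup G := (P : Subgroup D').map D'.subtype
  have hH : Nat.card H = 343 := by
    show Nat.card ((P : Subgroup D').map D'.subtype) = 343
    rw [← Nat.card_congr ((P : Subgroup D').equivMapOfInjective _ D'.subtype_injective).toEquiv, hP]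
  have hfH := Fintype.ofFinite H
  obtain ⟨m, hm⟩ := SmallSimple.TheoremBCor.exists_sum_eq (isIrr_isCharacter χ.2) H
  -- the map to `H7`
  have hord : ∀ x : H, (orderOf (x : G)).Coprime (Nat.card Z) := by
    intro x
    have h1 : orderOf (x : G) ∣ 343 := by
      rw [orderOf_coe, ← hH]
      exact _root_.orderOf_dvd_natCard x
    rw [h3]
    exact Nat.Coprime.coprime_dvd_left h1 (by norm_num)
  have hex : ∀ x : H, ∃ g : H7, phi rel g = e ((x : G) : G ⧸ Z) := by
    intro x
    obtain ⟨y, -, hy⟩ := x.2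
    have h1 : e ((x : G) : G ⧸ Z) ∈ R := by
      rw [← hy]
      exact y.2
    exact h1
  choose f hf using hex
  have hfinj : Function.Injective f := by
    intro x y hxy
    have h1 : e ((x : G) : G ⧸ Z) = e ((y : G) : G ⧸ Z) := by rw [← hf, ← hf, hxy]
    have h2 := e.injective h1
    have h4 : ((x * y⁻¹ : H) : G) ∈ Z := by
      rw [← QuotientGroup.eq_one_iff, Subgroup.coe_mul, Subgroup.coe_inv, QuotientGroup.mk_mul, QuotientGroup.mk_inv,
        h2, mul_inv_cancel]
    have h5 : orderOf (⟨((x * y⁻¹ : H) : G), h4⟩ : Z) ∣ Nat.card Z := _root_.orderOf_dvd_natCard _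
    rw [← orderOf_coe, Subgroup.coe_mk] at h5
    have h6 : orderOf ((x * y⁻¹ : H) : G) = 1 :=
      Nat.eq_one_of_dvd_coprimes (hord (x * y⁻¹)) dvd_rfl h5
    have h7 : x * y⁻¹ = 1 := Subtype.ext (orderOf_eq_one_iff.1 h6)
    exact mul_inv_eq_one.1 h7
  have hfbij : Function.Bijective f := by
    rw [Fintype.bijective_iff_injective_and_card]
    refine ⟨hfinj, ?_⟩
    rw [← Nat.card_eq_fintype_card, ← Nat.card_eq_fintype_card, hH, H7.card]
  have hval : ∀ x : H, (χ : G → ℂ) x = (if ty (f x) = 0 then ((charDegree (χ : G → ℂ) : ℤ) : ℂ) else 0) +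
      (if ty (f x) = 1 then (A : ℂ) else 0) + (if ty (f x) = 2 then (A' : ℂ) else 0) := by
    intro x
    obtain ⟨c0, c1, c2⟩ := cj.cls (f x)
    have h3' : ty (f x) = 0 ∨ ty (f x) = 1 ∨ ty (f x) = 2 := by
      have : ∀ i : Fin 3, i = 0 ∨ i = 1 ∨ i = 2 := by decide
      exact this _
    have key : ∀ {w : G} {W : Spor.ON}, orderOf w = 7 → e (w : G ⧸ Z) = W → IsConj (phi rel (f x)) W →
        (χ : G → ℂ) x = (χ : G → ℂ) w := by
      intro w W hw hwe hc
      refine H894.J4Two.apply_eq_of_isConj χ.2 (isConj_of_quot hZ (hord x) (by rw [hw, h3]; norm_num) ?_)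
      rw [hf, ← hwe] at hc
      have h7 := e.symm.toMonoidHom.map_isConj hc
      simpa only [_root_.isConj_iff, _root_.MulEquiv.toMonoidHom_eq_coe, _root_.MonoidHom.coe_coe, _root_.MulEquiv.symm_apply_apply] using h7
    rcases h3' with h | h | h
    · have h1 : phi rel (f x) = 1 := c0 h
      have h2 : e ((x : G) : G ⧸ Z) = 1 := by rw [← hf, h1]
      have h4 : (x : G) ∈ Z := (QuotientGroup.eq_one_iff _).1 (e.injective (h2.trans (map_one e).symm))
      have h5 : orderOf (⟨(x : G), h4⟩ : Z) ∣ Nat.card Z := _root_.orderOf_dvd_natCard _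
      rw [← orderOf_coe, Subgroup.coe_mk] at h5
      have h6 : (x : G) = 1 := orderOf_eq_one_iff.1 (Nat.eq_one_of_dvd_coprimes (hord x) dvd_rfl h5)
      rw [h6, h, Blocks.Knorr.charDegree_eq χ.2]
      simp
    · rw [key hu hue (c1 h), hA, h]
      simp
    · rw [key hv hve (c2 h), hA', h]
      simp
  have hsum : ∑ x : H, (χ : G → ℂ) x = ∑ g : H7, ((if ty g = 0 then ((charDegree (χ : G → ℂ) : ℤ) : ℂ) else 0) +
      (if ty g = 1 then (A : ℂ) else 0) + (if ty g = 2 then (A' : ℂ) else 0)) := by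
    rw [Finset.sum_congr rfl fun x _ => hval x]
    exact Function.Bijective.sum_comp hfbij (fun g : H7 => ((if ty g = 0 then ((charDegree (χ : G → ℂ) : ℤ) : ℂ) else 0) +
      (if ty g = 1 then (A : ℂ) else 0) + (if ty g = 2 then (A' : ℂ) else 0)))
  rw [hsum, Finset.sum_add_distrib, Finset.sum_add_distrib, ← Finset.sum_filter, ← Finset.sum_filter,
    ← Finset.sum_filter, Finset.sum_const, Finset.sum_const, Finset.sum_const, card_ty.1, card_ty.2.1, card_ty.2.2,
    hH] at hm
  refine ⟨m, ?_⟩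
  have h6 : (((charDegree (χ : G → ℂ) : ℤ) + 174 * A + 168 * A' : ℤ) : ℂ) = ((343 * m : ℤ) : ℂ) := by
    push_cast
    simp only [nsmul_eq_mul] at hm
    push_cast at hm
    linear_combination hm
  exact_mod_cast h6

theorem main2 (hZ : Z ≤ center G) (e : (G ⧸ Z) ≃* Spor.ON) (h3 : Nat.card Z = 3) (hperf : commutator G = ⊤)
    {c : Z →* ℂˣ} (hc : Function.Injective c) (p : ℕ) (k : Cf) (hk : allDiv 460815505921 (chk2 p k) fac7 1 = true)
    (htot : tot k < 0) : ∃ χ : IrrCharacter G, Lies Z c (χ : G → ℂ) ∧ p ∣ charDegree (χ : G → ℂ) := by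
  classical
  by_contra hcon
  push Not at hcon
  have := finite_irr (G := G)
  have := Fintype.ofFinite (IrrCharacter G)
  have hfG := Fintype.ofFinite G
  have h31F : Fact (Nat.Prime 31) := ⟨by norm_num⟩
  have h19F : Fact (Nat.Prime 19) := ⟨by norm_num⟩
  have h11F : Fact (Nat.Prime 11) := ⟨by norm_num⟩
  have h7F : Fact (Nat.Prime 7) := ⟨by norm_num⟩
  obtain ⟨PR, R, pR, cR, lR, qR, dR, vR⟩ := col e hZ h3 (p := 31) (f := 15) (t := 2) (by norm_num) (by norm_num)
    (by norm_num) H210.On7.h31 (by norm_num) wl31_ok c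
  obtain ⟨PS, S, pS, cS, lS, qS, dS, vS⟩ := col e hZ h3 (p := 19) (f := 6) (t := 3) (by norm_num) (by norm_num)
    (by norm_num) H210.On7.h19 (by norm_num) wl19_ok c
  obtain ⟨PE, E, pE, cE, lE, qE, dE, vE⟩ := col e hZ h3 (p := 11) (f := 10) (t := 1) (by norm_num) (by norm_num)
    (by norm_num) H210.On7.h11 (by norm_num) wl11_ok c
  -- the class 7A
  have hCe : e (e.symm C) = C := e.apply_symm_apply C
  obtain ⟨u, A, hu, ho, cA, lA, vA, qA, dA⟩ := exists_val (p := 7) hZ (by rw [h3]; norm_num) (y := e.symm C)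
    (by rw [MulEquiv.orderOf_eq, order_C]) (by
      intro w hw hw1
      obtain ⟨k, rfl⟩ := mem_zpowers_iff.1 hw
      have h1 : IsConj (C ^ k) C := conj_C (zpow_mem (mem_zpowers _) k) (by
        intro h
        apply hw1
        rw [← map_zpow, h, map_one])
      have h2 := e.symm.toMonoidHom.map_isConj h1
      simpa only [_root_.isConj_iff, _root_.MulEquiv.toMonoidHom_eq_coe, _root_.MonoidHom.coe_coe, _root_.map_zpow] using h2) c
  rw [← H620.RIM.card_centralizer_congr e (e.symm C), hCe, card_C] at qA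
  have hue : e (u : G ⧸ Z) = C := by rw [hu, hCe]
  have pA : Nat.card (zpowers u) = 7 := by rw [Nat.card_zpowers, ho]
  -- the class 7B
  have hBe : e (e.symm B) = B := e.apply_symm_apply B
  obtain ⟨v, A', hv, ho', cA', -, vA', qA', -⟩ := exists_val (p := 7) hZ (by rw [h3]; norm_num) (y := e.symm B)
    (by rw [MulEquiv.orderOf_eq, order_B]) (by
      intro w hw hw1
      obtain ⟨k, rfl⟩ := mem_zpowers_iff.1 hw
      have h1 : IsConj (B ^ k) B := conj_B (zpow_mem (mem_zpowers _) k) (by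
        intro h
        apply hw1
        rw [← map_zpow, h, map_one])
      have h2 := e.symm.toMonoidHom.map_isConj h1
      simpa only [_root_.isConj_iff, _root_.MulEquiv.toMonoidHom_eq_coe, _root_.MonoidHom.coe_coe, _root_.map_zpow] using h2) c
  rw [← H620.RIM.card_centralizer_congr e (e.symm B), hBe, card_B] at qA'
  have hve : e (v : G ⧸ Z) = B := by rw [hv, hBe]
  have pA' : Nat.card (zpowers v) = 7 := by rw [Nat.card_zpowers, ho']
  -- the sums
  have qD := sum_deg_sq hZ c (N := 460815505920) (by rw [card_G e h3, h3])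
  have xRS := cross hZ c (by norm_num) (by norm_num) (by norm_num) pR pS cR cS (by norm_num) (by norm_num) lR lS
  have xRE := cross hZ c (by norm_num) (by norm_num) (by norm_num) pR pE cR cE (by norm_num) (by norm_num) lR lE
  have xRA := cross hZ c (by norm_num) (by norm_num) (by norm_num) pR pA cR cA (by norm_num) (by norm_num) lR lA
  have xSE := cross hZ c (by norm_num) (by norm_num) (by norm_num) pS pE cS cE (by norm_num) (by norm_num) lS lE
  have xSA := cross hZ c (by norm_num) (by norm_num) (by norm_num) pS pA cS cA (by norm_num) (by norm_num) lS lA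
  have xEA := cross hZ c (by norm_num) (by norm_num) (by norm_num) pE pA cE cA (by norm_num) (by norm_num) lE lA
  have hsum : ∑ χ ∈ ov Z c, qf k (deg χ) (R χ) (S χ) (E χ) (A χ) = tot k := by
    simp only [qf, Finset.sum_add_distrib, ← Finset.mul_sum]
    rw [qD, dR, dS, dE, dA, qR, xRS, xRE, xRA, qS, xSE, xSA, qE, xEA, qA, tot]
    push_cast
    ring
  have hnn : 0 ≤ ∑ χ ∈ ov Z c, qf k (deg χ) (R χ) (S χ) (E χ) (A χ) := by
    refine Finset.sum_nonneg fun χ hχ => ?_
    have hl := mem_ov.1 hχ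
    have hdN : deg χ ∣ facProd fac7 := by
      have h1 := H639.charDegree_dvd_index hZ χ
      have h2 : Z.index = 460815505920 := by
        rw [Subgroup.index_eq_card, Nat.card_congr e.toEquiv, H474.ONC.card_ON]
      rw [h2, ← facProd_fac7] at h1
      exact h1
    have hsq : deg χ * deg χ < 460815505921 := by
      have h1 : (deg χ : ℤ) * (deg χ : ℤ) ≤ ∑ χ ∈ ov Z c, (deg χ : ℤ) * (deg χ : ℤ) :=
        Finset.single_le_sum (f := fun χ : IrrCharacter G => (deg χ : ℤ) * (deg χ : ℤ)) (fun _ _ => mul_self_nonneg _) hχ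
      rw [qD] at h1
      have h2 : deg χ * deg χ ≤ 460815505920 := by exact_mod_cast h1
      omega
    have hA2 : A χ * A χ ≤ 1372 := by
      have h1 : A χ * A χ ≤ ∑ χ ∈ ov Z c, A χ * A χ :=
        Finset.single_le_sum (f := fun χ : IrrCharacter G => A χ * A χ) (fun _ _ => mul_self_nonneg _) hχ
      rw [qA] at h1
      exact_mod_cast h1
    have hB2 : A' χ * A' χ ≤ 49 := by
      have h1 : A' χ * A' χ ≤ ∑ χ ∈ ov Z c, A' χ * A' χ :=
        Finset.single_le_sum (f := fun χ : IrrCharacter G => A' χ * A' χ) (fun _ _ => mul_self_nonneg _) hχ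
      rw [qA'] at h1
      exact_mod_cast h1
    have h7B : (7 : ℤ) ∣ (deg χ : ℤ) - A' χ := by
      have h1 := cA'.dvd χ
      rw [pA'] at h1
      obtain ⟨j, hj⟩ := h1
      refine ⟨j - A' χ, ?_⟩
      push_cast at hj
      linear_combination hj
    have hkk := allDiv_spec (L := fac7) (by decide) hk (deg χ) hdN (by rwa [one_mul])
    rw [one_mul] at hkk
    exact chk2_spec hkk hsq (hcon χ hl) (nine_dvd hZ e h3 hperf hc hl) (vR χ) (vS χ) (vE χ) hA2
      (dvd_sub e hZ h3 ho hue χ (vA χ)) hB2 h7B (dvd_343 e hZ h3 ho hue ho' hve χ (vA χ) (vA' χ))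
  rw [hsum] at hnn
  omega

end

theorem nball {p : ℕ} {S : Type u} [Group S] (h : Spor.IsoON S)
    (H : ∀ {G : Type u} [Group G] [Finite G] {Z : Subgroup G} [Z.Normal], Z ≤ center G → ((G ⧸ Z) ≃* Spor.ON) →
      Nat.card Z = 3 → commutator G = ⊤ → ∀ c : Z →* ℂˣ, Function.Injective c →
      ∃ χ : IrrCharacter G, Lies Z c (χ : G → ℂ) ∧ p ∣ charDegree (χ : G → ℂ)) : NBall p S := by
  obtain ⟨f⟩ := h
  intro m hm h7
  refine H620.RIM.nb_of_quot fun G _ _ Z _ hZ e hcard hperf c hc => ?_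
  have hp := pce hZ (e.trans f) hperf
  have hd : Nat.card Z ∣ 3 := by
    have h1 := (H68.Bounds.ker_of_hasCyclic S2052.result hp).2
    rwa [ker_eq] at h1
  rcases (Nat.dvd_prime Nat.prime_three).1 hd with h1 | h1
  · omega
  · exact H hZ (e.trans f) h1 hperf c hc

/-- **S4816, (O'N, 5)** -/
theorem nball_five {S : Type u} [Group S] (h : Spor.IsoON S) : NBall 5 S :=
  nball h fun hZ e h3 hperf _ hc => main2 hZ e h3 hperf hc 5 k5 k5_ok (by decide)

/-- **S4816, (O'N, 11)** -/
theorem nball_eleven {S : Type u} [Group S] (h : Spor.IsoON S) : NBall 11 S :=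
  nball h fun hZ e h3 hperf _ hc => main2 hZ e h3 hperf hc 11 k11 k11_ok (by decide)

/-- **S4816, (O'N, 19)** -/
theorem nball_nineteen {S : Type u} [Group S] (h : Spor.IsoON S) : NBall 19 S :=
  nball h fun hZ e h3 hperf _ hc => main2 hZ e h3 hperf hc 19 k19 k19_ok (by decide)

/-- **S4816, (O'N, 31)** -/
theorem nball_thirtyone {S : Type u} [Group S] (h : Spor.IsoON S) : NBall 31 S :=
  nball h fun hZ e h3 hperf _ hc => main2 hZ e h3 hperf hc 31 k31 k31_ok (by decide)

end Cfsg.Agent.H535.RIM.ON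
end

-- part: H620/RIM/SporA
section
/-!
# S4816: rows of the sporadic groups, first batch (helper620)

Fields of `RowsNB` and `RowsKill`: `f_ru3`, `f_ru5`, `f_on`, `f_co1_3`, `f_co1_5`, `f_fi24`, `k_j2`, `k_hs`, `k_ru`, `k_on`, `k_co1`.
-/

set_option autoImplicit false
set_option linter.unusedSectionVars false

namespace Cfsg.Agent.H620.RIM

open Cfsg Cfsg.Agent.H665.RIM Cfsg.Agent.H325.RIM Cfsg.Agent.OrdDiv Cfsg.Agent.H436

universe u

theorem f_ru3 : NBRow 3 .ru := fun _ _ _ hS _ => H300.RIM.nball_three hS.real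

theorem f_ru5 : NBRow 5 .ru := fun _ _ _ hS _ => H300.RIM.nball_five hS.real

theorem f_on : NBRow 7 .on := fun _ _ _ hS _ => H535.RIM.ON.nball_seven hS.real

theorem f_co1_3 : NBRow 3 .co1 := fun _ _ _ hS _ => H764.RIM.nball_three hS.real

theorem f_co1_5 : NBRow 5 .co1 := fun _ _ _ hS _ => H764.RIM.nball_five hS.real

theorem f_fi24 : NBRow 7 .fi24 := fun _ _ _ hS _ => H266.RIM.Fi.nball_seven hS.real

theorem k_j2 : ∀ p : ℕ, p = 5 ∨ p = 7 → KillRow.{u} p .j2 := by
  rintro p (rfl | rfl) S _ _ hS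
  · exact Or.inr (H315.RIM.ek_j2_5 hS.real)
  · exact Or.inl (H315.RIM.J2Seven.nball_j2_7 hS.real)

theorem k_hs : ∀ p : ℕ, p = 3 ∨ p = 7 ∨ p = 11 → KillRow.{u} p .hs := by
  rintro p (rfl | rfl | rfl) S _ _ hS
  · exact Or.inr (H257.RIM.HS.ek_three_hs hS.real)
  · exact Or.inl (H306.RIM.HS.nball_seven hS.real)
  · exact Or.inl (H306.RIM.HS.nball_eleven hS.real)

theorem k_ru : ∀ p : ℕ, p = 7 ∨ p = 13 ∨ p = 29 → KillRow.{u} p .ru := by
  rintro p (rfl | rfl | rfl) S _ _ hS
  · exact Or.inl (H300.RIM.nball_seven hS.real)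
  · exact Or.inl (H300.RIM.nball_thirteen hS.real)
  · exact Or.inl (H300.RIM.nball_29 hS.real)

theorem k_on : ∀ p : ℕ, p = 5 ∨ p = 11 ∨ p = 19 ∨ p = 31 → KillRow.{u} p .on := by
  rintro p (rfl | rfl | rfl | rfl) S _ _ hS
  · exact Or.inl (H535.RIM.ON.nball_five hS.real)
  · exact Or.inl (H535.RIM.ON.nball_eleven hS.real)
  · exact Or.inl (H535.RIM.ON.nball_nineteen hS.real)
  · exact Or.inl (H535.RIM.ON.nball_thirtyone hS.real)

theorem k_co1 : ∀ p : ℕ, p = 7 ∨ p = 11 ∨ p = 13 ∨ p = 23 → KillRow.{u} p .co1 := by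
  rintro p (rfl | rfl | rfl | rfl) S _ _ hS
  · exact Or.inl (H764.RIM.nball_seven hS.real)
  · exact Or.inl (H764.RIM.nball_eleven hS.real)
  · exact Or.inl (H764.RIM.nball_thirteen hS.real)
  · exact Or.inl (H764.RIM.nball_twentythree hS.real)

end Cfsg.Agent.H620.RIM
end

private theorem dce_c8cd44fa9ba4 : _root_.True := by
  try have : _root_.True := by simp only [_root_.Cfsg.Agent.H535.RIM.ON.chk2.eq_1]
  try have : _root_.True := by simp only [_root_.Cfsg.Agent.H535.RIM.ON.tot.eq_1]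
  try have : _root_.True := by simp only [_root_.Cfsg.Agent.H535.RIM.ON.qf.eq_1]
  exact _root_.True.intro
end

-- part: H620/RIM/SporB
section
prune_inst 0x115201940010000000000001250002204440000900000800059a00640020672000000000044000c001002020000040120024400308000000000000000000101201802120450810000020010801006000000000000000000000000000000041000000000000
set_option linter.all false
open scoped Cfsg.Agent.FastGrp

-- part: H243/RIM/MTw
section
/-!
# S4816, RIM-S-M12: the double cover of `M₁₂`, faithful characters (helper243)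

* `eight` : there are at least eight faithful irreducible characters;
* `eleven` : one of them has degree divisible by `11`.
-/

set_option autoImplicit false
set_option linter.unusedSectionVars false
set_option maxRecDepth 100000

namespace Cfsg.Agent.H243.RIM.MTw

open Cfsg Subgroup Cfsg.Agent.H24.M12 Cfsg.Agent.H243.RIM
open Cfsg.Agent.H932.Mt hiding rp
open Cfsg.Agent.H622.Over
open Cfsg.Agent.H24.M12 (el_eq)

/-! ### The center -/

theorem mem_Z {z : Γ} (hz : z ∈ sig.ker) : z = 1 ∨ z = neg := eq_of_sig hz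

theorem neg_mem_Z : neg ∈ sig.ker := sig_neg

theorem Z_le : sig.ker ≤ center Γ := by
  intro z hz
  rw [mem_center_iff]
  intro g
  rcases mem_Z hz with rfl | rfl
  · rw [mul_one, one_mul]
  · exact (neg_comm g).symm

theorem card_Z : Nat.card sig.ker = 2 := Cfsg.Agent.H109.QO.MTwelve.card_ker

theorem card_G : Nat.card Γ = 190080 := by
  have h1 := card_eq_card_quotient_mul_card_subgroup sig.ker
  rw [card_Z, Nat.card_congr (QuotientGroup.quotientKerEquivOfSurjective sig sig_surjective).toEquiv,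
    Cfsg.Agent.MTwelveType.SylowModel.card_M12] at h1
  rw [h1]

/-! ### Fixed points -/

/-- fixed signed points -/
def fx (g : Γ) : ℕ := (Finset.univ.filter fun k : Fin 24 => g.1.1 k = k).card

/-- fixed rows -/
def fr (g : Γ) : ℕ := (Finset.univ.filter fun i : Fin 12 => _root_.Cfsg.Agent.H932.Mt.lp g i = i).card

theorem fx_conj (x g : Γ) : fx (x * g * x⁻¹) = fx g := by
  unfold fx
  symm
  refine Finset.card_bij (fun k _ => x.1.1 k) ?_ ?_ ?_
  · intro k hk
    rw [Finset.mem_filter] at hk ⊢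
    refine ⟨Finset.mem_univ _, ?_⟩
    change x.1.1 (g.1.1 (x.1.1⁻¹ (x.1.1 k))) = x.1.1 k
    rw [show x.1.1⁻¹ (x.1.1 k) = k from x.1.1.symm_apply_apply k, hk.2]
  · intro a _ b _ h
    exact x.1.1.injective h
  · intro k hk
    rw [Finset.mem_filter] at hk
    refine ⟨x.1.1⁻¹ k, ?_, x.1.1.apply_symm_apply k⟩
    rw [Finset.mem_filter]
    refine ⟨Finset.mem_univ _, ?_⟩
    have h1 : x.1.1 (g.1.1 (x.1.1⁻¹ k)) = k := hk.2
    rw [Equiv.Perm.eq_inv_iff_eq]
    exact h1

theorem lp_one (i : Fin 12) : _root_.Cfsg.Agent.H932.Mt.lp 1 i = i := by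
  change idx (pos i) = i
  exact idx_pos i

theorem fr_conj (x g : Γ) : fr (x * g * x⁻¹) = fr g := by
  unfold fr
  symm
  have hx : ∀ i, _root_.Cfsg.Agent.H932.Mt.lp x⁻¹ (_root_.Cfsg.Agent.H932.Mt.lp x i) = i := fun i => by
    rw [← lp_mul, inv_mul_cancel, lp_one]
  have hx' : ∀ i, _root_.Cfsg.Agent.H932.Mt.lp x (_root_.Cfsg.Agent.H932.Mt.lp x⁻¹ i) = i := fun i => by
    rw [← lp_mul, mul_inv_cancel, lp_one]
  refine Finset.card_bij (fun k _ => _root_.Cfsg.Agent.H932.Mt.lp x k) ?_ ?_ ?_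
  · intro k hk
    rw [Finset.mem_filter] at hk ⊢
    refine ⟨Finset.mem_univ _, ?_⟩
    rw [lp_mul, lp_mul, hx, hk.2]
  · intro a _ b _ h
    exact (_root_.Cfsg.Agent.H932.Mt.lp x).injective h
  · intro k hk
    rw [Finset.mem_filter] at hk
    refine ⟨_root_.Cfsg.Agent.H932.Mt.lp x⁻¹ k, ?_, hx' k⟩
    rw [Finset.mem_filter]
    refine ⟨Finset.mem_univ _, ?_⟩
    have h1 := hk.2
    rw [lp_mul, lp_mul] at h1
    have h2 := congrArg (lp x⁻¹) h1
    rwa [hx] at h2

theorem lp_neg (i : Fin 12) : _root_.Cfsg.Agent.H932.Mt.lp neg i = i := by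
  change idx (neg.1.1 (pos i)) = i
  rw [Cfsg.Agent.H932.Mt.neg_apply, idx_ng, idx_pos]

theorem lp_mul_Z (g : Γ) {z : Γ} (hz : z ∈ sig.ker) (i : Fin 12) : _root_.Cfsg.Agent.H932.Mt.lp (g * z) i = _root_.Cfsg.Agent.H932.Mt.lp g i := by
  rw [lp_mul]
  rcases mem_Z hz with rfl | rfl
  · rw [lp_one]
  · rw [lp_neg]

theorem fr_mul_Z (g : Γ) {z : Γ} (hz : z ∈ sig.ker) : fr (g * z) = fr g := by
  unfold fr
  simp only [lp_mul_Z g hz]

/-- fixed points of a word -/
def fxw (w : List ℕ) : ℕ := (Finset.univ.filter fun k : Fin 24 => aw w k.val = k.val).card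

def frw (w : List ℕ) : ℕ := (Finset.univ.filter fun i : Fin 12 => aw w (2 * i.val) / 2 = i.val).card

theorem fx_el (w : List ℕ) : fx (el w) = fxw w := by
  unfold fx fxw
  congr 1
  apply Finset.filter_congr
  intro k _
  rw [← el_val, Fin.ext_iff]

theorem fr_el (w : List ℕ) : fr (el w) = frw w := by
  unfold fr frw
  congr 1
  apply Finset.filter_congr
  intro i _
  rw [← lp_el, Fin.ext_iff]

/-- the code of a class modulo the center -/
def cd (g : Γ) : ℕ × ℕ := (fr g, fr (g ^ 2))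

theorem cd_conj (x g : Γ) : cd (x * g * x⁻¹) = cd g := by
  unfold cd
  rw [fr_conj, conj_pow, fr_conj]

theorem cd_mul_Z (g : Γ) {z : Γ} (hz : z ∈ sig.ker) : cd (g * z) = cd g := by
  unfold cd
  have hc : Commute g z := mem_center_iff.1 (Z_le hz) g
  rw [fr_mul_Z g hz, hc.mul_pow, fr_mul_Z _ (pow_mem hz 2)]

/-- the classes of the list -/
def kk : Fin 8 → ℕ := ![0, 1, 2, 3, 7, 8, 11, 12]

def cdw (w : List ℕ) : ℕ × ℕ := (frw w, frw (rpt 2 w))

theorem cd_rp (k : ℕ) : cd (rp k) = cdw (RW k) := by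
  unfold cd cdw rp
  rw [← el_rpt, fr_el, fr_el]

theorem cd_table : ∀ i j : Fin 8, i ≠ j → cdw (RW (kk i)) ≠ cdw (RW (kk j)) ∨ (kk i = 11 ∧ kk j = 12) ∨
    (kk i = 12 ∧ kk j = 11) := by
  decide +kernel

/-! ### Good classes -/

section good

variable (c : sig.ker →* ℂˣ)

theorem good_of_fx {g : Γ} (h : fx g ≠ fx (neg * g)) : Good sig.ker c g := by
  intro x hx
  rcases mem_Z hx with h1 | h1
  · have h2 : (⟨x⁻¹ * g⁻¹ * x * g, hx⟩ : sig.ker) = 1 := Subtype.ext h1
    rw [h2, map_one]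
  · exfalso
    apply h
    have h2 : x⁻¹ * g⁻¹ * x = neg * g⁻¹ := eq_mul_inv_of_mul_eq h1
    have h3 : x⁻¹ * g * x⁻¹⁻¹ = neg * g := by
      calc x⁻¹ * g * x⁻¹⁻¹ = (x⁻¹ * g⁻¹ * x)⁻¹ := by group
        _ = g * neg⁻¹ := by rw [h2, mul_inv_rev, inv_inv]
        _ = g * neg := by rw [inv_eq_of_mul_eq_one_right neg_mul_neg']
        _ = neg * g := (neg_comm g).symm
    rw [← h3, fx_conj]

theorem good_table : ∀ i : Fin 8, (Nat.Coprime (po (kk i)) 2 ∨ fxw (RW (kk i)) ≠ fxw (nw ++ RW (kk i))) ∧ kk i < 15 := by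
  decide +kernel

theorem good_kk (i : Fin 8) : Good sig.ker c (rp (kk i)) := by
  obtain ⟨h | h, hk⟩ := good_table i
  · refine Cfsg.Agent.H849.RIM.good_of_coprime Z_le c (n := po (kk i)) ?_ (by rw [card_Z]; exact h)
    rw [← QuotientGroup.mk_pow, ← order_rp ⟨kk i, hk⟩, pow_orderOf_eq_one]
    rfl
  · apply good_of_fx
    have h1 : neg * rp (kk i) = el (nw ++ RW (kk i)) := by
      rw [Cfsg.Agent.H24.M12.el_append, el_nw]
      rfl
    rw [h1, fx_el]
    unfold rp
    rw [fx_el]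
    exact h

end good

/-! ### Centralizers -/

theorem lp_idx (x : Γ) (k : Fin 24) : _root_.Cfsg.Agent.H932.Mt.lp x (idx k) = idx (x.1.1 k) := by
  change idx (x.1.1 (pos (idx k))) = idx (x.1.1 k)
  exact idx_congr x (by rw [idx_pos])

theorem ng_ne : ∀ k, ng k ≠ k := by decide +kernel

seal _root_.List.getD _root_.Cfsg.Agent.H932.Mt.tf _root_.Nat.mod _root_.Cfsg.Agent.H932.Mt.ev in
theorem card_cent_le {g : Γ} {k0 : Fin 24} (hinj : Function.Injective (fun t : Fin 5 => _root_.Cfsg.Agent.H932.Mt.lp (g ^ t.val) (idx k0))) :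
    Nat.card (centralizer ({g} : Set Γ)) ≤ 24 - fx g := by
  have h0 : g.1.1 k0 ≠ k0 := by
    intro h
    have h1 : _root_.Cfsg.Agent.H932.Mt.lp (g ^ 0) (idx k0) = _root_.Cfsg.Agent.H932.Mt.lp (g ^ 1) (idx k0) := by
      rw [pow_zero, pow_one, lp_one, lp_idx, h]
    exact absurd (hinj (a₁ := 0) (a₂ := 1) h1) (by decide)
  have hmem : ∀ x : centralizer ({g} : Set Γ), g.1.1 ((x : Γ).1.1 k0) ≠ (x : Γ).1.1 k0 := by
    intro x h
    have h1 : (x : Γ) * g = g * x := mem_centralizer_singleton_iff.1 x.2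
    apply h0
    apply (x : Γ).1.1.injective
    have h2 : ((x : Γ) * g).1.1 k0 = (g * (x : Γ)).1.1 k0 := by rw [h1]
    exact h2.trans h
  have h1 : Nat.card (centralizer ({g} : Set Γ)) ≤ Nat.card {k : Fin 24 // g.1.1 k ≠ k} := by
    refine Nat.card_le_card_of_injective (fun x => ⟨(x : Γ).1.1 k0, hmem x⟩) ?_
    intro x x' hxx
    have h2 : (x : Γ).1.1 k0 = (x' : Γ).1.1 k0 := congrArg Subtype.val hxx
    have h3 : _root_.Cfsg.Agent.H932.Mt.lp (x : Γ) (idx k0) = _root_.Cfsg.Agent.H932.Mt.lp (x' : Γ) (idx k0) := by rw [lp_idx, lp_idx, h2]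
    have h4 : ∀ t : Fin 5, _root_.Cfsg.Agent.H932.Mt.lp (x : Γ) (_root_.Cfsg.Agent.H932.Mt.lp (g ^ t.val) (idx k0)) = _root_.Cfsg.Agent.H932.Mt.lp (x' : Γ) (_root_.Cfsg.Agent.H932.Mt.lp (g ^ t.val) (idx k0)) := by
      intro t
      have e1 : (x : Γ) * g ^ t.val = g ^ t.val * x :=
        (Commute.pow_right (show Commute (x : Γ) g from mem_centralizer_singleton_iff.1 x.2) t.val).eq
      have e2 : (x' : Γ) * g ^ t.val = g ^ t.val * x' :=
        (Commute.pow_right (show Commute (x' : Γ) g from mem_centralizer_singleton_iff.1 x'.2) t.val).eq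
      rw [← lp_mul, ← lp_mul, e1, e2, lp_mul, lp_mul, h3]
    rcases eq_of_rows hinj h4 with h5 | h5
    · exact Subtype.ext h5
    · exfalso
      have h6 : (x : Γ).1.1 k0 = ng ((x' : Γ).1.1 k0) := by
        rw [h5]
        exact Cfsg.Agent.H932.Mt.neg_apply _
      exact ng_ne _ (h6.symm.trans h2)
  refine h1.trans (le_of_eq ?_)
  rw [Nat.card_eq_fintype_card, Fintype.card_subtype]
  have h2 := Finset.card_filter_add_card_filter_not (s := (Finset.univ : Finset (Fin 24))) (fun k => g.1.1 k = k)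
  rw [Finset.card_univ, Fintype.card_fin] at h2
  have h3 : (Finset.univ.filter fun k : Fin 24 => g.1.1 k ≠ k).card =
      (Finset.univ.filter fun k : Fin 24 => ¬ g.1.1 k = k).card := rfl
  unfold fx
  rw [h3]
  omega

theorem lp_rpt (k : ℕ) (t : ℕ) (i : Fin 12) : (_root_.Cfsg.Agent.H932.Mt.lp (rp k ^ t) i).val = aw (rpt t (RW k)) (2 * i.val) / 2 := by
  unfold rp
  rw [← el_rpt, lp_el]

theorem inj_seven : Function.Injective (fun t : Fin 5 => _root_.Cfsg.Agent.H932.Mt.lp (rp 7 ^ t.val) (idx 0)) := by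
  have key : ∀ s t : Fin 5, aw (rpt s.val (RW 7)) 0 / 2 = aw (rpt t.val (RW 7)) 0 / 2 → s = t := by decide +kernel
  intro s t h
  apply key
  have h1 := congrArg Fin.val h
  simp only [lp_rpt] at h1
  exact h1

theorem inj_eleven : Function.Injective (fun t : Fin 5 => _root_.Cfsg.Agent.H932.Mt.lp (rp 11 ^ t.val) (idx 0)) := by
  have key : ∀ s t : Fin 5, aw (rpt s.val (RW 11)) 0 / 2 = aw (rpt t.val (RW 11)) 0 / 2 → s = t := by decide +kernel
  intro s t h
  apply key
  have h1 := congrArg Fin.val h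
  simp only [lp_rpt] at h1
  exact h1

theorem fx_seven : fx (rp 7) = 4 := by
  unfold rp
  rw [fx_el]
  decide +kernel

theorem fx_eleven : fx (rp 11) = 2 := by
  unfold rp
  rw [fx_el]
  decide +kernel

theorem card_seven : Nat.card (centralizer ({rp 7} : Set Γ)) ≤ 20 := by
  have h := card_cent_le inj_seven
  rwa [fx_seven] at h

theorem order_seven : orderOf (rp 7) = 5 := order_rp 7

theorem order_eleven : orderOf (rp 11) = 11 := order_rp 11

theorem pow_eleven : rp 11 ^ 11 = 1 := by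
  have h := pow_orderOf_eq_one (rp 11)
  rwa [order_eleven] at h

theorem card_eleven : Nat.card (centralizer ({rp 11} : Set Γ)) = 11 * 2 := by
  have h := card_cent_le inj_eleven
  rw [fx_eleven] at h
  have h1 : 11 ∣ Nat.card (centralizer ({rp 11} : Set Γ)) := by
    have h2 := _root_.orderOf_dvd_natCard (⟨rp 11, mem_centralizer_singleton_iff.2 rfl⟩ : centralizer ({rp 11} : Set Γ))
    rw [← Subgroup.orderOf_coe] at h2
    rwa [order_eleven] at h2
  have h2 : 2 ∣ Nat.card (centralizer ({rp 11} : Set Γ)) := by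
    have h3 := _root_.orderOf_dvd_natCard (⟨neg, mem_centralizer_singleton_iff.2 (neg_comm _)⟩ :
      centralizer ({rp 11} : Set Γ))
    rw [← Subgroup.orderOf_coe] at h3
    have h4 : orderOf neg = 2 := orderOf_eq_prime (by rw [pow_two, neg_mul_neg']) neg_ne_one
    rwa [h4] at h3
  have h3 : 0 < Nat.card (centralizer ({rp 11} : Set Γ)) := Nat.card_pos
  (clear * - h h1 h2 h3; solve | lia | omega)

theorem norm_eleven : Nat.card (normalizer ((zpowers (rp 11) : Subgroup Γ) : Set Γ)) = 5 * (11 * 2) := by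
  have : Fact (Nat.Prime 11) := ⟨by norm_num⟩
  obtain ⟨w, m, h3, h4, h5, h6⟩ := exists_w card_G (p := 11) (by norm_num) order_eleven card_eleven
  have h7 : w = 5 := by
    have h8 : w ≤ 10 := Nat.le_of_dvd (by norm_num) h3
    interval_cases w <;> (clear * - h3 h6 h5; omega)
  rw [h4, h7]

theorem rp_twelve : rp 12 = (rp 11)⁻¹ := by
  have h : eqw (RW 12 ++ RW 11) [] = true := by decide +kernel
  have h1 := el_eq h
  rw [Cfsg.Agent.H24.M12.el_append, Cfsg.Agent.H24.M12.el_nil] at h1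
  exact (eq_inv_of_mul_eq_one_left h1 :)

theorem not_conj (x : Γ) {z : Γ} (hz : z ∈ sig.ker) : x * rp 11 * x⁻¹ ≠ rp 12 * z := by
  intro h
  rw [rp_twelve] at h
  rcases mem_Z hz with rfl | rfl
  · rw [mul_one] at h
    have : Fact (Nat.Prime 11) := ⟨by norm_num⟩
    have h1 : x * rp 11 ^ 1 * x⁻¹ = rp 11 ^ 10 := by
      rw [pow_one, h, inv_eq_iff_mul_eq_one, ← pow_succ']
      exact pow_eleven
    have h2 := pow_w (w := 5) order_eleven (by rw [norm_eleven, card_eleven]) (i := 1) (j := 10) (by norm_num) h1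
    norm_num at h2
  · have h1 : (x * rp 11 * x⁻¹) ^ 11 = ((rp 11)⁻¹ * neg) ^ 11 := by rw [h]
    have h2 : rp 11 ^ 11 = 1 := pow_eleven
    have h3 : Commute (rp 11)⁻¹ neg := (neg_comm _).symm
    rw [conj_pow, h2, mul_one, mul_inv_cancel, h3.mul_pow, inv_pow, h2, inv_one, one_mul] at h1
    have h4 : neg ^ 11 = neg := by
      rw [show (11 : ℕ) = 2 * 5 + 1 from rfl, pow_succ, pow_mul, pow_two, neg_mul_neg', one_pow, one_mul]
    rw [h4] at h1
    exact neg_ne_one h1.symm

/-! ### The number of faithful characters -/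

theorem eight (c : sig.ker →* ℂˣ) : 8 ≤ Nat.card {χ : IrrCharacter Γ // Lies sig.ker c (χ : Γ → ℂ)} := by
  refine card_lies_ge Z_le c (fun i => rp (kk i)) (good_kk c) ?_
  intro i j hij x z hz h
  have h1 : cd (rp (kk i)) = cd (rp (kk j)) := by
    rw [← cd_conj x, h, cd_mul_Z _ hz]
  rw [cd_rp, cd_rp] at h1
  rcases cd_table i j hij with h2 | ⟨h2, h3⟩ | ⟨h2, h3⟩
  · exact h2 h1
  · rw [h2, h3] at h
    exact not_conj x hz h
  · rw [h2, h3, rp_twelve] at h
    apply not_conj x (inv_mem hz)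
    rw [rp_twelve]
    have h4 : (x * (rp 11)⁻¹ * x⁻¹)⁻¹ = (rp 11 * z)⁻¹ := by rw [h]
    rw [mul_inv_rev, mul_inv_rev, inv_inv, inv_inv, mul_inv_rev] at h4
    rw [mul_assoc, h4]
    exact mem_center_iff.1 (Z_le (inv_mem hz)) _ |>.symm

/-- **`p = 11`.** -/
theorem eleven (c : sig.ker →* ℂˣ) : ∃ χ : IrrCharacter Γ, Lies sig.ker c (χ : Γ → ℂ) ∧ 11 ∣ charDegree (χ : Γ → ℂ) := by
  have : Fact (Nat.Prime 11) := ⟨by norm_num⟩
  refine exists_dz_card Z_le (by rw [card_Z]; norm_num) (by rw [card_G]; norm_num) order_eleven (k := 1) (w := 5)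
    (by rw [card_eleven, card_Z]) (by rw [norm_eleven, card_Z]) c (eight c) (by norm_num)

end Cfsg.Agent.H243.RIM.MTw
end

-- part: H243/RIM/MTwelve
section
/-!
# S4816, RIM-S-M12: `M₁₂` (helper243)

* `isIrr_mono` : the monomial character of degree `12` of `2.M₁₂` is irreducible;
* `nball` : `NBall p S`, `p = 3, 5, 11`, `S ≅ M₁₂`.
-/

set_option autoImplicit false
set_option linter.unusedSectionVars false
set_option maxRecDepth 100000

namespace Cfsg.Agent.H243.RIM.MTw

open Cfsg Subgroup Cfsg.Agent.H24.M12 Cfsg.Agent.H243.RIM Cfsg.Agent.H665.RIM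
open Cfsg.Agent.H932.Mt hiding rp
open Cfsg.Agent.H622.Over
open scoped ComplexConjugate

universe u

/-! ### The monomial character -/

/-- the stabilizer of the first row -/
def T : Subgroup Γ where
  carrier := {g | _root_.Cfsg.Agent.H932.Mt.lp g 0 = 0}
  one_mem' := lp_one 0
  mul_mem' := by
    intro a b ha hb
    change _root_.Cfsg.Agent.H932.Mt.lp (a * b) 0 = 0
    rw [lp_mul, show _root_.Cfsg.Agent.H932.Mt.lp b 0 = 0 from hb]
    exact ha
  inv_mem' := by
    intro a ha
    change _root_.Cfsg.Agent.H932.Mt.lp a⁻¹ 0 = 0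
    have h : _root_.Cfsg.Agent.H932.Mt.lp a⁻¹ (_root_.Cfsg.Agent.H932.Mt.lp a 0) = 0 := by rw [← lp_mul, inv_mul_cancel, lp_one]
    rwa [show _root_.Cfsg.Agent.H932.Mt.lp a 0 = 0 from ha] at h

theorem mem_T {g : Γ} : g ∈ T ↔ _root_.Cfsg.Agent.H932.Mt.lp g 0 = 0 := Iff.rfl

theorem pos_or {g : Γ} (hg : g ∈ T) : g.1.1 (pos 0) = pos 0 ∨ g.1.1 (pos 0) = ng (pos 0) := by
  have h5 := eq_pos_or (g.1.1 (pos 0))
  rwa [show idx (g.1.1 (pos 0)) = 0 from hg] at h5

theorem ng_pos_ne : ng (pos 0) ≠ pos 0 := ng_ne _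

/-- the sign at the first row -/
noncomputable def lam : T →* ℂˣ where
  toFun g := if (g : Γ).1.1 (pos 0) = pos 0 then 1 else -1
  map_one' := if_pos rfl
  map_mul' := by
    intro a b
    change (if (a : Γ).1.1 ((b : Γ).1.1 (pos 0)) = pos 0 then (1 : ℂˣ) else -1) = _
    rcases pos_or a.2 with ha | ha <;> rcases pos_or b.2 with hb | hb
    · rw [hb, ha, if_pos rfl, one_mul]
    · rw [hb, ng_comm, ha, if_neg ng_pos_ne, if_pos rfl, one_mul]
    · rw [hb, ha, if_neg ng_pos_ne, if_pos rfl, mul_one]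
    · rw [hb, ng_comm, ha, ng_ng, if_pos rfl, if_neg ng_pos_ne, neg_mul_neg, one_mul]

theorem lam_pos {g : T} (h : (g : Γ).1.1 (pos 0) = pos 0) : lam g = 1 := if_pos h

theorem lam_ng {g : T} (h : (g : Γ).1.1 (pos 0) = ng (pos 0)) : lam g = -1 := if_neg (by rw [h]; exact ng_pos_ne)

theorem pos_of_idx {g : Γ} {i : Fin 12} (h : g.1.1 (pos i) = pos i) {k : Fin 24} (hk : idx k = i) : g.1.1 k = k := by
  subst hk
  rcases eq_pos_or k with h1 | h1
  · rw [h1]
    exact h
  · have h2 : ng (pos (idx k)) = k := h1.symm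
    rw [← h2, ng_comm, h]

theorem ng_of_idx {g : Γ} {i : Fin 12} (h : g.1.1 (pos i) = ng (pos i)) {k : Fin 24} (hk : idx k = i) :
    g.1.1 k = ng k := by
  subst hk
  rcases eq_pos_or k with h1 | h1
  · rw [h1]
    exact h
  · have h2 : ng (pos (idx k)) = k := h1.symm
    rw [← h2, ng_comm, h]

/-- five rows beginning with `0, j` -/
def bj (j : Fin 12) (i : Fin 5) : Fin 12 :=
  if i = 0 then 0 else ⟨(j.val + 9 + i.val) % 11 + 1, by omega⟩

theorem bj_table : ∀ j : Fin 12, j ≠ 0 → Function.Injective (bj j) ∧ bj j 0 = 0 ∧ bj j 1 = j := by decide +kernel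

def aj : Fin 5 → Fin 12 := ![5, 7, 0, 1, 2]

theorem aj_inj : Function.Injective aj := by decide +kernel

theorem t0_pos : (rp 6).1.1 (pos 5) = pos 5 := by
  apply Fin.ext
  unfold rp
  rw [el_val]
  decide +kernel

theorem t0_ng : (rp 6).1.1 (pos 7) = ng (pos 7) := by
  apply Fin.ext
  unfold rp
  rw [el_val]
  decide +kernel

theorem mackey (x : Γ) (hx : x ∉ T) : ∃ (t : T) (hx : x⁻¹ * t * x ∈ T), lam t ≠ lam ⟨x⁻¹ * t * x, hx⟩ := by
  have hj : _root_.Cfsg.Agent.H932.Mt.lp x 0 ≠ 0 := hx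
  obtain ⟨h1, h2, h3⟩ := bj_table (_root_.Cfsg.Agent.H932.Mt.lp x 0) hj
  obtain ⟨h, hh⟩ := exists_rows aj_inj h1
  have e0 : _root_.Cfsg.Agent.H932.Mt.lp h 5 = 0 := (hh 0).trans h2
  have e1 : _root_.Cfsg.Agent.H932.Mt.lp h 7 = _root_.Cfsg.Agent.H932.Mt.lp x 0 := (hh 1).trans h3
  have f0 : _root_.Cfsg.Agent.H932.Mt.lp h⁻¹ 0 = 5 := by rw [← e0, ← lp_mul, inv_mul_cancel, lp_one]
  have f1 : _root_.Cfsg.Agent.H932.Mt.lp h⁻¹ (_root_.Cfsg.Agent.H932.Mt.lp x 0) = 7 := by rw [← e1, ← lp_mul, inv_mul_cancel, lp_one]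
  set t : Γ := h * rp 6 * h⁻¹ with ht
  -- `t` at the row `0`
  have t0 : t.1.1 (pos 0) = pos 0 := by
    change h.1.1 ((rp 6).1.1 (h⁻¹.1.1 (pos 0))) = pos 0
    rw [pos_of_idx t0_pos (show idx (h⁻¹.1.1 (pos 0)) = 5 from f0)]
    exact h.1.1.apply_symm_apply _
  have t1 : t.1.1 (x.1.1 (pos 0)) = ng (x.1.1 (pos 0)) := by
    change h.1.1 ((rp 6).1.1 (h⁻¹.1.1 (x.1.1 (pos 0)))) = ng (x.1.1 (pos 0))
    have e2 : idx (h⁻¹.1.1 (x.1.1 (pos 0))) = 7 := by
      rw [← lp_idx]
      exact f1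
    rw [ng_of_idx t0_ng e2, ng_comm]
    (with_reducible congr 1)
    exact h.1.1.apply_symm_apply _
  have t2 : (x⁻¹ * t * x).1.1 (pos 0) = ng (pos 0) := by
    change x⁻¹.1.1 (t.1.1 (x.1.1 (pos 0))) = ng (pos 0)
    rw [t1, ng_comm]
    congr 1
    exact x.1.1.symm_apply_apply _
  have m0 : t ∈ T := by
    rw [mem_T]
    change idx (t.1.1 (pos 0)) = 0
    rw [t0, idx_pos]
  have m2 : x⁻¹ * t * x ∈ T := by
    rw [mem_T]
    change idx ((x⁻¹ * t * x).1.1 (pos 0)) = 0
    rw [t2, idx_ng, idx_pos]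
  refine ⟨⟨t, m0⟩, m2, ?_⟩
  rw [lam_pos (g := ⟨t, m0⟩) t0, lam_ng (g := ⟨x⁻¹ * t * x, m2⟩) t2]
  intro h5
  have h6 := congrArg Units.val h5
  norm_num at h6

/-- the monomial character -/
noncomputable def mono [Fintype Γ] : Γ → ℂ := indFun T (fun t => (lam t : ℂ))

theorem isIrr_mono [Fintype Γ] : IsIrrCharacter Γ mono :=
  Cfsg.Agent.CharactersDeep.MackeyLinear.isIrrCharacter_indFun T lam mackey

theorem index_T : T.index = 12 := by
  have hsurj : ∀ j : Fin 12, ∃ g : Γ, _root_.Cfsg.Agent.H932.Mt.lp g 0 = j := by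
    intro j
    by_cases hj : j = 0
    · exact ⟨1, by rw [hj, lp_one]⟩
    · obtain ⟨h1, h2, h3⟩ := bj_table j hj
      obtain ⟨h, hh⟩ := exists_rows (a := ![0, 1, 2, 3, 4]) (by decide +kernel) (b := bj j ∘ Equiv.swap (0 : Fin 5) 1)
        (h1.comp (Equiv.injective _))
      refine ⟨h, (hh 0).trans ?_⟩
      simp only [Function.comp_apply, Equiv.swap_apply_left]
      exact h3
  let f : Γ ⧸ T → Fin 12 := Quotient.lift (fun g : Γ => _root_.Cfsg.Agent.H932.Mt.lp g 0) (by
    intro a b hab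
    have h1 : a⁻¹ * b ∈ T := QuotientGroup.leftRel_apply.1 hab
    have h2 : _root_.Cfsg.Agent.H932.Mt.lp (a⁻¹ * b) 0 = 0 := h1
    have h3 : _root_.Cfsg.Agent.H932.Mt.lp (a * (a⁻¹ * b)) 0 = _root_.Cfsg.Agent.H932.Mt.lp a 0 := by rw [lp_mul, h2]
    rw [mul_inv_cancel_left] at h3
    exact h3.symm)
  have hf : Function.Bijective f := by
    constructor
    · intro a b
      obtain ⟨a, rfl⟩ := QuotientGroup.mk_surjective a
      obtain ⟨b, rfl⟩ := QuotientGroup.mk_surjective b
      intro hab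
      have h1 : _root_.Cfsg.Agent.H932.Mt.lp a 0 = _root_.Cfsg.Agent.H932.Mt.lp b 0 := hab
      rw [QuotientGroup.eq]
      change _root_.Cfsg.Agent.H932.Mt.lp (a⁻¹ * b) 0 = 0
      rw [lp_mul, ← h1, ← lp_mul, inv_mul_cancel, lp_one]
    · intro j
      obtain ⟨g, hg⟩ := hsurj j
      exact ⟨(g : Γ ⧸ T), hg⟩
  rw [index_eq_card, Nat.card_congr (Equiv.ofBijective f hf), Nat.card_fin]

theorem mono_one [Fintype Γ] : mono 1 = 12 := by
  unfold mono
  rw [Cfsg.Agent.OddOrderCharacters.PF9.Mackey.indFun_lin_apply_one, index_T]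
  norm_num

theorem degree_mono [Fintype Γ] : charDegree mono = 12 := by
  unfold charDegree
  rw [mono_one]
  norm_num

theorem ext_neg (y : Γ) : extendByZero T (fun t => (lam t : ℂ)) (y * neg) = -extendByZero T (fun t => (lam t : ℂ)) y := by
  have hn : neg ∈ T := by
    rw [mem_T]
    exact lp_neg 0
  by_cases hy : y ∈ T
  · have h1 := S0150.extendByZero_coe T (fun t => (lam t : ℂ)) (⟨y, hy⟩ * ⟨neg, hn⟩)
    have h2 := S0150.extendByZero_coe T (fun t => (lam t : ℂ)) ⟨y, hy⟩
    have h3 : lam ⟨neg, hn⟩ = -1 := lam_ng (g := ⟨neg, hn⟩) (Cfsg.Agent.H932.Mt.neg_apply _)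
    simp only [MulMemClass.mk_mul_mk] at h1 h2
    rw [h1, h2]
    have h4 : lam (⟨y * neg, T.mul_mem hy hn⟩ : T) = lam ⟨y, hy⟩ * lam ⟨neg, hn⟩ := by rw [← map_mul]; rfl
    rw [h4, h3]
    simp
  · have hy' : y * neg ∉ T := fun h => hy (by
      have h1 := T.mul_mem h hn
      rwa [mul_assoc, neg_mul_neg', mul_one] at h1)
    rw [S0150.extendByZero_of_notMem T _ hy, S0150.extendByZero_of_notMem T _ hy', neg_zero]

theorem mono_neg [Fintype Γ] (y : Γ) : mono (y * neg) = -mono y := by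
  unfold mono
  rw [S0150.indFun_apply, S0150.indFun_apply, ← mul_neg, ← Finset.sum_neg_distrib]
  congr 1
  refine Finset.sum_congr rfl fun x _ => ?_
  rw [← ext_neg]
  (with_reducible congr 1)
  rw [mul_assoc, mul_assoc, neg_comm, ← mul_assoc, ← mul_assoc]

section main

variable {c : sig.ker →* ℂˣ} (hc : (c ⟨neg, neg_mem_Z⟩ : ℂ) = -1)
include hc

theorem lies_mono [Fintype Γ] : Lies sig.ker c mono := by
  rintro x ⟨n, hn⟩
  rcases mem_Z hn with h1 | h1
  · have h2 : (⟨n, hn⟩ : sig.ker) = 1 := Subtype.ext h1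
    rw [h2, map_one, Units.val_one, mul_one, OneMemClass.coe_one, mul_one]
  · have h2 : (⟨n, hn⟩ : sig.ker) = ⟨neg, neg_mem_Z⟩ := Subtype.ext h1
    rw [h2, hc, mono_neg]
    ring

/-- **`p = 3`.** -/
theorem three : ∃ χ : IrrCharacter Γ, Lies sig.ker c (χ : Γ → ℂ) ∧ 3 ∣ charDegree (χ : Γ → ℂ) := by
  have := Fintype.ofFinite Γ
  refine ⟨⟨mono, isIrr_mono⟩, lies_mono hc, ?_⟩
  change 3 ∣ charDegree mono
  rw [degree_mono]
  norm_num

theorem conj_seven (i : ℕ) (hi : ¬ 5 ∣ i) : IsConj (rp 7) (rp 7 ^ i) := by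
  have h1 : rp 7 ^ i = rp 7 ^ (i % 5) := by
    have h2 := pow_mod_orderOf (rp 7) i
    rw [order_seven] at h2
    exact h2.symm
  rw [h1]
  have h3 : i % 5 < 5 := Nat.mod_lt _ (by norm_num)
  have h4 : i % 5 ≠ 0 := fun h => hi (Nat.dvd_of_mod_eq_zero h)
  have key : ∀ m : Fin 5, m.val ≠ 0 → m.val = 1 ∨ pc 7 m.val = true := by decide +kernel
  rcases key ⟨i % 5, h3⟩ h4 with h5 | h5
  · have h6 : i % 5 = 1 := h5
    rw [h6, pow_one]
  · exact pc_spec h5

/-- **`p = 5`.** -/
theorem five : ∃ χ : IrrCharacter Γ, Lies sig.ker c (χ : Γ → ℂ) ∧ 5 ∣ charDegree (χ : Γ → ℂ) := by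
  classical
  by_contra hcon
  push Not at hcon
  have := Fintype.ofFinite Γ
  have hfin : Finite (IrrCharacter Γ) := Cfsg.Agent.Characters.Core.finite_irr
  have := Fintype.ofFinite (IrrCharacter Γ)
  have h1 := Cfsg.Agent.H849.RIM.sum_norm_sq_over Z_le c (w := rp 7) (by rw [order_seven, card_Z]; norm_num)
  have h2 := eight c
  rw [Nat.card_eq_fintype_card, Fintype.card_subtype] at h2
  set A : Finset (IrrCharacter Γ) := Finset.univ.filter (fun χ : IrrCharacter Γ => Lies sig.ker c (χ : Γ → ℂ)) with hA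
  -- each term
  have hval : ∀ χ ∈ A, ∃ v : ℤ, (χ : Γ → ℂ) (rp 7) = v ∧ (5 : ℤ) ∣ (charDegree (χ : Γ → ℂ) : ℤ) - v := fun χ _ =>
    Cfsg.Agent.H648.Loc.exists_value (by norm_num) order_seven (conj_seven hc) χ.2
  have hnorm : ∀ v : ℤ, ‖((v : ℤ) : ℂ)‖ ^ 2 = ((v ^ 2 : ℤ) : ℝ) := by
    intro v
    rw [Complex.norm_intCast, sq_abs]
    push_cast
    rfl
  have hge : ∀ χ ∈ A, (1 : ℝ) ≤ ‖(χ : Γ → ℂ) (rp 7)‖ ^ 2 := by
    intro χ hχ
    obtain ⟨v, hv, hv'⟩ := hval χ hχ
    rw [hv, hnorm]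
    have h3 : v ≠ 0 := by
      rintro rfl
      rw [sub_zero] at hv'
      exact hcon χ (Finset.mem_filter.1 hχ).2 (by exact_mod_cast hv')
    have h4 : 1 ≤ v ^ 2 := by
      have h5 : 0 < v ^ 2 := by positivity
      omega
    exact_mod_cast h4
  set m : IrrCharacter Γ := ⟨mono, isIrr_mono⟩ with hm
  have hmA : m ∈ A := Finset.mem_filter.2 ⟨Finset.mem_univ _, lies_mono hc⟩
  have hm4 : (4 : ℝ) ≤ ‖(m : Γ → ℂ) (rp 7)‖ ^ 2 := by
    obtain ⟨v, hv, hv'⟩ := hval m hmA
    rw [hv, hnorm]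
    have h3 : charDegree (m : Γ → ℂ) = 12 := degree_mono
    rw [h3] at hv'
    have h4 : 4 ≤ v ^ 2 := by
      by_contra h5
      push Not at h5
      have h6 : v ≤ 1 := by nlinarith only [h5]
      have h7 : -1 ≤ v := by nlinarith only [h5]
      interval_cases v <;> omega
    exact_mod_cast h4
  have h3 : (11 : ℝ) ≤ ∑ χ ∈ A, ‖(χ : Γ → ℂ) (rp 7)‖ ^ 2 := by
    rw [← Finset.add_sum_erase A _ hmA]
    have h4 : ((A.erase m).card : ℝ) ≤ ∑ χ ∈ A.erase m, ‖(χ : Γ → ℂ) (rp 7)‖ ^ 2 := by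
      calc ((A.erase m).card : ℝ) = ∑ _χ ∈ A.erase m, (1 : ℝ) := by rw [Finset.sum_const, nsmul_eq_mul, mul_one]
        _ ≤ _ := Finset.sum_le_sum fun χ hχ => hge χ (Finset.mem_of_mem_erase hχ)
    have h5 : 7 ≤ (A.erase m).card := by
      rw [Finset.card_erase_of_mem hmA]
      omega
    have h6 : (7 : ℝ) ≤ ((A.erase m).card : ℝ) := by exact_mod_cast h5
    linarith only [hm4, h4, h6]
  have h4 : (Nat.card (centralizer ({rp 7} : Set Γ)) : ℝ) ≤ 20 := by exact_mod_cast card_seven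
  rw [card_Z] at h1
  push_cast at h1
  linarith only [h1, h3, h4]

theorem all {p : ℕ} (hp : p = 3 ∨ p = 5 ∨ p = 11) :
    ∃ χ : IrrCharacter Γ, Lies sig.ker c (χ : Γ → ℂ) ∧ p ∣ charDegree (χ : Γ → ℂ) := by
  rcases hp with rfl | rfl | rfl
  · exact three hc
  · exact five hc
  · exact eleven c

end main

theorem perfect_M12 : _root_.commutator Spor.M12 = ⊤ := by
  rw [eq_top_iff]
  intro u _
  obtain ⟨g, rfl⟩ := sig_surjective u
  obtain ⟨a, b, hab⟩ := Cfsg.Agent.H109.QO.MTwelve.allC_Gam g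
  rw [hab, map_mul, map_mul, map_mul, map_inv, map_inv, ← commutatorElement_def]
  exact Subgroup.commutator_mem_commutator (Subgroup.mem_top _) (Subgroup.mem_top _)

/-- **Row `M₁₂`.** -/
theorem nball {S : Type u} [Group S] [Finite S] (h : Spor.IsoM12 S) {p : ℕ} (hp : p = 3 ∨ p = 5 ∨ p = 11) :
    NBall p S := by
  obtain ⟨e⟩ := h
  intro m hm _ E _ _ π hπ hπc hE hk l hl
  set π' : E →* Spor.M12 := e.toMonoidHom.comp π with hπ'
  have hs : Function.Surjective π' := e.surjective.comp hπ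
  have hker : π'.ker = π.ker := by
    ext x
    rw [MonoidHom.mem_ker, MonoidHom.mem_ker]
    show e (π x) = 1 ↔ π x = 1
    rw [map_eq_one_iff e e.injective]
  have hcen : π'.ker ≤ center E := by rw [hker]; exact hπc
  -- the kernel has order two
  have hm2 : m = 2 := by
    have h1 := Cfsg.Agent.H95.StemCover.card_ker_dvd_cyclic Cfsg.Agent.S2035.result hE π' hs hcen
    rw [hker, hk] at h1
    have h2 := Nat.le_of_dvd (by norm_num) h1
    omega
  subst hm2
  -- the isomorphism with the model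
  obtain ⟨φ, hφ, hφs⟩ := Cfsg.Agent.H95.StemCover.exists_cover' perfect_M12 Cfsg.Agent.S2035.result sig
    (Cfsg.Agent.H95.StemCover.isStem Cfsg.Agent.H109.QO.MTwelve.perfect sig_surjective Z_le)
    (by rw [card_Z, Nat.card_congr Multiplicative.toAdd, Nat.card_zmod]) hE π' hs hcen
  have hcard : Nat.card E = Nat.card Γ := by
    have h1 := card_eq_card_quotient_mul_card_subgroup π'.ker
    have h2 := card_eq_card_quotient_mul_card_subgroup sig.ker
    rw [Nat.card_congr (QuotientGroup.quotientKerEquivOfSurjective π' hs).toEquiv, hker, hk] at h1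
    rw [Nat.card_congr (QuotientGroup.quotientKerEquivOfSurjective sig sig_surjective).toEquiv, card_Z] at h2
    rw [h1, h2]
  have hbij : Function.Bijective φ := by
    rw [Nat.bijective_iff_surjective_and_card]
    exact ⟨hφ, hcard.symm⟩
  let Φ : Γ ≃* E := MulEquiv.ofBijective φ hbij
  have hmem : ∀ z : sig.ker, φ (z : Γ) ∈ π.ker := by
    intro z
    rw [← hker, MonoidHom.mem_ker, hφs]
    exact z.2
  let c : sig.ker →* ℂˣ := l.comp ((φ.comp sig.ker.subtype).codRestrict π.ker hmem)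
  have hc : (c ⟨neg, neg_mem_Z⟩ : ℂ) = -1 := by
    have h1 : c ⟨neg, neg_mem_Z⟩ * c ⟨neg, neg_mem_Z⟩ = 1 := by
      rw [← map_mul]
      have h2 : (⟨neg, neg_mem_Z⟩ * ⟨neg, neg_mem_Z⟩ : sig.ker) = 1 := Subtype.ext neg_mul_neg'
      rw [h2, map_one]
    have h2 : c ⟨neg, neg_mem_Z⟩ ≠ 1 := by
      intro h3
      have h4 : l ⟨φ neg, hmem ⟨neg, neg_mem_Z⟩⟩ = l 1 := by
        rw [map_one]
        exact h3
      have h5 := congrArg Subtype.val (hl h4)
      have h6 : φ neg = φ 1 := by rw [map_one]; exact h5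
      exact neg_ne_one (hbij.1 h6)
    have h3 : ((c ⟨neg, neg_mem_Z⟩ : ℂˣ) : ℂ) * ((c ⟨neg, neg_mem_Z⟩ : ℂˣ) : ℂ) = 1 := by
      rw [← Units.val_mul, h1, Units.val_one]
    rcases mul_self_eq_one_iff.1 h3 with h4 | h4
    · exact absurd (Units.ext h4) h2
    · exact h4
  obtain ⟨χ, h1, h2⟩ := all hc hp
  have hone : ((χ : Γ → ℂ) ∘ Φ.symm) 1 = (χ : Γ → ℂ) 1 := by
    rw [Function.comp_apply, map_one]
  refine ⟨(χ : Γ → ℂ) ∘ Φ.symm, Cfsg.Agent.Characters.Core.isIrr_comp Φ.symm.toMonoidHom Φ.symm.surjective χ.2,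
    fun z => ?_, ?_⟩
  · rw [hone, Function.comp_apply]
    set y : Γ := Φ.symm (z : E) with hy
    have hyz : φ y = z := Φ.apply_symm_apply (z : E)
    have hyk : y ∈ sig.ker := by
      rw [MonoidHom.mem_ker, ← hφs, hyz]
      have h3 : (z : E) ∈ π'.ker := by rw [hker]; exact z.2
      exact h3
    have h3 := h1 1 ⟨y, hyk⟩
    rw [one_mul] at h3
    rw [show (χ : Γ → ℂ) y = _ from h3]
    have h4 : c ⟨y, hyk⟩ = l z := by
      change l ⟨φ y, hmem ⟨y, hyk⟩⟩ = l z
      congr 1
      exact Subtype.ext hyz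
    rw [h4]
  · have h3 : charDegree ((χ : Γ → ℂ) ∘ Φ.symm) = charDegree (χ : Γ → ℂ) := by
      unfold charDegree
      rw [hone]
    rw [h3]
    exact h2

end Cfsg.Agent.H243.RIM.MTw
end

-- part: H315/RIM/J2Three
section
/-!
# S4816: the row `J2`, `p = 3` (helper315)
-/

set_option autoImplicit false

namespace Cfsg.Agent.H315.RIM.J2Three

open Subgroup Cfsg Cfsg.Agent.H665.RIM Cfsg.Agent.H620.RIM
open Cfsg.Agent.J2Type.Base Cfsg.Agent.J2Type.HStr Cfsg.Agent.J2Type.CentU Cfsg.Agent.J2Type.SylowFive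

universe u

variable {G : Type*} [Group G] [Finite G] {z u : G}

/-- the centralizer of an element of the second class of elements of order 3 -/
theorem facts (h : Fus z u) : ∃ (f d : G) (V : Subgroup G), orderOf f = 3 ∧
    Nat.card (centralizer ({f} : Set G)) = 36 ∧ Nat.card V = 4 ∧ V ≤ centralizer ({f} : Set G) ∧
    d ^ 3 = 1 ∧ d ∈ centralizer ({f} : Set G) ∧ (∀ v ∈ V, d * v * d⁻¹ ∈ V) ∧ (∃ v ∈ V, d * v ≠ v * d) := by
  obtain ⟨f, U, V, H0, F⟩ := Cfsg.Agent.J2Type.CentU.main h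
  obtain ⟨d, hd, hdV, hdH⟩ := Cfsg.Agent.J2Type.ThreeA.exists_d h F
  have h60 := Cfsg.Agent.J2Type.ThreeA.card_H0 h F
  refine ⟨f, d, V, F.f_ord, Cfsg.Agent.J2Type.ThreeD.card_centralizer_f h F hd hdH, F.cardV, ?_, ?_, ?_, hdV, ?_⟩
  · intro v hv
    exact mem_centralizer_singleton_iff.2 ((F.memV v).1 hv).2.2
  · rw [← hd]
    exact pow_orderOf_eq_one d
  · exact mem_centralizer_singleton_iff.2 (hdH f F.f_mem)
  · by_contra hcon
    push Not at hcon
    obtain ⟨a, ha, b, hb, hab⟩ := Cfsg.Agent.J2Type.Cent5.exists_mul F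
      (mem_centralizer_singleton_iff.2 (hcon u F.uV) : d ∈ centralizer ({u} : Set G))
    have hb' : ∀ x ∈ H0, b * x = x * b := by
      intro x hx
      have h1 := Cfsg.Agent.J2Type.Cent5.V_comm h F h60 ha hx
      have h2 := hdH x hx
      have h3 : b = a⁻¹ * d := by rw [hab]; group
      rw [h3]
      have h4 : a⁻¹ * x = x * a⁻¹ := (show Commute a x from h1).inv_left
      calc a⁻¹ * d * x = a⁻¹ * (d * x) := by group
        _ = (a⁻¹ * x) * d := by rw [h2]; group
        _ = x * (a⁻¹ * d) := by rw [h4]; group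
    have hb1 : b = 1 := by
      by_contra hne
      exact F.f_ne b (F.cap b hb (hb' z (F.U_le F.zU))) hne (hb' f F.f_mem).symm
    rw [hb1, mul_one] at hab
    have h2 := Cfsg.Agent.J2Type.Cent5.sq_V h F ha
    rw [← hab] at h2
    have h3 : orderOf d ∣ 2 := orderOf_dvd_of_pow_eq_one (by rw [pow_two]; exact h2)
    rw [hd] at h3
    norm_num at h3

/-- **`J2`, `p = 3`, kernel of order 2** -/
theorem nb {S : Type u} [Group S] [Finite S] (h : Spor.IsoJ2 S) : NB 3 2 S := by
  obtain ⟨t, v, Q, v', ρ, D⟩ := Cfsg.Agent.KFacts.J2.Facts.exists_dat_of h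
  obtain ⟨f, d, V, hf, h36, hV4, hVf, hd3, hdf, hdV, hne⟩ := facts D.F
  obtain ⟨F, hF10, hF⟩ := Cfsg.Agent.H315.RIM.J2Ten.exists_ten D.F
  exact nb_three_of_four hf h36 ⟨hV4, hd3, hdV, hne⟩ (fun v hv => mem_centralizer_singleton_iff.1 (hVf hv))
    (mem_centralizer_singleton_iff.1 hdf) F (fun C hC => by
      obtain ⟨g, hg, hg2⟩ := hF C hC
      exact ⟨g, hg, mGood_of_coprime hg2⟩) hF10.ge

/-- **(J2, 3)** -/
theorem nball_j2_3 {S : Type u} [Group S] [Finite S] (h : Spor.IsoJ2 S) : NBall 3 S := by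
  intro m hm2 hm3 E _ _ π hπ hc hperf hm l hl
  have h' := h
  obtain ⟨e⟩ := h'
  have h1 := Cfsg.Agent.H417.CodCentral.card_dvd_mult Cfsg.Agent.S2040.result π.ker
    ((QuotientGroup.quotientKerEquivOfSurjective π hπ).trans e) hperf hc
  rw [hm] at h1
  obtain rfl : m = 2 := le_antisymm (Nat.le_of_dvd two_pos h1) hm2
  exact nb h E π hπ hc hperf hm l hl

end Cfsg.Agent.H315.RIM.J2Three
end

-- part: H388/RI/FiRow
section
/-!
# S4816: the rows of `Fi24'`, `p = 5, 11, 13, 17, 23, 29`, module side (helper388)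

* `noPEx_fi24`, `ek_fi24`.
-/

set_option autoImplicit false
set_option exponentiation.threshold 4000

namespace Cfsg.Agent.H388.RI.FiRow

open Cfsg Subgroup MulAction Cfsg.Agent.Schreier.CocodeSys Cfsg.Agent.H388.RI.FiW
open Cfsg.Agent.Schreier.FiTwentyFour (sys e d simple card_eq finite not_comm)

universe u

theorem perf : commutator Cfsg.Spor.Fi24' = ⊤ := by
  have := simple
  rcases (inferInstance : (commutator Cfsg.Spor.Fi24').Normal).eq_bot_or_eq_top with h1 | h1
  · exfalso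
    apply not_comm
    refine ⟨⟨fun a b => ?_⟩⟩
    have h2 : a * b * a⁻¹ * b⁻¹ ∈ commutator Cfsg.Spor.Fi24' := commutator_mem_commutator (mem_top a) (mem_top b)
    rw [h1, mem_bot, mul_inv_eq_one, mul_inv_eq_iff_eq_mul] at h2
    exact h2
  · exact h1

/-- an element of order 5 of `M24` fixing a point -/
theorem exists_five : ∃ g : M24, orderOf g = 5 ∧ g • (none : GolayPt) = none := by
  classical
  have h5 : Fact (Nat.Prime 5) := ⟨by norm_num⟩
  have hdvd : 5 ∣ Nat.card M24 := by rw [Cfsg.Agent.S0364.result]; norm_num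
  obtain ⟨g, hg⟩ := exists_prime_orderOf_dvd_card' 5 hdvd
  have hP : IsPGroup 5 (zpowers g) := by
    rw [IsPGroup.iff_card]
    exact ⟨1, by rw [Nat.card_zpowers, hg, pow_one]⟩
  have h24 : Nat.card GolayPt = 24 := by
    rw [Nat.card_eq_fintype_card]; decide
  have h1 := hP.card_modEq_card_fixedPoints GolayPt
  rw [h24] at h1
  have h2 : Nat.card (fixedPoints (zpowers g) GolayPt) ≠ 0 := by
    intro h0
    rw [h0] at h1
    exact absurd h1 (by decide)
  obtain ⟨⟨s, hs⟩⟩ := (Nat.card_ne_zero.1 h2).1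
  have hgs : g • s = s := hs ⟨g, mem_zpowers g⟩
  obtain ⟨h, hh, hhs⟩ := Cfsg.Agent.H852.GolayMod.exists_perm (n := 1) (by norm_num) ![s] ![none]
    (by intro i j _; exact Subsingleton.elim _ _) (by intro i j _; exact Subsingleton.elim _ _)
  have hhs' : (⟨h, hh⟩ : M24) • s = none := hhs 0
  refine ⟨⟨h, hh⟩ * g * (⟨h, hh⟩ : M24)⁻¹, ?_, ?_⟩
  · have h3 : orderOf (⟨h, hh⟩ * g * (⟨h, hh⟩ : M24)⁻¹) = orderOf g := by
      exact (MulAut.conj (⟨h, hh⟩ : M24)).orderOf_eq g
    rw [h3, hg]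
  · rw [← hhs', mul_smul, mul_smul, inv_smul_smul, hgs]

section gen

variable {K : Type*} [Group K] {e : GolayPt → K}

theorem conj_pow {n : K} {g : M24} (hn : ∀ p, n * e p * n⁻¹ = e (g • p)) (j : ℕ) (p : GolayPt) :
    n ^ j * e p * (n ^ j)⁻¹ = e (g ^ j • p) := by
  induction j generalizing p with
  | zero => simp
  | succ j ih =>
    rw [pow_succ, pow_succ, mul_smul]
    have h1 : n ^ j * n * e p * (n ^ j * n)⁻¹ = n ^ j * (n * e p * n⁻¹) * (n ^ j)⁻¹ := by group
    rw [h1, hn, ih]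

/-- a `5`-element acting nontrivially on the system -/
theorem exists_x [Finite K] (Y : Sys e) : ∃ (x : K) (t : ℕ) (q q' : GolayPt), q' ≠ q ∧ orderOf x = 5 ^ t ∧
    x * e q * x⁻¹ * (e q)⁻¹ = e q' * e q := by
  obtain ⟨g, hg5, hg⟩ := exists_five
  obtain ⟨n, hn⟩ := Y.full g
  have hn' : ∀ p, n * e p * n⁻¹ = e (g • p) := by
    intro p
    have h1 : n * e p * n⁻¹ = e (g • p) * e (g • none) := hn p
    rw [h1, hg, Y.zero, mul_one]
  obtain ⟨j, hj, t, ht⟩ := exists_p_part (n := n) (by norm_num : Nat.Prime 5)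
  have hgj : g ^ j ≠ 1 := by
    intro h1
    have h3 := orderOf_dvd_of_pow_eq_one h1
    rw [hg5] at h3
    exact hj h3
  obtain ⟨q, hq⟩ : ∃ q : GolayPt, g ^ j • q ≠ q := by
    by_contra hcon
    push Not at hcon
    apply hgj
    apply Subtype.ext
    apply Equiv.ext
    exact hcon
  refine ⟨n ^ j, t, q, g ^ j • q, hq, ht, ?_⟩
  rw [conj_pow hn' j q, inv_eq_of_mul_eq_one_right (Y.sq q)]

end gen

/-- **The row.** -/
theorem fi_false {V : Type*} [AddCommGroup V] [Finite V] [DistribMulAction Cfsg.Spor.Fi24' V] {p : ℕ} (hp : p.Prime)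
    (hd : p = 5 ∨ p = 11 ∨ p = 13 ∨ p = 17 ∨ p = 23 ∨ p = 29) (hV : ∀ v : V, p • v = 0)
    (hf : ∀ h : Cfsg.Spor.Fi24', (∀ v : V, h • v = v) → h = 1)
    (h0 : ∀ v : V, (∀ g : Cfsg.Spor.Fi24', g • v = v) → v = 0)
    (hfix : ∀ v : V, ¬ p ∣ (stabilizer Cfsg.Spor.Fi24' v).index) : False := by
  classical
  have hsim := simple
  have hfin := finite
  obtain ⟨k, _, hk, _, W, _, _, _, ρ, hW, hρ1, hρ⟩ := Cfsg.Agent.H887.RIM.exists_lin (H := Cfsg.Spor.Fi24') hp hV
  have h2 : (2 : k) ≠ 0 := by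
    intro h
    have h3 : ((2 : ℕ) : k) = 0 := by exact_mod_cast h
    have h4 := (CharP.cast_eq_zero_iff k p 2).1 h3
    have h5 := Nat.le_of_dvd (by norm_num) h4
    omega
  have hne : ρ (e (some 0)) ≠ 1 := by
    intro h
    have h3 := hf _ ((hρ1 _).1 h)
    have h4 : e (some 0) = e none := by rw [h3, sys.zero]
    exact absurd (sys.inj h4) (by decide)
  have hker : (MonoidHom.id Cfsg.Spor.Fi24').ker = ⊥ := by
    ext x
    rw [MonoidHom.mem_ker, mem_bot, MonoidHom.id_apply]
  have hcen : (MonoidHom.id Cfsg.Spor.Fi24').ker ≤ center Cfsg.Spor.Fi24' := by rw [hker]; exact bot_le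
  have hkp : ¬ p ∣ Nat.card (MonoidHom.id Cfsg.Spor.Fi24').ker := by
    rw [hker, Subgroup.card_bot, Nat.dvd_one]
    exact hp.ne_one
  have hmain := main (ρ := ρ) h2 sys hne
  have hD : p ^ 759 ≤ Nat.card V := by
    rw [hW]
    apply Nat.pow_le_pow_right hp.pos
    rcases hmain with h | h
    · exact card_oct h2 h
    · exact (card_dod h2 h).trans' (by norm_num)
  rcases hd with rfl | rfl | rfl | rfl | rfl | rfl
  · rcases hmain with h | h
    · -- octads
      obtain ⟨x, t, q, q', hq, ht, h4⟩ := exists_x sys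
      have h5 := comm_codim (π := MonoidHom.id Cfsg.Spor.Fi24') (N := 1255205709190661721292800 / 25) (a := 2) (c := 32) hp
        Function.surjective_id hcen hkp (by norm_num) (by rw [card_eq]; norm_num) hV hfix (by norm_num) ht (e q) ρ hW hρ
      rw [h4] at h5
      have h6 := codim_pair (ρ := ρ) h2 h hq
      omega
    · have hD' : 5 ^ 1288 ≤ Nat.card V := by
        rw [hW]
        exact Nat.pow_le_pow_right (by norm_num) (card_dod h2 h)
      exact chain (π := MonoidHom.id Cfsg.Spor.Fi24') (N := 1255205709190661721292800 / 25) (a := 2) (c := 32) (k := 30) hp perf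
        Function.surjective_id hcen hkp (by norm_num) (by norm_num) (by rw [card_eq]; norm_num) hV h0 hfix (by norm_num)
        (by norm_num) hD' (by norm_num)
  · exact chain (π := MonoidHom.id Cfsg.Spor.Fi24') (N := 1255205709190661721292800 / 11) (a := 1) (c := 22) (k := 23) hp
      perf Function.surjective_id hcen hkp (by norm_num) (by norm_num) (by rw [card_eq]; norm_num) hV h0 hfix (by norm_num)
      (by norm_num) hD (by norm_num)
  · exact chain (π := MonoidHom.id Cfsg.Spor.Fi24') (N := 1255205709190661721292800 / 13) (a := 1) (c := 22) (k := 23) hp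
      perf Function.surjective_id hcen hkp (by norm_num) (by norm_num) (by rw [card_eq]; norm_num) hV h0 hfix (by norm_num)
      (by norm_num) hD (by norm_num)
  · exact chain (π := MonoidHom.id Cfsg.Spor.Fi24') (N := 1255205709190661721292800 / 17) (a := 1) (c := 22) (k := 23) hp
      perf Function.surjective_id hcen hkp (by norm_num) (by norm_num) (by rw [card_eq]; norm_num) hV h0 hfix (by norm_num)
      (by norm_num) hD (by norm_num)
  · exact chain (π := MonoidHom.id Cfsg.Spor.Fi24') (N := 1255205709190661721292800 / 23) (a := 1) (c := 22) (k := 23) hp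
      perf Function.surjective_id hcen hkp (by norm_num) (by norm_num) (by rw [card_eq]; norm_num) hV h0 hfix (by norm_num)
      (by norm_num) hD (by norm_num)
  · exact chain (π := MonoidHom.id Cfsg.Spor.Fi24') (N := 1255205709190661721292800 / 29) (a := 1) (c := 22) (k := 23) hp
      perf Function.surjective_id hcen hkp (by norm_num) (by norm_num) (by rw [card_eq]; norm_num) hV h0 hfix (by norm_num)
      (by norm_num) hD (by norm_num)

/-- **`Fi24'`, module side.** -/
theorem noPEx_fi24 {S : Type u} [Group S] (h : Cfsg.Spor.IsoFi24' S) {p : ℕ} (hp : p.Prime)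
    (hd : p = 5 ∨ p = 11 ∨ p = 13 ∨ p = 17 ∨ p = 23 ∨ p = 29) : Cfsg.Agent.H665.RIM.NoPEx.{u} p S := by
  obtain ⟨f⟩ := h
  intro V _ _ _ hV hnt hf hirr hfix
  let _ : DistribMulAction Cfsg.Spor.Fi24' V := DistribMulAction.compHom V f.symm.toMonoidHom
  have hsm : ∀ (g : Cfsg.Spor.Fi24') (v : V), g • v = f.symm g • v := fun g v => rfl
  have hS : Nontrivial S := by
    have := simple.toNontrivial
    exact f.toEquiv.nontrivial
  refine fi_false hp hd hV ?_ ?_ ?_
  · intro g hg
    have h1 := hf (f.symm g) fun v => hg v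
    rw [← f.apply_symm_apply g, h1, map_one]
  · intro v hv
    refine fixed_eq_zero hf hirr v fun g => ?_
    have h1 := hv (f g)
    rw [hsm, f.symm_apply_apply] at h1
    exact h1
  · intro v
    have h1 : (stabilizer S v).comap f.symm.toMonoidHom = stabilizer Cfsg.Spor.Fi24' v := by
      ext g
      rw [mem_comap, mem_stabilizer_iff, mem_stabilizer_iff]
      rfl
    rw [← h1, index_comap_of_surjective _ f.symm.surjective]
    exact hfix v

/-- **`Fi24'`, `p = 5, 11, 13, 17, 23, 29`.** -/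
theorem ek_fi24 {S : Type u} [Group S] [Finite S] (h : Cfsg.Spor.IsoFi24' S) {p : ℕ} (hp : p.Prime)
    (hd : p = 5 ∨ p = 11 ∨ p = 13 ∨ p = 17 ∨ p = 23 ∨ p = 29) : Cfsg.Agent.H665.RIM.EK.{u} p S := by
  refine Cfsg.Agent.H315.RIM.ek_of_noPEx ?_ (noPEx_fi24 h hp hd)
  intro E _ _ π hπ hc hperf _
  have h1 := Cfsg.Agent.H620.RIM.dvd_fi24.{u} h E π hπ hc hperf
  rcases (Nat.dvd_prime Nat.prime_three).1 h1 with h2 | h2
  · exact Or.inl h2
  · right
    rw [h2]
    exact Nat.prime_three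

end Cfsg.Agent.H388.RI.FiRow
end

-- part: H488/RIM/Tool
section
/-!
# S4816: counting characters over a central character with good classes; central extensions of `S₅` (helper488)

* `exists_dvd_good` : more good classes of `G ⧸ Z` than `|C(y)|`, `y` a `p`-element: a character over `c` of degree
  divisible by `p`;
* `exists_five` : a central extension of the symmetric group of degree five in which commuting with a transposition
  lifts has over every central character of the kernel a character whose degree is exactly divisible by 5.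
-/

set_option autoImplicit false
set_option linter.unusedSectionVars false

namespace Cfsg.Agent.H488.RIM

open Cfsg Subgroup Finset
open Cfsg.Agent.Characters.Core
open Cfsg.Agent.H622.Over Cfsg.Agent.H849.RIM Cfsg.Agent.H620.RIM

universe u

section

variable {G : Type u} [Group G] [Finite G] {Z : Subgroup G} [Z.Normal]

theorem card_good_ge' (hZ : Z ≤ center G) (c : Z →* ℂˣ) (F : Finset (ConjClasses (G ⧸ Z)))
    (hF : ∀ C ∈ F, ∃ g : G, ConjClasses.mk (g : G ⧸ Z) = C ∧ Good Z c g) :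
    F.card ≤ Nat.card {χ : IrrCharacter G // Lies Z c (χ : G → ℂ)} := by
  classical
  rw [card_over hZ c, card_good hZ c]
  have h1 : Set.Finite {C : ConjClasses (G ⧸ Z) | ∃ g : G, ConjClasses.mk (g : G ⧸ Z) = C ∧ Good Z c g} := by
    have : Finite (ConjClasses (G ⧸ Z)) := Finite.of_surjective _ (ConjClasses.mk_surjective (α := G ⧸ Z))
    exact Set.toFinite _
  have h2 : (F : Set (ConjClasses (G ⧸ Z))) ⊆
      {C : ConjClasses (G ⧸ Z) | ∃ g : G, ConjClasses.mk (g : G ⧸ Z) = C ∧ Good Z c g} := by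
    intro C hC
    exact hF C (mem_coe.1 hC)
  have h3 := Set.ncard_le_ncard h2 h1
  rw [Set.ncard_coe_finset] at h3
  exact h3

/-- more good classes than `|C(y)|` -/
theorem exists_dvd_good {p : ℕ} [Fact p.Prime] (hZ : Z ≤ center G) (hZp : ¬ p ∣ Nat.card Z)
    {y : G ⧸ Z} {n : ℕ} (hy : orderOf y = p ^ n) (c : Z →* ℂˣ) (F : Finset (ConjClasses (G ⧸ Z)))
    (hF : ∀ C ∈ F, ∃ g : G, ConjClasses.mk (g : G ⧸ Z) = C ∧ Good Z c g)
    (hlt : Nat.card (centralizer ({y} : Set (G ⧸ Z))) < F.card) :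
    ∃ χ : IrrCharacter G, Lies Z c (χ : G → ℂ) ∧ p ∣ charDegree (χ : G → ℂ) := by
  classical
  have hp : p.Prime := Fact.out
  have hco : (p ^ n).Coprime (Nat.card Z) := Nat.Coprime.pow_left n ((hp.coprime_iff_not_dvd).2 hZp)
  -- the lift
  obtain ⟨u, rfl, hu⟩ : ∃ u : G, (u : G ⧸ Z) = y ∧ u ^ (p ^ n) = 1 := by
    obtain ⟨g, rfl⟩ := QuotientGroup.mk_surjective y
    obtain ⟨a, ha⟩ := (Nat.modEq_and_modEq_iff_modEq_mul hco).2 rfl |> fun _ : (0 : ℕ) ≡ 0 [MOD p ^ n] ∧ _ =>
      (⟨Nat.chineseRemainder hco 1 0, (Nat.chineseRemainder hco 1 0).2⟩ : ∃ a, a ≡ 1 [MOD p ^ n] ∧ a ≡ 0 [MOD Nat.card Z])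
    refine ⟨g ^ a, ?_, ?_⟩
    · rw [QuotientGroup.mk_pow]
      have h1 : (g : G ⧸ Z) ^ a = (g : G ⧸ Z) ^ 1 := pow_eq_pow_iff_modEq.2 (by rw [hy]; exact ha.1)
      rw [h1, pow_one]
    · have h1 : g ^ (p ^ n) ∈ Z := by
        rw [← QuotientGroup.eq_one_iff, QuotientGroup.mk_pow, ← hy]
        exact pow_orderOf_eq_one _
      have h2 : (g ^ (p ^ n)) ^ Nat.card Z = 1 := by
        have h3 := pow_card_eq_one' (G := Z) (x := ⟨g ^ (p ^ n), h1⟩)
        exact congrArg Subtype.val h3
      obtain ⟨b, hb⟩ := (Nat.modEq_zero_iff_dvd).1 ha.2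
      calc (g ^ a) ^ (p ^ n) = ((g ^ (p ^ n)) ^ Nat.card Z) ^ b := by
            rw [hb, ← pow_mul, ← pow_mul, ← pow_mul]; ring_nf
        _ = 1 := by rw [h2, one_pow]
  have hou : orderOf u ∣ p ^ n := orderOf_dvd_of_pow_eq_one hu
  have hw : (orderOf u).Coprime (Nat.card Z) := hco.coprime_dvd_left hou
  -- the centralizer
  have hcent : centralizer ({u} : Set G) =
      (centralizer ({(u : G ⧸ Z)} : Set (G ⧸ Z))).comap (QuotientGroup.mk' Z) := by
    ext x
    rw [mem_centralizer_singleton_iff, mem_comap, mem_centralizer_singleton_iff]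
    constructor
    · intro h
      have := congrArg (QuotientGroup.mk' Z) h
      simpa only [_root_.QuotientGroup.mk'_apply, _root_.QuotientGroup.mk_mul] using this
    · intro h
      have h2 : (x : G ⧸ Z) * u = u * x := h
      have h3 : u⁻¹ * (x * u * x⁻¹) ∈ Z := by
        rw [← QuotientGroup.eq_one_iff, QuotientGroup.mk_mul, QuotientGroup.mk_inv, QuotientGroup.mk_mul,
          QuotientGroup.mk_mul, QuotientGroup.mk_inv, h2, mul_inv_cancel_right, inv_mul_cancel]
      have h4 : IsConj u (u * ((⟨_, h3⟩ : Z) : G)) := by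
        rw [isConj_iff]
        exact ⟨x, by simp⟩
      have h5 := congrArg Subtype.val (eq_one_of_conj hZ hw _ h4)
      have h6 : u⁻¹ * (x * u * x⁻¹) = 1 := h5
      rw [inv_mul_eq_one] at h6
      rw [eq_comm, mul_inv_eq_iff_eq_mul] at h6
      exact h6
  obtain ⟨χ, hl, h0⟩ := exists_zero_over hZ c hw (by
    rw [hcent, card_comap, mul_comm]
    refine Nat.mul_lt_mul_of_pos_left (lt_of_lt_of_le hlt (card_good_ge' hZ c F hF)) Nat.card_pos)
  refine ⟨χ, hl, ?_⟩
  obtain ⟨M, hM⟩ := Blocks.ExistsModular.exists_isPModular hp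
  have hMp : M.IsPrime := hM.2.1.isPrime
  have h1 := H849.OZ.av_sub_mem (χ := χ) hp hMp hM.2.2 u (j := 0) (n := n) (by rw [pow_zero, one_pow, hu])
  have h3 : H732.VZ.av χ u = 0 := Subtype.ext h0
  rw [h3, pow_zero, zero_sub, Ideal.neg_mem_iff] at h1
  have h4 : H732.VZ.av χ 1 = ((charDegree (χ : G → ℂ) : ℤ) : AlgInt) := by
    apply Subtype.ext
    rw [H732.VZ.av_coe, ← H686.CharKit.charDegree_irr χ]
    simp only [_root_.Int.cast_natCast, _root_.SubringClass.coe_natCast]
  rw [h4, H732.VZ.int_mem_iff hp hMp hM.2.2] at h1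
  exact_mod_cast h1

end

/-! ### Central extensions of the symmetric group of degree five -/

abbrev P5 := Equiv.Perm (Fin 5)

/-- elements of orders `1, ..., 6` -/
def s : Fin 6 → P5 := ![1, Equiv.swap (0 : Fin 5) 1, Equiv.swap (0 : Fin 5) 1 * Equiv.swap (1 : Fin 5) 2,
  Equiv.swap (0 : Fin 5) 1 * Equiv.swap (1 : Fin 5) 2 * Equiv.swap (2 : Fin 5) 3, Equiv.swap (0 : Fin 5) 1 * Equiv.swap (1 : Fin 5) 2 * Equiv.swap (2 : Fin 5) 3 * Equiv.swap (3 : Fin 5) 4,
  Equiv.swap (0 : Fin 5) 1 * Equiv.swap (1 : Fin 5) 2 * Equiv.swap (3 : Fin 5) 4]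

theorem order_s (i : Fin 6) : orderOf (s i) = i + 1 := by
  have h : ∀ i : Fin 6, s i ^ ((i : ℕ) + 1) = 1 ∧ ∀ j < (i : ℕ) + 1, 0 < j → s i ^ j ≠ 1 := by decide +kernel
  exact (orderOf_eq_iff (Nat.succ_pos _)).2 (h i)

theorem card_cent_P5 (g : P5) : Nat.card (centralizer ({g} : Set P5)) = (univ.filter fun p : P5 => p * g = g * p).card := by
  rw [← Fintype.card_subtype, ← Nat.card_eq_fintype_card]
  exact Nat.card_congr (Equiv.subtypeEquivRight fun x => mem_centralizer_singleton_iff)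

/-- the orders of the centralizers over the orders -/
def k : Fin 6 → ℕ := ![120, 6, 2, 1, 1, 1]

theorem card_s (i : Fin 6) : Nat.card (centralizer ({s i} : Set P5)) = (i + 1) * k i := by
  rw [card_cent_P5]
  revert i
  decide +kernel

theorem mGood_s (m : ℕ) {i : Fin 6} (hi : i ≠ 1) : MGood m (s i) := by
  refine mGood_of_card (order_s i) (Nat.succ_pos _) (card_s i) fun r hr _ => ?_
  have h1 : ((i : ℕ) + 1).Coprime (k i) := by
    revert i
    decide +kernel
  by_contra hcon
  push Not at hcon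
  exact Nat.Prime.not_coprime_iff_dvd.2 ⟨r, hr, hcon.1, hcon.2⟩ h1

theorem exists_five {G : Type u} [Group G] [Finite G] (φ : G →* P5) (hφ : Function.Surjective φ)
    (hZ : φ.ker ≤ center G) (hp : ¬ 5 ∣ Nat.card φ.ker)
    (hsw : ∀ g x : G, φ g = Equiv.swap (0 : Fin 5) 1 → φ x * φ g = φ g * φ x → x * g = g * x) (c : φ.ker →* ℂˣ) :
    ∃ χ : G → ℂ, IsIrrCharacter G χ ∧ (∀ z : φ.ker, χ z = χ 1 * c z) ∧ (charDegree χ).factorization 5 = 1 := by
  classical
  have h5 : Fact (Nat.Prime 5) := ⟨by norm_num⟩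
  let e : G ⧸ φ.ker ≃* P5 := QuotientGroup.quotientKerEquivOfSurjective φ hφ
  have he : ∀ g : G, e (g : G ⧸ φ.ker) = φ g := fun g => rfl
  have hinj : Function.Injective fun i : Fin 6 => ConjClasses.mk (e.symm (s i)) := by
    intro i j hij
    have h1 : IsConj (e.symm (s i)) (e.symm (s j)) := ConjClasses.mk_eq_mk_iff_isConj.1 hij
    obtain ⟨g, hg⟩ := isConj_iff.1 h1
    have h2 : orderOf (e.symm (s i)) = orderOf (e.symm (s j)) := by
      rw [← hg, ← MulAut.conj_apply]
      exact (orderOf_injective (MulAut.conj g).toMonoidHom (MulAut.conj g).injective _).symm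
    have h3 : ∀ i, orderOf (e.symm (s i)) = i + 1 := fun i => by
      rw [← order_s i]
      exact orderOf_injective e.symm.toMonoidHom e.symm.injective _
    rw [h3, h3] at h2
    exact Fin.ext (by omega)
  have hy : orderOf (e.symm (s 4)) = 5 ^ 1 := by
    have h1 : orderOf (e.symm (s 4)) = orderOf (s 4) := orderOf_injective e.symm.toMonoidHom e.symm.injective _
    rw [h1, order_s]
    rfl
  have hC : Nat.card (centralizer ({e.symm (s 4)} : Set (G ⧸ φ.ker))) = 5 := by
    have h1 := card_s 4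
    have h2 : ((4 : Fin 6) : ℕ) + 1 = 5 := rfl
    have h3 : k 4 = 1 := rfl
    rw [h2, h3, mul_one] at h1
    refine Eq.trans ?_ h1
    refine Nat.card_congr (e.toEquiv.subtypeEquiv fun x => ?_)
    rw [mem_centralizer_singleton_iff, mem_centralizer_singleton_iff]
    show x * e.symm (s 4) = e.symm (s 4) * x ↔ e x * s 4 = s 4 * e x
    rw [← e.injective.eq_iff, map_mul, map_mul, e.apply_symm_apply]
  obtain ⟨χ, h1, h2⟩ := exists_dvd_good (Z := φ.ker) hZ hp hy c (univ.map ⟨_, hinj⟩) (by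
    intro C hCm
    obtain ⟨i, -, rfl⟩ := mem_map.1 hCm
    obtain ⟨g, hg⟩ := QuotientGroup.mk_surjective (e.symm (s i))
    refine ⟨g, congrArg _ hg, ?_⟩
    by_cases hi : i = 1
    · subst hi
      have h3 : φ g = Equiv.swap (0 : Fin 5) 1 := by
        rw [← he g, hg, e.apply_symm_apply]
        rfl
      intro x hx
      have h4 : φ (x⁻¹ * g⁻¹ * x * g) = 1 := hx
      have h5 : x * g = g * x := by
        apply hsw g x h3
        rw [map_mul, map_mul, map_mul, map_inv, map_inv] at h4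
        have h6 : φ x * φ g = φ g * φ x * ((φ x)⁻¹ * (φ g)⁻¹ * φ x * φ g) := by group
        rw [h6, h4, mul_one]
      have h6 : x⁻¹ * g⁻¹ * x * g = 1 := by
        rw [mul_assoc, h5]
        group
      have h7 : (⟨x⁻¹ * g⁻¹ * x * g, hx⟩ : φ.ker) = 1 := Subtype.ext h6
      rw [h7, map_one]
    · apply good_of_mGood hZ
      rw [hg]
      exact (mGood_s _ hi).mulEquiv e.symm) (by
    rw [hC, card_map, card_univ, Fintype.card_fin]
    norm_num)
  refine ⟨χ, χ.2, fun z => ?_, ?_⟩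
  · have h3 := h1 1 z
    rwa [one_mul] at h3
  · have h3 : charDegree (χ : G → ℂ) ∣ Nat.card G := Cfsg.Agent.H142.McKayCount.charDegree_dvd_card χ
    have h4 : Nat.card G = 120 * Nat.card φ.ker := by
      rw [card_eq_card_quotient_mul_card_subgroup φ.ker, Nat.card_congr e.toEquiv, Nat.card_eq_fintype_card]
      congr 1
    have h6 : ¬ 5 ^ 2 ∣ Nat.card G := by
      rw [h4, show (120 : ℕ) = 5 * 24 by norm_num, pow_two, mul_assoc]
      intro h
      have h7 := Nat.dvd_of_mul_dvd_mul_left (by norm_num) h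
      rcases (Nat.Prime.dvd_mul h5.out).1 h7 with h8 | h8
      · exact absurd h8 (by norm_num)
      · exact hp h8
    have h7 : charDegree (χ : G → ℂ) ≠ 0 := fun h => by
      rw [h, zero_dvd_iff] at h3
      exact Nat.card_pos.ne' h3
    apply le_antisymm
    · by_contra hcon
      push Not at hcon
      exact h6 (((h5.out.pow_dvd_iff_le_factorization h7).2 hcon).trans h3)
    · exact (h5.out.dvd_iff_one_le_factorization h7).1 h2

end Cfsg.Agent.H488.RIM
end

-- part: H488/RIM/FiTT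
section
/-!
# S4816: `Fi₂₂`, `p = 5` (helper488)

`C(u) = ⟨u⟩ × S₅`, `u` of order five; the transpositions of the `S₅` are transpositions of `Fi₂₂`, whose centralizers are
perfect, so the class of transpositions is good in every central extension.
-/

set_option autoImplicit false

namespace Cfsg.Agent.H488.RIM

open Cfsg Subgroup Cfsg.Agent.LThreeFi22 Cfsg.Agent.H836 Cfsg.Agent.H835 Cfsg.Agent.H835.Five
open Cfsg.Agent.H665.RIM Cfsg.Agent.H620.RIM Cfsg.Agent.KFacts.FiTT

universe u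

/-- over a perfect centralizer commutation lifts to central extensions -/
theorem comm_of_perfect {E S : Type*} [Group E] [Group S] {π : E →* S} (hπ : Function.Surjective π)
    (hc : π.ker ≤ center E) {g : E} (hp : Group.IsPerfect ↥(centralizer ({π g} : Set S))) {x : E}
    (hx : π x * π g = π g * π x) : x * g = g * x := by
  set D : Subgroup E := (centralizer ({π g} : Set S)).comap π with hD
  have hz : ∀ z ∈ π.ker, ∀ y : E, z * y = y * z := fun z hz y => (mem_center_iff.1 (hc hz) y).symm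
  have hk : ∀ y : D, (y : E)⁻¹ * g⁻¹ * y * g ∈ π.ker := by
    intro y
    have h1 : π y * π g = π g * π y := mem_centralizer_singleton_iff.1 (mem_comap.1 y.2)
    rw [MonoidHom.mem_ker, map_mul, map_mul, map_mul, map_inv, map_inv, mul_assoc, h1]
    group
  let ψ : D →* π.ker :=
    { toFun := fun y => ⟨(y : E)⁻¹ * g⁻¹ * y * g, hk y⟩
      map_one' := by
        apply Subtype.ext
        show (1 : E)⁻¹ * g⁻¹ * 1 * g = 1
        group
      map_mul' := by
        intro y w
        apply Subtype.ext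
        show ((y : E) * w)⁻¹ * g⁻¹ * (y * w) * g = ((y : E)⁻¹ * g⁻¹ * y * g) * ((w : E)⁻¹ * g⁻¹ * w * g)
        have h1 := hz _ (hk y) ((w : E)⁻¹)
        calc ((y : E) * w)⁻¹ * g⁻¹ * (y * w) * g = (w : E)⁻¹ * ((y : E)⁻¹ * g⁻¹ * y * g) * (g⁻¹ * w * g) := by group
          _ = ((y : E)⁻¹ * g⁻¹ * y * g) * ((w : E)⁻¹ * g⁻¹ * w * g) := by rw [← h1]; group }
  have hψ : commutator D ≤ ψ.ker := by
    rw [commutator_eq_closure, closure_le]
    rintro _ ⟨a, b, rfl⟩
    have h1 : ψ a * ψ b = ψ b * ψ a := Subtype.ext (hz _ (ψ a).2 _)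
    show ψ _ = 1
    rw [commutatorElement_def, map_mul, map_mul, map_mul, map_inv, map_inv, h1]
    group
  let r : D →* ↥(centralizer ({π g} : Set S)) :=
    { toFun := fun y => ⟨π y, y.2⟩
      map_one' := Subtype.ext (map_one π)
      map_mul' := fun y w => Subtype.ext (map_mul π _ _) }
  have hr : Function.Surjective r := by
    rintro ⟨y, hy⟩
    obtain ⟨w, rfl⟩ := hπ y
    exact ⟨⟨w, hy⟩, rfl⟩
  have h1 : (_root_.commutator D).map r = ⊤ := by
    rw [commutator_def, map_commutator, ← MonoidHom.range_eq_map, MonoidHom.range_eq_top.2 hr]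
    exact hp.commutator_eq_top
  have hxD : x ∈ D := mem_centralizer_singleton_iff.2 hx
  obtain ⟨w, hw, hwx⟩ : r ⟨x, hxD⟩ ∈ (_root_.commutator D).map r := by rw [h1]; trivial
  have h2 : π w = π x := congrArg Subtype.val hwx
  have h3 : (w : E)⁻¹ * x ∈ π.ker := by rw [MonoidHom.mem_ker, map_mul, map_inv, h2, inv_mul_cancel]
  have h4 : (w : E)⁻¹ * g⁻¹ * w * g = 1 := congrArg Subtype.val (hψ hw : ψ w = 1)
  have h5 : (w : E) * g = g * w := by
    have h6 : (w : E) * g = g * w * ((w : E)⁻¹ * g⁻¹ * w * g) := by group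
    rw [h6, h4, mul_one]
  have h6 : x = w * ((w : E)⁻¹ * x) := by group
  rw [h6, mul_assoc, hz _ h3 g, ← mul_assoc, h5, mul_assoc]

theorem perfect_cent {K : Type*} [Group K] (e : K ≃* Spor.Fi22) {a : K} (ha : a ∈ TK e) :
    Group.IsPerfect ↥(centralizer ({a} : Set K)) := by
  obtain ⟨b, hb, hne, hab⟩ := exists_nbr e ha
  obtain ⟨R, F⟩ := KFacts.FiTT.facts_of_iso e ha hb hne hab
  exact F.quasi.1

theorem nb_five {K : Type u} [Group K] [Finite K] (e : K ≃* Spor.Fi22) {m : ℕ} (hm : ¬ 5 ∣ m) : NB.{u} 5 m K := by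
  have h5 : Fact (Nat.Prime 5) := ⟨by norm_num⟩
  have I := inv_of_iso e
  obtain ⟨u, hu⟩ := exists_prime_orderOf_dvd_card' (G := K) 5 (by rw [I.ctx.card]; norm_num)
  have hu5 : u ^ 5 = 1 := by rw [← hu, pow_orderOf_eq_one]
  have hu1 : u ≠ 1 := by
    rintro rfl
    rw [orderOf_one] at hu
    norm_num at hu
  obtain ⟨f, hf, hS, hcl⟩ := exists_sym I.ctx hu5 hu1
  have hle : f.range ≤ centralizer ({u} : Set K) := by
    rw [← hcl, closure_le]
    intro t ht
    exact mem_centralizer_singleton_iff.2 ht.2.symm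
  have hn : ∀ g ∈ centralizer ({u} : Set K), ∀ p : SporRec.Co3.P5, p.IsSwap →
      ∃ q : SporRec.Co3.P5, q.IsSwap ∧ g * f p * g⁻¹ = f q := fun g hg => norm_hyp I hS g (by
    rw [← H836.Main.centralizer_zpowers] at hg
    exact centralizer_le_normalizer _ hg)
  have hsup := SymFive.sup_eq f hf hle hn
  have hinf := SymFive.inf_bot f hf (centralizer ({u} : Set K))
  have hZ := card_cz I hu5 hu1
  have hQ : centralizer ({u} : Set K) ⊓ centralizer (f.range : Set K) = zpowers u := by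
    rw [← hcl, centralizer_closure]
    symm
    apply eq_of_le_of_card_ge
    · rw [zpowers_le]
      exact ⟨mem_centralizer_singleton_iff.2 rfl, mem_centralizer_iff.2 fun c hc => hc.2.symm⟩
    · rw [hZ, Nat.card_zpowers, hu]
  rw [hQ] at hsup hinf
  have hL : Nat.card f.range = 120 := by
    rw [Nat.card_congr (MonoidHom.ofInjective hf).symm.toEquiv, Nat.card_eq_fintype_card]
    rfl
  refine H35.RIM.nb_of_elt hm hu hsup.symm hinf (by rw [I.ctx.card]; norm_num) ?_
  intro E _ _ π hπ hc _ hcard l _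
  let φ₀ : ↥(f.range.comap π) →* f.range :=
    { toFun := fun y => ⟨π y, y.2⟩
      map_one' := Subtype.ext (map_one π)
      map_mul' := fun y w => Subtype.ext (map_mul π _ _) }
  let φ : ↥(f.range.comap π) →* P5 := (MonoidHom.ofInjective hf).symm.toMonoidHom.comp φ₀
  have hφ₀ : Function.Surjective φ₀ := by
    rintro ⟨y, hy⟩
    obtain ⟨w, rfl⟩ := hπ y
    exact ⟨⟨w, hy⟩, rfl⟩
  have hφ : Function.Surjective φ := (MonoidHom.ofInjective hf).symm.surjective.comp hφ₀
  have hfφ : ∀ y, f (φ y) = π y := by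
    intro y
    have h1 : (MonoidHom.ofInjective hf) (φ y) = φ₀ y := (MonoidHom.ofInjective hf).apply_symm_apply _
    exact congrArg Subtype.val h1
  have hker : ∀ y : ↥(f.range.comap π), y ∈ φ.ker ↔ (y : E) ∈ π.ker := by
    intro y
    rw [MonoidHom.mem_ker, MonoidHom.mem_ker, ← hfφ, map_eq_one_iff f hf]
  let j : φ.ker →* π.ker :=
    { toFun := fun y => ⟨(y : ↥(f.range.comap π)), (hker _).1 y.2⟩
      map_one' := rfl
      map_mul' := fun _ _ => rfl }
  have hj : Function.Injective j := by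
    intro y w h
    apply Subtype.ext
    apply Subtype.ext
    exact congrArg (Subtype.val : π.ker → E) h
  have hkc : ¬ 5 ∣ Nat.card φ.ker := by
    intro h
    exact hm (hcard ▸ h.trans (card_dvd_of_injective j hj))
  obtain ⟨θ, h1, h2, h3⟩ := exists_five φ hφ (by
    intro y hy
    rw [mem_center_iff]
    intro w
    exact Subtype.ext (mem_center_iff.1 (hc ((hker y).1 hy)) w)) hkc (by
    intro g x hg hx
    have h4 : π g ∈ TK e := by
      have h5 : f (Equiv.swap (0 : Fin 5) 1) ∈ Fx (TK e) u :=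
        (hS _).2 ⟨Equiv.swap (0 : Fin 5) 1, ⟨0, 1, by decide, rfl⟩, rfl⟩
      rw [← hg, hfφ] at h5
      exact h5.1
    have h6 : π x * π g = π g * π x := by
      rw [← hfφ, ← hfφ, ← map_mul, hx, map_mul]
    exact Subtype.ext (comm_of_perfect hπ hc (perfect_cent e h4) h6)) (l.comp j)
  refine ⟨θ, h1, ?_, ?_⟩
  · intro z hz hz'
    exact h2 ⟨⟨z, hz'⟩, (hker _).2 hz⟩
  · rw [h3, hL]
    have h4 : (120 : ℕ) = 5 ^ 1 * 24 := by norm_num
    rw [h4, Nat.factorization_mul (by norm_num) (by norm_num), Finsupp.add_apply, h5.out.factorization_pow,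
      Finsupp.single_eq_same, Nat.factorization_eq_zero_of_not_dvd (by norm_num)]

/-- **S4816, `Fi₂₂`, `p = 5`** -/
theorem nball_five {K : Type u} [Group K] [Finite K] (h : Spor.IsoFi22 K) : NBall.{u} 5 K := by
  obtain ⟨e⟩ := id h
  exact fun m _ hm => nb_five e hm

end Cfsg.Agent.H488.RIM
end

-- part: H5/RIM/FiOrd
section
/-!
# `Fi24'`: elements of 18 different orders prime to 3 (helper5, for S4816)

`exists_order` : for every `n` in `[1, 2, 4, 5, 7, 8, 10, 11, 13, 14, 17, 20, 22, 23, 26, 28, 29, 35]` an element of order `n`.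
-/

set_option autoImplicit false
set_option maxRecDepth 100000
set_option linter.constructorNameAsVariable false

open Cfsg Subgroup

namespace Cfsg.Agent.H5.RIM

open Cfsg.Spor (Fi24)
open Cfsg.Spor.Fi24 (Gen)
open Cfsg.Agent.H153.Dl Cfsg.Agent.H153.Dl.PR Cfsg.Agent.Lib.PermNetPt
open Cfsg.Agent.R08.FiTwentyFour (index_commutator)

theorem word_mem (l : List Gen) : R24.word l ∈ _root_.commutator Fi24 ↔ Even l.length := by
  show Fischer.Fi24Rep.word l ∈ _root_.commutator Fi24 ↔ Even l.length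
  induction l with
  | nil =>
    rw [Fischer.Fi24Spider.word_nil]
    exact ⟨fun _ => by simp only [_root_.List.length_nil, _root_.Even.zero], fun _ => one_mem _⟩
  | cons c l ih =>
    have hc : Fischer.Fi24Rep.gen c ∉ _root_.commutator Fi24 :=
      Cfsg.Agent.R08.FiTwentyFour.odd (Cfsg.Agent.R08.FiTwentyFour.gen_mem_L c)
    rw [Fischer.Fi24Spider.word_cons, Subgroup.mul_mem_iff_of_index_two index_commutator, ih, List.length_cons,
      Nat.even_add_one]
    (clear * - hc; itauto)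

theorem pow_of {xw : List Gen} {k : ℕ} (h : R24.chkEq (rep k xw) [] = true) : R24.word xw ^ k = 1 := by
  have h2 : R24.word (rep k xw) = R24.word [] := R24.word_eq_of h
  have h3 : R24.word (rep k xw) = R24.word xw ^ k := R24.word_rep k xw
  rw [← h3, h2]
  exact R24.word_nil

theorem pow_ne_of {xw : List Gen} {k p : ℕ} (h : Nat.beq (winv (R24.nw (rep k xw)) p) p = false) :
    R24.word xw ^ k ≠ 1 := by
  intro h1
  have h2 : winv (R24.nw (rep k xw)) p = R24.rho (R24.word (rep k xw))⁻¹ p := R24.winv_word (rep k xw) p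
  have h3 : R24.word (rep k xw) = R24.word xw ^ k := R24.word_rep k xw
  rw [h3, h1, inv_one, map_one, Equiv.Perm.one_apply] at h2
  rw [h2, Nat.beq_refl] at h
  exact Bool.noConfusion h

/-- the order from the kernel checks -/
theorem order_of {xw : List Gen} {n : ℕ} (l : List ℕ) (hn : 0 < n) (hl : ∀ r, r.Prime → r ∣ n → r ∈ l)
    (h : R24.chkEq (rep n xw) [] = true) (h' : ∀ r ∈ l, R24.word xw ^ (n / r) ≠ 1) : orderOf (R24.word xw) = n :=
  orderOf_eq_of_pow_and_pow_div_prime hn (pow_of h) fun r hr hd => h' r (hl r hr hd)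

theorem mem_of_dvd {n : ℕ} (hn : n ≠ 0) (l : List ℕ) (h : n.primeFactors ⊆ l.toFinset) :
    ∀ r, r.Prime → r ∣ n → r ∈ l := fun _ hr hd => List.mem_toFinset.1 (h (Nat.mem_primeFactors.2 ⟨hr, hd, hn⟩))

def w8 : List Gen := [.c, .h, .e, .b, .c, .f, .d, .l]

def w20 : List Gen := [.f, .h, .a, .j, .l, .k, .d, .e]

def w22 : List Gen := [.h, .l, .g, .d, .a, .b, .j, .g, .c, .e, .i, .d, .e, .f]

def w26 : List Gen := [.d, .j, .a, .b, .c, .h, .i, .f, .e, .l]

def w28 : List Gen := [.d, .l, .b, .j, .h, .i, .g, .c, .e, .f]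

def w35 : List Gen := [.b, .a, .l, .f, .k, .e, .h, .j, .d, .g]

theorem o_w8 : orderOf (R24.word w8) = 8 := by
  refine order_of [2] (by norm_num) (mem_of_dvd (by norm_num) _ (by decide +kernel)) (by decide +kernel) ?_
  intro r hr
  simp only [List.mem_cons, List.not_mem_nil, or_false] at hr
  subst hr
  exact pow_ne_of (p := 1) (by decide +kernel)

theorem o_w20 : orderOf (R24.word w20) = 20 := by
  refine order_of [2, 5] (by norm_num) (mem_of_dvd (by norm_num) _ (by decide +kernel)) (by decide +kernel) ?_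
  intro r hr
  simp only [List.mem_cons, List.not_mem_nil, or_false] at hr
  rcases hr with rfl | rfl
  · exact pow_ne_of (p := 0) (by decide +kernel)
  · exact pow_ne_of (p := 2) (by decide +kernel)

set_option Elab.async false in
theorem o_w22 : orderOf (R24.word w22) = 22 := by
  refine order_of [2, 11] (by norm_num) (mem_of_dvd (by norm_num) _ (by decide +kernel)) (by (rewrite [show @Cfsg.Agent.H153.Dl.PR.chkEq = delta% @Cfsg.Agent.H153.Dl.PR.chkEq from by delta Cfsg.Agent.H153.Dl.PR.chkEq; rfl, Cfsg.Agent.Lib.PermNetFast.winv_fast]; decide +kernel)) ?_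
  intro r hr
  simp only [List.mem_cons, List.not_mem_nil, or_false] at hr
  rcases hr with rfl | rfl
  · exact pow_ne_of (p := 1) (by decide +kernel)
  · exact pow_ne_of (p := 1) (by decide +kernel)

set_option Elab.async false in
theorem o_w26 : orderOf (R24.word w26) = 26 := by
  refine order_of [2, 13] (by norm_num) (mem_of_dvd (by norm_num) _ (by decide +kernel)) (by (rewrite [show @Cfsg.Agent.H153.Dl.PR.chkEq = delta% @Cfsg.Agent.H153.Dl.PR.chkEq from by delta Cfsg.Agent.H153.Dl.PR.chkEq; rfl, Cfsg.Agent.Lib.PermNetFast.winv_fast]; decide +kernel)) ?_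
  intro r hr
  simp only [List.mem_cons, List.not_mem_nil, or_false] at hr
  rcases hr with rfl | rfl
  · exact pow_ne_of (p := 8) (by decide +kernel)
  · exact pow_ne_of (p := 1) (by decide +kernel)

set_option Elab.async false in
theorem o_w28 : orderOf (R24.word w28) = 28 := by
  refine order_of [2, 7] (by norm_num) (mem_of_dvd (by norm_num) _ (by decide +kernel)) (by (rewrite [show @Cfsg.Agent.H153.Dl.PR.chkEq = delta% @Cfsg.Agent.H153.Dl.PR.chkEq from by delta Cfsg.Agent.H153.Dl.PR.chkEq; rfl, Cfsg.Agent.Lib.PermNetFast.winv_fast]; decide +kernel)) ?_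
  intro r hr
  simp only [List.mem_cons, List.not_mem_nil, or_false] at hr
  rcases hr with rfl | rfl
  · exact pow_ne_of (p := 1) (by decide +kernel)
  · exact pow_ne_of (p := 1) (by decide +kernel)

set_option Elab.async false in
theorem o_w35 : orderOf (R24.word w35) = 35 := by
  refine order_of [5, 7] (by norm_num) (mem_of_dvd (by norm_num) _ (by decide +kernel)) (by (rewrite [show @Cfsg.Agent.H153.Dl.PR.chkEq = delta% @Cfsg.Agent.H153.Dl.PR.chkEq from by delta Cfsg.Agent.H153.Dl.PR.chkEq; rfl, Cfsg.Agent.Lib.PermNetFast.winv_fast]; decide +kernel)) ?_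
  intro r hr
  simp only [List.mem_cons, List.not_mem_nil, or_false] at hr
  rcases hr with rfl | rfl
  · exact pow_ne_of (p := 0) (by decide +kernel)
  · exact pow_ne_of (p := 2) (by decide +kernel)

theorem exists_word {xw : List Gen} {n : ℕ} (h : orderOf (R24.word xw) = n) (he : Even xw.length) :
    ∃ g : Spor.Fi24', orderOf g = n :=
  ⟨⟨R24.word xw, (word_mem xw).2 he⟩, by rw [← h, ← Subgroup.orderOf_coe]⟩

theorem exists_pow {G : Type*} [Group G] {n : ℕ} (h : ∃ g : G, orderOf g = n) (k m : ℕ) (hk : k ≠ 0) (hm : n = k * m) :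
    ∃ g : G, orderOf g = m := by
  obtain ⟨g, hg⟩ := h
  refine ⟨g ^ k, ?_⟩
  rw [orderOf_pow_of_dvd hk (by rw [hg, hm]; exact Dvd.intro _ rfl), hg, hm, Nat.mul_div_cancel_left _ (Nat.pos_of_ne_zero hk)]

theorem card_fi : Nat.card Spor.Fi24' = 1255205709190661721292800 := R08.FiTwentyFour.card_commutator

/-- the orders -/
def ords : List ℕ := [1, 2, 4, 5, 7, 8, 10, 11, 13, 14, 17, 20, 22, 23, 26, 28, 29, 35]

theorem exists_order : ∀ n ∈ ords, ∃ g : Spor.Fi24', orderOf g = n := by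
  have hfin := H968.Tor.finite24
  have h8 := exists_word o_w8 (by decide)
  have h20 := exists_word o_w20 (by decide)
  have h22 := exists_word o_w22 (by decide)
  have h26 := exists_word o_w26 (by decide)
  have h28 := exists_word o_w28 (by decide)
  have h35 := exists_word o_w35 (by decide)
  have hc : ∀ p : ℕ, p.Prime → p ∣ Nat.card Spor.Fi24' → ∃ g : Spor.Fi24', orderOf g = p := fun p hp hd => by
    have : Fact p.Prime := ⟨hp⟩
    exact exists_prime_orderOf_dvd_card' p hd
  intro n hn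
  simp only [ords, List.mem_cons, List.not_mem_nil, or_false] at hn
  rcases hn with rfl | rfl | rfl | rfl | rfl | rfl | rfl | rfl | rfl | rfl | rfl | rfl | rfl | rfl | rfl | rfl | rfl | rfl
  · exact ⟨1, orderOf_one⟩
  · exact exists_pow h8 4 2 (by norm_num) (by norm_num)
  · exact exists_pow h8 2 4 (by norm_num) (by norm_num)
  · exact exists_pow h20 4 5 (by norm_num) (by norm_num)
  · exact exists_pow h28 4 7 (by norm_num) (by norm_num)
  · exact h8
  · exact exists_pow h20 2 10 (by norm_num) (by norm_num)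
  · exact exists_pow h22 2 11 (by norm_num) (by norm_num)
  · exact exists_pow h26 2 13 (by norm_num) (by norm_num)
  · exact exists_pow h28 2 14 (by norm_num) (by norm_num)
  · exact hc 17 (by norm_num) (by rw [card_fi]; norm_num)
  · exact h20
  · exact h22
  · exact hc 23 (by norm_num) (by rw [card_fi]; norm_num)
  · exact h26
  · exact h28
  · exact hc 29 (by norm_num) (by rw [card_fi]; norm_num)
  · exact h35

end Cfsg.Agent.H5.RIM
end

-- part: H5/RIM/Fi24
section
/-!
# S4816: `Fi24'`, `p = 17, 23, 29` (helper5)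

`nball_17`, `nball_23`, `nball_29` : the defect zero count with 18 classes of elements of order prime to 3.
-/

set_option autoImplicit false
set_option maxRecDepth 100000

open Cfsg Subgroup

namespace Cfsg.Agent.H5.RIM

open Cfsg.Spor (Fi24)
open Cfsg.Spor.Fi24 (Gen)
open Cfsg.Agent.H665.RIM Cfsg.Agent.H620.RIM Cfsg.Agent.H153.Dl
open Cfsg.Agent.R08.FiTwentyFour (index_commutator)

universe u

/-- classes separated by the orders -/
theorem exists_F {S : Type u} [Group S] {m : ℕ} (l : List ℕ) (hl : l.Nodup)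
    (h : ∀ n ∈ l, n.Coprime m ∧ ∃ g : S, orderOf g = n) :
    ∃ F : Finset (ConjClasses S), F.card = l.length ∧ ∀ C ∈ F, ∃ g : S, ConjClasses.mk g = C ∧ MGood m g := by
  classical
  choose f hf using fun n : {n // n ∈ l.toFinset} => (h n.1 (List.mem_toFinset.1 n.2)).2
  have hinj : Function.Injective fun n : {n // n ∈ l.toFinset} => ConjClasses.mk (f n) := by
    intro a b hab
    have h1 : IsConj (f a) (f b) := ConjClasses.mk_eq_mk_iff_isConj.1 hab
    obtain ⟨c, hc⟩ := isConj_iff.1 h1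
    have h2 : orderOf (f b) = orderOf (f a) := by
      rw [← hc, ← MulAut.conj_apply, MulEquiv.orderOf_eq]
    apply Subtype.ext
    rw [← hf a, ← hf b, h2]
  refine ⟨l.toFinset.attach.image fun n : {n // n ∈ l.toFinset} => ConjClasses.mk (f n), ?_, ?_⟩
  · rw [Finset.card_image_of_injective _ hinj, Finset.card_attach, List.toFinset_card_of_nodup hl]
  · intro C hC
    obtain ⟨n, -, rfl⟩ := Finset.mem_image.1 hC
    refine ⟨f n, rfl, mGood_of_coprime ?_⟩
    rw [hf n]
    exact (h n.1 (List.mem_toFinset.1 n.2)).1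

/-- normalizers in `Fi24'` and in `Fi24` -/
theorem card_norm [Finite Fi24] {x : Fi24} (hx : x ∈ _root_.commutator Fi24) {d : Fi24}
    (hd : d ∈ normalizer ((zpowers x : Subgroup Fi24) : Set Fi24)) (hd' : d ∉ commutator Fi24) :
    Nat.card (normalizer ((zpowers (⟨x, hx⟩ : Spor.Fi24') : Subgroup Spor.Fi24') : Set Spor.Fi24')) * 2 =
      Nat.card (normalizer ((zpowers x : Subgroup Fi24) : Set Fi24)) := by
  set N := normalizer ((zpowers x : Subgroup Fi24) : Set Fi24) with hN
  have hz : ∀ g : Spor.Fi24', g ∈ zpowers (⟨x, hx⟩ : Spor.Fi24') ↔ (g : Fi24) ∈ zpowers x := by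
    intro g
    rw [mem_zpowers_iff, mem_zpowers_iff]
    constructor
    · rintro ⟨k, rfl⟩
      exact ⟨k, rfl⟩
    · rintro ⟨k, hk⟩
      exact ⟨k, Subtype.ext hk⟩
  have e : ∀ g : Spor.Fi24', g ∈ normalizer ((zpowers (⟨x, hx⟩ : Spor.Fi24') : Subgroup Spor.Fi24') : Set Spor.Fi24') ↔
      (g : Fi24) ∈ N := by
    intro g
    rw [hN, mem_normalizer_iff, mem_normalizer_iff]
    constructor
    · intro h n
      have hle : ∀ a : Fi24, a ∈ zpowers x → a ∈ commutator Fi24 := fun a ha => (zpowers_le.2 hx) ha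
      constructor
      · intro hn
        exact (hz _).1 ((h ⟨n, hle n hn⟩).1 ((hz ⟨n, hle n hn⟩).2 hn))
      · intro hn
        have h1 : n ∈ commutator Fi24 := by
          have h2 := Subgroup.Normal.conj_mem (inferInstance : (commutator Fi24).Normal) _ (hle _ hn) (g : Fi24)⁻¹
          have e2 : (g : Fi24)⁻¹ * ((g : Fi24) * n * (g : Fi24)⁻¹) * (g : Fi24)⁻¹⁻¹ = n := by group
          rwa [e2] at h2
        exact (hz ⟨n, h1⟩).1 ((h ⟨n, h1⟩).2 ((hz _).2 hn))
    · intro h n
      rw [hz, hz]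
      exact h n
  have h1 : Nat.card (normalizer ((zpowers (⟨x, hx⟩ : Spor.Fi24') : Subgroup Spor.Fi24') : Set Spor.Fi24')) =
      Nat.card ((_root_.commutator Fi24).subgroupOf N) := by
    refine Nat.card_congr ⟨fun g => ⟨⟨((g : Spor.Fi24') : Fi24), (e _).1 g.2⟩, (g : Spor.Fi24').2⟩,
      fun g => ⟨⟨((g : N) : Fi24), g.2⟩, (e _).2 (g : N).2⟩, fun _ => rfl, fun _ => rfl⟩
  have h2 : ((commutator Fi24).subgroupOf N).index = 2 := by
    have h1 : (commutator Fi24).relIndex N ∣ 2 := by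
      rw [← index_commutator]
      exact Subgroup.relIndex_dvd_index_of_normal _ _
    have h2 : (commutator Fi24).relIndex N ≠ 1 := fun h => hd' (Subgroup.relIndex_eq_one.1 h hd)
    exact ((Nat.dvd_prime Nat.prime_two).1 h1).resolve_left h2
  rw [h1, ← h2]
  exact Subgroup.card_mul_index _

/-- perfect central extensions of `Fi24'` -/
theorem dvd_three {S : Type u} [Group S] (h : Spor.IsoFi24' S) {E : Type u} [Group E] [Finite E] {π : E →* S}
    (hs : Function.Surjective π) (hc : π.ker ≤ center E) (hperf : commutator E = ⊤) : Nat.card π.ker ∣ 3 := by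
  obtain ⟨f⟩ := h
  have h1 : H51.Mult.PCE (f.toMonoidHom.comp π) := ⟨f.surjective.comp hs, by
    intro x hx
    have h2 : f (π x) = 1 := hx
    rw [f.map_eq_one_iff] at h2
    exact hc h2, hperf⟩
  have h2 := (H68.Bounds.ker_of_hasCyclic S2055.result h1).2
  have h3 : (f.toMonoidHom.comp π).ker = π.ker := by
    ext x
    exact f.map_eq_one_iff
  rwa [h3] at h2

/-- **the count** -/
theorem nball {S : Type u} [Group S] (h : Spor.IsoFi24' S) {p w : ℕ} (hp : p.Prime)
    (hsq : ¬ p ^ 2 ∣ 1255205709190661721292800) {y : Spor.Fi24'} (hy : orderOf y = p)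
    (hC : Nat.card (centralizer ({y} : Set Spor.Fi24')) = p)
    (hN : Nat.card (normalizer ((zpowers y : Subgroup Spor.Fi24') : Set Spor.Fi24')) = w * p)
    (hlt : w ^ 2 + (p - 1) < w * 18) : NBall p S := by
  intro m hm hpm
  by_cases h3 : m = 3
  · subst h3
    obtain ⟨e⟩ := h
    obtain ⟨F, hF, hF'⟩ := exists_F (S := S) (m := 3) ords (by decide) (by
      intro n hn
      refine ⟨?_, ?_⟩
      · simp only [ords, List.mem_cons, List.not_mem_nil, or_false] at hn
        rcases hn with rfl | rfl | rfl | rfl | rfl | rfl | rfl | rfl | rfl | rfl | rfl | rfl | rfl | rfl | rfl | rfl | rfl | rfl <;>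
          norm_num
      · obtain ⟨g, hg⟩ := exists_order n hn
        exact ⟨e.symm g, by rw [MulEquiv.orderOf_eq, hg]⟩)
    refine nb_of_dz_self hp hpm (y := e.symm y) (w := w) ?_ ?_ ?_ ?_ F hF' ?_
    · rw [Nat.card_congr e.toEquiv, card_fi]
      exact hsq
    · rw [MulEquiv.orderOf_eq, hy]
    · rw [card_centralizer_congr e.symm y, hC]
    · rw [card_normalizer_congr e.symm y, hN]
    · rw [hF]
      exact hlt
  · intro E _ _ π hs hc hperf hk l hl
    exfalso
    have h1 := dvd_three h hs hc hperf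
    rw [hk] at h1
    rcases (Nat.dvd_prime Nat.prime_three).1 h1 with h2 | h2
    · omega
    · exact h3 h2

theorem odd_l : Fischer.Fi24Rep.gen .l ∉ _root_.commutator Fi24 :=
  Cfsg.Agent.R08.FiTwentyFour.odd (Cfsg.Agent.R08.FiTwentyFour.gen_mem_L .l)

theorem norm_of_cent {G : Type*} [Group G] {x d : G} (h : d ∈ centralizer ((zpowers x : Subgroup G) : Set G)) :
    d ∈ normalizer ((zpowers x : Subgroup G) : Set G) := centralizer_le_normalizer _ h

theorem l_17 : Fischer.Fi24Rep.gen .l ∈ centralizer ((zpowers H843.D17.D.x : Subgroup Fi24) : Set Fi24) := by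
  have h4 : Fischer.Fi24Rep.gen .l ∈ R08.FiTwentyFour.L ∩
      (centralizer ((zpowers H843.D17.D.x : Subgroup Fi24) : Set Fi24) : Set Fi24) := by
    rw [H843.D17.inter]; rfl
  exact h4.2

theorem l_23 : Fischer.Fi24Rep.gen .l ∈ centralizer ((zpowers H843.D23.D.x : Subgroup Fi24) : Set Fi24) := by
  have h4 : Fischer.Fi24Rep.gen .l ∈ R08.FiTwentyFour.L ∩
      (centralizer ((zpowers H843.D23.D.x : Subgroup Fi24) : Set Fi24) : Set Fi24) := by
    rw [H843.D23.inter]; rfl
  exact h4.2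

/-- **`Fi24'`, `p = 17`** -/
theorem nball_17 {S : Type u} [Group S] (h : Spor.IsoFi24' S) : NBall 17 S := by
  have hfin := R08.FiTwentyFour.finite_Fi24
  have hx : H843.D17.D.x ∈ _root_.commutator Fi24 := H843.Fi24N.mem_commutator (by rw [H843.D17.order]; decide)
  have hy : orderOf (⟨H843.D17.D.x, hx⟩ : Spor.Fi24') = 17 := by rw [← Subgroup.orderOf_coe]; exact H843.D17.order
  have h2 := card_norm hx (norm_of_cent l_17) odd_l
  rw [H843.D17.main.1] at h2
  exact nball h (w := 16) (by norm_num) (by norm_num) hy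
    (H968.Tor.card_cent24 (by norm_num) (by norm_num) (fun _ hR => (H256.Sep.FiData.data17 hR).1) hy) (by omega)
    (by norm_num)

/-- **`Fi24'`, `p = 23`** -/
theorem nball_23 {S : Type u} [Group S] (h : Spor.IsoFi24' S) : NBall 23 S := by
  have hfin := R08.FiTwentyFour.finite_Fi24
  have hx : H843.D23.D.x ∈ _root_.commutator Fi24 := H843.Fi24N.mem_commutator (by rw [H843.D23.order]; decide)
  have hy : orderOf (⟨H843.D23.D.x, hx⟩ : Spor.Fi24') = 23 := by rw [← Subgroup.orderOf_coe]; exact H843.D23.order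
  have h2 := card_norm hx (norm_of_cent l_23) odd_l
  rw [H843.D23.main.1] at h2
  exact nball h (w := 11) (by norm_num) (by norm_num) hy
    (H968.Tor.card_cent24 (by norm_num) (by norm_num) (fun _ hR => (H256.Sep.FiData.data23 hR).1) hy) (by omega)
    (by norm_num)

/-- **`Fi24'`, `p = 29`** -/
theorem nball_29 {S : Type u} [Group S] (h : Spor.IsoFi24' S) : NBall 29 S := by
  have hfin := R08.FiTwentyFour.finite_Fi24
  have hx : H843.D29.D.x ∈ _root_.commutator Fi24 := H843.Fi24N.mem_commutator (by rw [H843.D29.order]; decide)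
  have hy : orderOf (⟨H843.D29.D.x, hx⟩ : Spor.Fi24') = 29 := by rw [← Subgroup.orderOf_coe]; exact H843.D29.order
  have hodd : R24.word H843.D29.w12 ∉ commutator Fi24 := by
    rw [word_mem]
    decide
  have hn : R24.word H843.D29.w12 ∈ normalizer ((zpowers H843.D29.D.x : Subgroup Fi24) : Set Fi24) :=
    H843.Fi24N.mem_normalizer (H843.Fi24N.conj_of H843.D29.h12)
  have h2 := card_norm hx hn hodd
  rw [H843.D29.main.1] at h2
  exact nball h (w := 14) (by norm_num) (by norm_num) hy (H968.Tor.card_cent29 hy) (by omega) (by norm_num)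

end Cfsg.Agent.H5.RIM
end

-- part: H620/RIM/SporB
section
/-!
# S4816: rows of the sporadic groups, second batch (helper620)

Fields of `RowsNB` and `RowsKill`: `f_m12`, `f_j2`, `f_fi22`, `k_m12`, `k_fi22`, `k_fi24`, `k_b`.
-/

set_option autoImplicit false
set_option linter.unusedSectionVars false

namespace Cfsg.Agent.H620.RIM

open Cfsg Cfsg.Agent.H665.RIM Cfsg.Agent.H325.RIM Cfsg.Agent.OrdDiv Cfsg.Agent.H436

universe u

theorem f_m12 : NBRow 3 .m12 := fun _ _ _ hS _ => H243.RIM.MTw.nball hS.real (Or.inl rfl)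

theorem f_j2 : NBRow 3 .j2 := fun _ _ _ hS _ => H315.RIM.J2Three.nball_j2_3 hS.real

theorem f_fi22 : NBRow 3 .fi22 := fun _ _ _ hS _ => H878.RIM.Fi.nball_three hS.real

theorem k_m12 : ∀ p : ℕ, p = 5 ∨ p = 11 → KillRow.{u} p .m12 := by
  rintro p (rfl | rfl) S _ _ hS
  · exact Or.inl (H243.RIM.MTw.nball hS.real (Or.inr (Or.inl rfl)))
  · exact Or.inl (H243.RIM.MTw.nball hS.real (Or.inr (Or.inr rfl)))

theorem k_fi22 : ∀ p : ℕ, p = 5 ∨ p = 7 ∨ p = 11 ∨ p = 13 → KillRow.{u} p .fi22 := by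
  rintro p (rfl | rfl | rfl | rfl) S _ _ hS
  · exact Or.inl (H488.RIM.nball_five hS.real)
  · exact Or.inl (H878.RIM.Fi.nball_seven hS.real)
  · exact Or.inl (H878.RIM.Fi.nball_eleven hS.real)
  · exact Or.inl (H878.RIM.Fi.nball_thirteen hS.real)

theorem k_fi24 : ∀ p : ℕ, p = 5 ∨ p = 11 ∨ p = 13 ∨ p = 17 ∨ p = 23 ∨ p = 29 → KillRow.{u} p .fi24 := by
  rintro p (rfl | rfl | rfl | rfl | rfl | rfl) S _ _ hS
  · exact Or.inr (H388.RI.FiRow.ek_fi24 hS.real (by norm_num) (by norm_num))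
  · exact Or.inr (H388.RI.FiRow.ek_fi24 hS.real (by norm_num) (by norm_num))
  · exact Or.inr (H388.RI.FiRow.ek_fi24 hS.real (by norm_num) (by norm_num))
  · exact Or.inl (H5.RIM.nball_17 hS.real)
  · exact Or.inl (H5.RIM.nball_23 hS.real)
  · exact Or.inl (H5.RIM.nball_29 hS.real)

theorem k_b : ∀ p : ℕ, p = 7 ∨ p = 11 ∨ p = 13 ∨ p = 17 ∨ p = 19 ∨ p = 23 ∨ p = 31 ∨ p = 47 → KillRow.{u} p .b := by
  rintro p (rfl | rfl | rfl | rfl | rfl | rfl | rfl | rfl) S _ _ hS
  · exact Or.inr (H149.RI.Baby.ek_seven hS.real)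
  · exact Or.inr (H149.RI.Baby.ek_eleven hS.real)
  · exact Or.inr (H149.RI.Baby.ek_thirteen hS.real)
  · exact Or.inr (H149.RI.Baby.ek_seventeen hS.real)
  · exact Or.inr (H149.RI.Baby.ek_nineteen hS.real)
  · exact Or.inr (H149.RI.Baby.ek_twentythree hS.real)
  · exact Or.inr (H149.RI.Baby.ek_thirtyone hS.real)
  · exact Or.inr (H149.RI.Baby.ek_fortyseven hS.real)

end Cfsg.Agent.H620.RIM
end

private theorem dce_90f083ef2795 : _root_.True := by
  try have : _root_.True := by simp only [_root_.Cfsg.Agent.H5.RIM.ords.eq_1]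
  exact _root_.True.intro
end
end
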